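import Cfsg.Agent.Lib.Linear.OTWreath.Decomp

/-!
# An invariant space closed under the bracket of square-zero elements meets a commutant
-/

set_option autoImplicit false
set_option linter.unusedSectionVars false
set_option linter.unusedSimpArgs false
set_option linter.style.haveILetI false
set_option linter.unusedVariables false

namespace Cfsg.Lib.Linear.OTWreath

open Cfsg.Geo Cfsg.Lib.Linear.AschGen Cfsg.Lib.Linear.TWreath
open Cfsg.Lib.Linear.OOTensor (qf)
open scoped Matrix MatrixGroups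

variable {F : Type*} [Field F] {k m t : ℕ}

namespace Dia

variable (D : Dia k F)

/-- The symmetric matrix of two vectors. -/
def cW (x a : Fin k → F) : Matrix (Fin k) (Fin k) F :=
  Matrix.vecMulVec x (D.dual a) + Matrix.vecMulVec a (D.dual x)

theorem cW_mulVec (x a w : Fin k → F) : D.cW x a *ᵥ w = D.formW a w • x + D.formW x w • a := by
  rw [cW, Matrix.add_mulVec, vmv_mulVec, vmv_mulVec]

theorem conj_cW {g : GL (Fin k) F} (hg : g ∈ isometryGroup F (qf D.formW)) (x a : Fin k → F) :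
    conjA g (D.cW x a) = D.cW (g.val *ᵥ x) (g.val *ᵥ a) := by
  rw [cW, map_add, D.conj_vmv hg, D.conj_vmv hg]
  rfl

/-- An invariant space closed under brackets of square-zero elements. -/
structure Lie (Φ : Submodule F (Matrix (Idx k (t + 1)) (Idx k (t + 1)) F)) : Prop where
  inv : ∀ l, D.SInv l Φ
  refl : ∀ l u, D.qW u ≠ 0 → ∀ X ∈ Φ, conjA (fu l (D.rW u)) X ∈ Φ
  brk : ∀ X Y, X ∈ Φ → Y ∈ Φ → X * X = 0 → Y * Y = 0 → X * Y - Y * X ∈ Φ

/-- The span of the square-zero elements. -/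
def sqSp (Φ : Submodule F (Matrix (Idx k (t + 1)) (Idx k (t + 1)) F)) :
    Submodule F (Matrix (Idx k (t + 1)) (Idx k (t + 1)) F) :=
  Submodule.span F {X | X ∈ Φ ∧ X * X = 0}

variable {D} {Φ : Submodule F (Matrix (Idx k (t + 1)) (Idx k (t + 1)) F)}

theorem sqSp_le : sqSp Φ ≤ Φ := Submodule.span_le.2 fun _ h => h.1

theorem Lie.sqSp_conj (hΦ : D.Lie Φ) (l : Fin (t + 1)) {g : GL (Fin k) F}
    (hg : ∀ X ∈ Φ, conjA (fu l g) X ∈ Φ) {X : Matrix (Idx k (t + 1)) (Idx k (t + 1)) F} (hX : X ∈ sqSp Φ) :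
    conjA (fu l g) X ∈ sqSp Φ := by
  have hle : sqSp Φ ≤ (sqSp Φ).comap (conjA (fu l g)).toLinearMap :=
    Submodule.span_le.2 fun Y hY => Submodule.subset_span ⟨hg Y hY.1, by
      show conjA (fu l g) Y * conjA (fu l g) Y = 0
      rw [← map_mul, hY.2, map_zero]⟩
  exact hle hX

theorem Lie.bracket (hΦ : D.Lie Φ) {X Y : Matrix (Idx k (t + 1)) (Idx k (t + 1)) F} (hX : X ∈ sqSp Φ)
    (hY : Y ∈ sqSp Φ) : X * Y - Y * X ∈ Φ := by
  have h1 : ∀ Y, Y ∈ Φ → Y * Y = 0 → sqSp Φ ≤ Φ.comap (LinearMap.mulRight F Y - LinearMap.mulLeft F Y) :=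
    fun Y hY hY2 => Submodule.span_le.2 fun X hX => hΦ.brk X Y hX.1 hY hX.2 hY2
  have h2 : sqSp Φ ≤ Φ.comap (LinearMap.mulLeft F X - LinearMap.mulRight F X) :=
    Submodule.span_le.2 fun Y hY => h1 Y hY.1 hY.2 hX
  exact h2 hY

/-- Either a scalar coefficient or a bracket. -/
theorem Lie.scalar_or [Fintype F] (hΦ : D.Lie Φ) (hk : 4 ≤ k) {j : Fin (t + 1)}
    {M : Matrix (Fin k) (Fin k) F} {E : Matrix (Idx k (t + 1)) (Idx k (t + 1)) F} (hE : Com j E)
    (h : fa j M * E ∈ sqSp Φ) :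
    (∃ c : F, E = c • 1) ∨ ∃ χ, χ ≠ 0 ∧ Com j χ ∧ fa j (M * M) * χ ∈ Φ := by
  by_cases hall : ∀ A B, Com j A → fa j M * A ∈ sqSp Φ → Com j B → fa j M * B ∈ sqSp Φ → A * B = B * A
  · left
    set S := {A | Com j A ∧ fa j M * A ∈ sqSp Φ} with hS
    refine D.scalar_of_inv hk (Algebra.adjoin F S) (fun X hX Y hY => ?_) (fun l g hg X hX => ?_)
      (Algebra.subset_adjoin ⟨hE, h⟩)
    · exact (Algebra.commute_of_mem_adjoin_of_forall_mem_commute hY fun A hA =>
        (Algebra.commute_of_mem_adjoin_of_forall_mem_commute hX fun B hB =>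
          (show Commute A B from hall A B hA.1 hA.2 hB.1 hB.2)).symm)
    · have hle : Algebra.adjoin F S ≤ (Algebra.adjoin F S).comap (conjA (fu l g)).toAlgHom :=
        Algebra.adjoin_le fun A hA => by
          refine Algebra.subset_adjoin ?_
          show conjA (fu l g) A ∈ S
          rcases eq_or_ne l j with rfl | hlj
          · rwa [conjA_fu_com hA.1]
          · refine ⟨fun Y => ?_, ?_⟩
            · have := (hA.1 Y).map (conjA (fu l g))
              rwa [conjA_fu_com (com_fa hlj Y)] at this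
            · have := hΦ.sqSp_conj l (hΦ.inv l g hg) hA.2
              rwa [map_mul, conjA_fu_com (com_fa hlj M)] at this
      exact hle hX
  · right
    push Not at hall
    obtain ⟨A, B, hA, hAM, hB, hBM, hne⟩ := hall
    refine ⟨A * B - B * A, sub_ne_zero.2 hne, (hA.mul hB).sub (hB.mul hA), ?_⟩
    have e : ∀ A B, Com j A → fa j (M * M) * (A * B) = fa j M * A * (fa j M * B) := fun A B hA => by
      rw [map_mul, mul_assoc, mul_assoc, ← mul_assoc A, ← (hA M).eq, mul_assoc]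
    rw [mul_sub, e A B hA, e B A hB]
    exact hΦ.bracket hAM hBM

variable {x f : Fin k → F} {e : Fin m → Fin k → F}

theorem Frame.ph_step (H : D.Frame x f e) {P : Submodule F (Matrix (Fin k) (Fin k) F)}
    (hP : ∀ g, D.SG g → ∀ M ∈ P, conjA g M ∈ P) (h : D.cW x f ∈ P) (b : Fin m) :
    D.sW x ∈ P ∧ D.cW x (e b) ∈ P := by
  have key : ∀ a, D.formW x a = 0 → D.formW f a = 0 →
      D.cW x a - (2 * D.qW a) • D.sW x ∈ P := by
    intro a hxa hfa
    have h1 := hP _ (Or.inl (D.uW_mem_root H.xx hxa)) _ h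
    rw [D.conj_cW (Orth.sGL_mem D.spaceW H.qx hxa)] at h1
    have h2 := P.sub_mem h1 h
    convert h2 using 1
    rw [D.uW_mulVec H.xx hxa, D.uW_mulVec H.xx hxa, H.xx, H.xf, D.formW_symm a x, hxa, D.formW_symm a f, hfa]
    refine Orth.mat_ext fun w => ?_
    simp only [Matrix.sub_mulVec, Matrix.smul_mulVec, cW_mulVec, sW_mulVec, map_add, map_sub, map_smul,
      zero_smul, one_smul, add_zero, sub_zero, zero_add, mul_one, mul_zero, LinearMap.add_apply,
      LinearMap.sub_apply, LinearMap.smul_apply, smul_eq_mul]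
    module
  have h1 := key (e b) (H.xe b) (H.fe b)
  have h2 := key (-e b) (by simp [H.xe]) (by simp [H.fe])
  rw [show D.qW (-e b) = D.qW (e b) from D.spaceW.neg _] at h2
  have e1 : D.cW x (-e b) = -D.cW x (e b) := Orth.mat_ext fun w => by
    rw [Matrix.neg_mulVec, cW_mulVec, cW_mulVec, map_neg, LinearMap.neg_apply]
    module
  rw [e1] at h2
  constructor
  · have h3 := P.add_mem h1 h2
    rw [show D.cW x (e b) - (2 * D.qW (e b)) • D.sW x + (-D.cW x (e b) - (2 * D.qW (e b)) • D.sW x) =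
      (-(4 * D.qW (e b))) • D.sW x by module, P.smul_mem_iff (neg_ne_zero.2 (mul_ne_zero (by
        rw [show (4 : F) = 2 * 2 by norm_num]; exact mul_ne_zero D.h2 D.h2) (H.qe b)))] at h3
    exact h3
  · have h3 := P.sub_mem h1 h2
    rw [show D.cW x (e b) - (2 * D.qW (e b)) • D.sW x - (-D.cW x (e b) - (2 * D.qW (e b)) • D.sW x) =
      (2 : F) • D.cW x (e b) by module, P.smul_mem_iff D.h2] at h3
    exact h3

theorem Frame.one_mem_of_ph (H : D.Frame x f e) {P : Submodule F (Matrix (Fin k) (Fin k) F)}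
    (hP : ∀ g, D.SG g → ∀ M ∈ P, conjA g M ∈ P) (h : D.cW x f ∈ P) : (1 : Matrix (Fin k) (Fin k) F) ∈ P := by
  have hsym : D.cW f x ∈ P := by rwa [show D.cW f x = D.cW x f from add_comm _ _]
  have hee : ∀ b, D.sW (e b) ∈ P := fun b => by
    obtain ⟨-, hxe⟩ := H.ph_step hP h b
    obtain ⟨hsf, hfe⟩ := H.symm.ph_step hP hsym b
    have h1 := hP _ (Or.inl (D.uW_mem_root H.ff (H.fe b))) _ hxe
    rw [D.conj_cW (Orth.sGL_mem D.spaceW H.qfz (H.fe b))] at h1
    set q := D.qW (e b) with hq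
    have hE : D.formW (e b) (e b) = 2 * q := D.spaceW.self (e b)
    have e1 : (2 : F) • D.sW (e b) = D.cW ((D.uW f (e b)).val *ᵥ x) ((D.uW f (e b)).val *ᵥ e b) - D.cW x (e b) +
        (2 * q) • D.cW x f + (3 * q) • D.cW f (e b) - (4 * q * q) • D.sW f := by
      rw [D.uW_mulVec H.ff (H.fe b), D.uW_mulVec H.ff (H.fe b), H.fx, H.ex, H.fe, hE, ← hq]
      refine Orth.mat_ext fun w => ?_
      simp only [Matrix.sub_mulVec, Matrix.add_mulVec, Matrix.smul_mulVec, cW_mulVec, sW_mulVec, map_add,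
        map_sub, map_smul, LinearMap.add_apply, LinearMap.sub_apply, LinearMap.smul_apply, smul_eq_mul,
        zero_add, one_smul, mul_one, mul_zero, add_zero, zero_smul, sub_zero]
      module
    have h2 : (2 : F) • D.sW (e b) ∈ P := by
      rw [e1]
      exact P.sub_mem (P.add_mem (P.add_mem (P.sub_mem h1 hxe) (P.smul_mem _ h)) (P.smul_mem _ hfe))
        (P.smul_mem _ hsf)
    exact (P.smul_mem_iff D.h2).1 h2
  have e1 : (1 : Matrix (Fin k) (Fin k) F) = D.cW x f + ∑ b, (D.formW (e b) (e b))⁻¹ • D.sW (e b) := by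
    refine Orth.mat_ext fun w => ?_
    rw [Matrix.one_mulVec, Matrix.add_mulVec, cW_mulVec, Matrix.sum_mulVec]
    simp only [Matrix.smul_mulVec, sW_mulVec, smul_smul]
    conv_lhs => rw [H.dec w]
    congr 1
    exact Finset.sum_congr rfl fun b _ => by rw [div_eq_mul_inv, mul_comm]
  rw [e1]
  exact P.add_mem h (P.sum_mem fun b _ => P.smul_mem _ (hee b))

/-- A point gives a commutant element. -/
theorem Lie.of_point [Fintype F] (hΦ : D.Lie Φ) (hk : 4 ≤ k) (ht : 1 ≤ t) (H : D.Frame x f e)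
    {j : Fin (t + 1)} {E : Matrix (Idx k (t + 1)) (Idx k (t + 1)) F} (hE : Com j E) (hE0 : E ≠ 0)
    (h : fa j (D.sW f) * E ∈ Φ) : ∃ X ∈ Φ, X ≠ 0 ∧ ∃ l, Com l X := by
  have hsq : ∀ {z}, D.formW z z = 0 → fa j (D.sW z) * E * (fa j (D.sW z) * E) = 0 := fun {z} hz => by
    rw [mul_assoc, ← mul_assoc E, ← (hE _).eq, ← mul_assoc, ← mul_assoc, ← map_mul, D.sW_sq hz, map_zero,
      zero_mul, zero_mul]
  obtain ⟨g, hg, gx, gf⟩ := H.exists_exch
  have hx : fa j (D.sW x) * E ∈ Φ := by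
    have h1 := hΦ.inv j g hg _ h
    rwa [conj_fa_mul hE, D.conj_sW hg.iso, gf] at h1
  have hD : fa j (D.sW x - D.sW f) * E ∈ sqSp Φ := by
    rw [map_sub, sub_mul]
    exact (sqSp Φ).sub_mem (Submodule.subset_span ⟨hx, hsq H.xx⟩) (Submodule.subset_span ⟨h, hsq H.ff⟩)
  rcases hΦ.scalar_or hk hE hD with ⟨c, hc⟩ | ⟨χ, hχ0, hχ, hmem⟩
  · obtain ⟨l, hl⟩ : ∃ l, l ≠ j := by
      haveI : Nontrivial (Fin (t + 1)) := Fin.nontrivial_iff_two_le.2 (by omega)
      exact exists_ne j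
    refine ⟨_, h, fun h0 => hE0 (eq_zero_of_fa_mul (fun hs => ?_) hE h0), l, ?_⟩
    · have := congrArg (· *ᵥ x) hs
      simp [sW_mulVec, H.fx, H.f0] at this
    · rw [hc]
      exact (com_fa hl _).mul (com_scalar l c)
  · have e1 : (D.sW x - D.sW f) * (D.sW x - D.sW f) = -D.cW x f := Orth.mat_ext fun w => by
      rw [← Matrix.mulVec_mulVec, Matrix.neg_mulVec, cW_mulVec, Matrix.sub_mulVec, Matrix.sub_mulVec,
        sW_mulVec, sW_mulVec, sW_mulVec, sW_mulVec, map_sub, map_smul, map_smul, map_sub, map_smul, map_smul,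
        H.xx, H.xf, H.fx, H.ff]
      simp only [smul_eq_mul, mul_zero, mul_one, zero_sub, sub_zero]
      module
    rw [e1, map_neg, neg_mul, Submodule.neg_mem_iff] at hmem
    let P : Submodule F (Matrix (Fin k) (Fin k) F) :=
      Φ.comap ((LinearMap.mulRight F χ).comp (fa j).toLinearMap)
    have hP : ∀ g, D.SG g → ∀ M ∈ P, conjA g M ∈ P := fun g hg M hM => by
      show fa j (conjA g M) * χ ∈ Φ
      rw [← conj_fa_mul hχ]
      exact hΦ.inv j g hg _ hM
    have h1 : fa j (1 : Matrix (Fin k) (Fin k) F) * χ ∈ Φ := H.one_mem_of_ph hP (show D.cW x f ∈ P from hmem)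
    rw [map_one, one_mul] at h1
    exact ⟨χ, h1, hχ0, j, hχ⟩

/-- A reflection turning a basis vector towards an orthogonal one. -/
theorem Frame.exists_turn (H : D.Frame x f e) (hD : D.Good) (hm : k ≤ m + 2) (b : Fin m) :
    ∃ v w, ∃ α β : F, D.qW v ≠ 0 ∧ β ≠ 0 ∧ D.formW x v = 0 ∧ D.formW f v = 0 ∧ D.formW x w = 0 ∧
      D.formW f w = 0 ∧ D.formW (e b) w = 0 ∧ D.formW w w ≠ 0 ∧ (D.rW v).val *ᵥ e b = α • e b + β • w := by
  set E := D.formW (e b) (e b) with hE
  obtain ⟨w, hxw, hfw, hew, hw, hv⟩ : ∃ w, D.formW x w = 0 ∧ D.formW f w = 0 ∧ D.formW (e b) w = 0 ∧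
      D.formW w w ≠ 0 ∧ E + D.formW w w ≠ 0 := by
    by_cases hex : ∃ c, c ≠ b ∧ E + D.formW (e c) (e c) ≠ 0
    · obtain ⟨c, hc, hc'⟩ := hex
      exact ⟨e c, H.xe c, H.fe c, H.orth b c hc.symm, H.ne c, hc'⟩
    push Not at hex
    obtain ⟨c, hc⟩ := H.other b
    have hcE : D.formW (e c) (e c) = -E := eq_neg_of_add_eq_zero_right (hex c hc)
    by_cases h3 : ∃ d, d ≠ b ∧ d ≠ c
    · obtain ⟨d, hdb, hdc⟩ := h3
      have hdE : D.formW (e d) (e d) = -E := eq_neg_of_add_eq_zero_right (hex d hdb)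
      have hww : D.formW (e c + e d) (e c + e d) = -E + -E := by
        simp [hcE, hdE, H.orth c d hdc.symm, H.orth d c hdc]
      refine ⟨e c + e d, by simp [H.xe], by simp [H.fe],
        by rw [map_add, H.orth b c hc.symm, H.orth b d hdb.symm, add_zero], ?_, ?_⟩
      · rw [hww]
        intro h
        exact mul_ne_zero D.h2 (H.ne b) (by linear_combination -h)
      · rw [hww, show E + (-E + -E) = -E by ring]
        exact neg_ne_zero.2 (H.ne b)
    · exfalso
      push Not at h3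
      have h4 : m ≤ 2 := by
        have := Finset.card_le_card (show (Finset.univ : Finset (Fin m)) ⊆ {b, c} from fun d _ => by
          rcases eq_or_ne d b with rfl | hd
          · simp
          · simp [h3 d hd])
        rw [Finset.card_univ, Fintype.card_fin] at this
        exact this.trans Finset.card_le_two
      have hnp := hD.np.resolve_left (by omega)
      have hsing : D.formW (e b + e c) (e b + e c) = 0 := by
        simp [hcE, H.orth b c hc.symm, H.orth c b hc, ← hE]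
      have hmem := hnp x (e b + e c) H.xx hsing (by simp [H.xe]) H.x0
      obtain ⟨s, hs⟩ := Submodule.mem_span_singleton.1 hmem
      have h5 := congrArg (D.formW (e b)) hs
      simp [H.ex, H.orth b c hc.symm] at h5
      exact H.ne b h5.symm
  have hwe : D.formW w (e b) = 0 := by rw [D.formW_symm]; exact hew
  have hvv : D.formW (e b + w) (e b + w) = E + D.formW w w := by simp [hew, hwe, hE]
  have hq : D.qW (e b + w) ≠ 0 := by rw [Ne, qW_zero, hvv]; exact hv
  refine ⟨e b + w, w, 1 - (D.qW (e b + w))⁻¹ * E, -((D.qW (e b + w))⁻¹ * E), hq,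
    neg_ne_zero.2 (mul_ne_zero (inv_ne_zero hq) (H.ne b)), by simp [H.xe, hxw], by simp [H.fe, hfw],
    hxw, hfw, hew, hw, ?_⟩
  rw [Orth.rGL_act D.spaceW hq, map_add, LinearMap.add_apply, hwe, add_zero, ← hE]
  module

theorem rW_fix {v w : Fin k → F} (hv : D.qW v ≠ 0) (h : D.formW v w = 0) : (D.rW v).val *ᵥ w = w :=
  Orth.rGL_fix D.spaceW hv h

theorem rW_conj_nW {v x a : Fin k → F} (hv : D.qW v ≠ 0) (hx : D.formW x v = 0) :
    conjA (D.rW v) (D.nW x a) = D.nW x ((D.rW v).val *ᵥ a) := by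
  rw [D.conj_nW (Orth.rGL_mem D.spaceW hv), rW_fix hv (by rw [D.formW_symm]; exact hx)]

theorem nW_add_smul (x a b : Fin k → F) (s r : F) :
    D.nW x (s • a + r • b) = s • D.nW x a + r • D.nW x b := Orth.mat_ext fun w => by
  simp only [nW_mulVec, Matrix.add_mulVec, Matrix.smul_mulVec, map_add, map_smul, LinearMap.add_apply,
    LinearMap.smul_apply, smul_eq_mul]
  module

theorem nW_ne {x a : Fin k → F} (ha : D.formW a a ≠ 0) (hxa : D.formW x a = 0) (hx0 : x ≠ 0) :
    D.nW x a ≠ 0 := fun h => by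
  have := congrArg (· *ᵥ a) h
  simp [nW_mulVec, hxa, ha, hx0] at this

theorem com_of_fa_mul {i l : Fin t} (hli : l ≠ i) {M : Matrix (Fin k) (Fin k) F} (hM : M ≠ 0)
    {B : Matrix (Idx k t) (Idx k t) F} (hB : Com i B) (h : Com l (fa i M * B)) : Com l B := fun X => by
  have h1 : fa i M * (fa l X * B - B * fa l X) = 0 := by
    rw [mul_sub, ← mul_assoc, ← mul_assoc, (fa_comm hli.symm M X).eq, mul_assoc, sub_eq_zero]
    exact (h X).eq
  have h2 : Com i (fa l X * B - B * fa l X) :=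
    ((com_fa hli.symm X).mul hB).sub (hB.mul (com_fa hli.symm X))
  exact sub_eq_zero.1 (eq_zero_of_fa_mul hM h2 h1)

/-- The invariant space meets a commutant. -/
theorem Lie.exists_com [Fintype F] (hΦ : D.Lie Φ) (hD : D.Good) (ht : 1 ≤ t) (hne : ∃ X ∈ Φ, X ≠ 0) :
    ∃ X ∈ Φ, X ≠ 0 ∧ ∃ l, Com l X := by
  classical
  obtain ⟨x, hx, hx0⟩ := D.exists_sing hD.hk
  obtain ⟨m, f, e, H, hm⟩ := D.exists_frame hD.hk hx hx0
  by_contra hno
  push Not at hno
  set i : Fin (t + 1) := 0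
  obtain ⟨j, hji⟩ : ∃ j, j ≠ i := by
    haveI : Nontrivial (Fin (t + 1)) := Fin.nontrivial_iff_two_le.2 (by omega)
    exact exists_ne i
  have point : ∀ {l E}, Com l E → fa l (D.sW f) * E ∈ Φ → E = 0 := fun {l E} hE h => by
    by_contra h0
    obtain ⟨X, hX, hX0, l', hl'⟩ := hΦ.of_point hD.hk ht H hE h0 h
    exact hno X hX hX0 l' hl'
  -- one factor
  have step : ∀ (l : Fin (t + 1)) (Z : Submodule F (Matrix (Idx k (t + 1)) (Idx k (t + 1)) F)),
      D.SInv l Z → (∀ b, ∀ X ∈ Z, conjA (fu l (D.rW (e b))) X ∈ Z) → (∃ X ∈ Z, X ≠ 0) →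
      (∀ X ∈ Z, Com l X → X = 0) → (∀ E, Com l E → fa l (D.sW f) * E ∈ Z → E = 0) →
      ∃ b B, Com l B ∧ B ≠ 0 ∧ fa l (D.nW x (e b)) * B ∈ Z := by
    intro l Z hZ hr hZne hcom hpt
    obtain ⟨Y, hY, hY0, hfix⟩ := H.exists_fix l Z ⊥ hZ
      (fun g _ X hX => by rw [Submodule.mem_bot] at hX ⊢; rw [hX, map_zero])
      (hZne.imp fun X hX => ⟨hX.1, by simpa using hX.2⟩)
    obtain ⟨C, E, B, hC, hE, hB, hform, hN, -, hS⟩ := H.decomp hZ hY fun b => by
      have h0 := hfix b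
      rw [Submodule.mem_bot] at h0
      rw [h0]
      exact fun X => Commute.zero_right _
    have hE0 := hpt E hE hS
    by_cases hex : ∃ b, B b ≠ 0
    · obtain ⟨b, hb⟩ := hex
      refine ⟨b, B b, hB b, hb, ?_⟩
      have h1 := Z.sub_mem hN (hr b _ hN)
      rw [map_sum, ← Finset.sum_sub_distrib] at h1
      have e1 : ∀ c, fa l (D.nW x (e c)) * B c - conjA (fu l (D.rW (e b))) (fa l (D.nW x (e c)) * B c) =
          if c = b then (2 : F) • (fa l (D.nW x (e c)) * B c) else 0 := fun c => by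
        rw [conj_fa_mul (hB c), rW_conj_nW (H.qe b) (H.xe b)]
        by_cases hc : c = b
        · subst hc
          rw [if_pos rfl, show (D.rW (e c)).val *ᵥ e c = -e c from Orth.rGL_self D.spaceW (H.qe c),
            show D.nW x (-e c) = -D.nW x (e c) from Orth.mat_ext fun w => by
              simp [nW_mulVec, Matrix.neg_mulVec]; module, map_neg, neg_mul]
          module
        · rw [if_neg hc, rW_fix (H.qe b) (H.orth b c (Ne.symm hc)), sub_self]
      simp only [e1, Finset.sum_ite_eq', Finset.mem_univ, if_true, Z.smul_mem_iff D.h2] at h1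
      exact h1
    · push Not at hex
      exfalso
      refine hY0 (Submodule.mem_bot _ |>.2 (hcom Y hY ?_))
      rw [hform, hE0, mul_zero, add_zero]
      simp only [hex, mul_zero, Finset.sum_const_zero, add_zero]
      exact hC
  obtain ⟨b, B, hB, hB0, hBm⟩ := step i Φ (hΦ.inv i) (fun b X hX => hΦ.refl i _ (H.qe b) X hX) hne
    (fun X hX hc => by_contra fun h0 => hno X hX h0 i hc) (fun E hE h => point hE h)
  have hNb : D.nW x (e b) ≠ 0 := nW_ne (H.ne b) (H.xe b) H.x0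
  let Z : Submodule F (Matrix (Idx k (t + 1)) (Idx k (t + 1)) F) :=
    (Φ.comap (LinearMap.mulLeft F (fa i (D.nW x (e b))))) ⊓
      { carrier := {M | Com i M}
        add_mem' := fun ha hb => ha.add hb
        zero_mem' := fun _ => Commute.zero_right _
        smul_mem' := fun c _ h => h.smul c }
  have hconj : ∀ g, (∀ X ∈ Φ, conjA (fu j g) X ∈ Φ) → ∀ X ∈ Z, conjA (fu j g) X ∈ Z := by
    intro g hg X hX
    refine ⟨?_, fun Y => ?_⟩
    · show fa i (D.nW x (e b)) * conjA (fu j g) X ∈ Φ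
      have := hg _ (show fa i (D.nW x (e b)) * X ∈ Φ from hX.1)
      rwa [map_mul, conjA_fu_com (com_fa hji _)] at this
    · have := (hX.2 Y).map (conjA (fu j g))
      rwa [conjA_fu_com (com_fa hji _)] at this
  obtain ⟨c, χ, hχ, hχ0, hχm⟩ := step j Z (fun g hg => hconj g (hΦ.inv j g hg))
    (fun c => hconj _ (hΦ.refl j _ (H.qe c))) ⟨B, ⟨hBm, hB⟩, hB0⟩
    (fun X hX hc => by_contra fun h0 => hno _ hX.1 (fun h => h0 (eq_zero_of_fa_mul hNb hX.2 h)) j
      ((com_fa hji _).mul hc))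
    (fun E hE hEm => by
      have hfne : D.sW f ≠ 0 := fun h => by simpa [sW_mulVec, H.fx, H.f0] using congrArg (· *ᵥ x) h
      have hEi : Com i E := com_of_fa_mul hji.symm hfne hE hEm.2
      refine eq_zero_of_fa_mul hNb hEi (point ((com_fa hji _).mul hE) ?_)
      rw [← mul_assoc, (fa_comm hji (D.sW f) (D.nW x (e b))).eq, mul_assoc]
      exact hEm.1)
  have hχi : Com i χ := com_of_fa_mul hji.symm (nW_ne (H.ne c) (H.xe c) H.x0) hχ hχm.2
  -- two vectors at each of the two factors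
  let P : (Fin k → F) → (Fin k → F) → Matrix (Idx k (t + 1)) (Idx k (t + 1)) F :=
    fun a a' => fa i (D.nW x a) * (fa j (D.nW x a') * χ)
  have h11 : P (e b) (e c) ∈ Φ := hχm.1
  obtain ⟨v, u2, α, β, hv, hβ, hxv, -, hxu, -, heu, hu2, htu⟩ := H.exists_turn hD hm b
  obtain ⟨v', v2, α', β', hv', hβ', hxv', -, hxv2, -, hev, hv2, htv⟩ := H.exists_turn hD hm c
  have h21 : P u2 (e c) ∈ Φ := by
    have h1 := Φ.sub_mem (hΦ.refl i v hv _ h11) (Φ.smul_mem α h11)
    rw [show conjA (fu i (D.rW v)) (P (e b) (e c)) = α • P (e b) (e c) + β • P u2 (e c) by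
      simp only [P]
      rw [conj_fa_mul ((com_fa hji.symm _).mul hχi), rW_conj_nW hv hxv, htu, nW_add_smul, map_add, map_smul,
        map_smul, add_mul, smul_mul_assoc, smul_mul_assoc], add_sub_cancel_left, Φ.smul_mem_iff hβ] at h1
    exact h1
  have h12 : P (e b) v2 ∈ Φ := by
    have h1 := Φ.sub_mem (hΦ.refl j v' hv' _ h11) (Φ.smul_mem α' h11)
    rw [show conjA (fu j (D.rW v')) (P (e b) (e c)) = α' • P (e b) (e c) + β' • P (e b) v2 by
      simp only [P]
      rw [map_mul, conjA_fu_com (com_fa hji _), conj_fa_mul hχ, rW_conj_nW hv' hxv', htv, nW_add_smul,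
        map_add, map_smul, map_smul, add_mul, smul_mul_assoc, smul_mul_assoc, mul_add, mul_smul_comm,
        mul_smul_comm], add_sub_cancel_left, Φ.smul_mem_iff hβ'] at h1
    exact h1
  obtain ⟨r, s, hrs⟩ := rep_two D.h2 (mul_ne_zero (H.ne b) (H.ne c)) (mul_ne_zero (H.ne b) hv2)
    (-(D.formW u2 u2 * D.formW (e c) (e c)))
  set a' := r • e c + s • v2 with ha'
  have hxa : D.formW x a' = 0 := by simp [ha', H.xe, hxv2]
  have haa : D.formW a' a' = D.formW (e c) (e c) * (r * r) + D.formW v2 v2 * (s * s) := by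
    simp [ha', hev, D.formW_symm v2 (e c)]; ring
  set φ := P (e b) a' + P u2 (e c) with hφdef
  have hφ : φ ∈ Φ := by
    refine Φ.add_mem ?_ h21
    rw [show P (e b) a' = r • P (e b) (e c) + s • P (e b) v2 by
      simp only [P, ha', nW_add_smul, map_add, map_smul, add_mul, smul_mul_assoc, mul_add, mul_smul_comm]]
    exact Φ.add_mem (Φ.smul_mem _ h11) (Φ.smul_mem _ h12)
  have hmul : ∀ a a₂ a₃ a₄, D.formW x a = 0 → D.formW x a₂ = 0 → D.formW x a₃ = 0 → D.formW x a₄ = 0 →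
      P a a₂ * P a₃ a₄ = (D.formW a a₃ * D.formW a₂ a₄) • (fa i (D.sW x) * (fa j (D.sW x) * (χ * χ))) := by
    intro a a₂ a₃ a₄ ha ha₂ ha₃ ha₄
    have e0 : P a a₂ * P a₃ a₄ =
        fa i (D.nW x a * D.nW x a₃) * (fa j (D.nW x a₂ * D.nW x a₄) * (χ * χ)) := by
      simp only [P, map_mul]
      simp only [mul_assoc]
      congr 1
      rw [← mul_assoc χ (fa i _), ← (hχi _).eq, mul_assoc, ← mul_assoc (fa j _) (fa i _),
        (fa_comm hji _ _).eq, mul_assoc]
      congr 2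
      rw [← mul_assoc χ (fa j _), ← (hχ _).eq, mul_assoc]
    rw [e0, D.nW_mul H.xx ha ha₃, D.nW_mul H.xx ha₂ ha₄, map_smul, map_smul, smul_mul_assoc, smul_mul_assoc,
      mul_smul_comm, smul_smul, neg_mul_neg]
  have hφ2 : φ * φ = 0 := by
    rw [hφdef, mul_add, add_mul, add_mul, hmul _ _ _ _ (H.xe b) hxa (H.xe b) hxa,
      hmul _ _ _ _ hxu (H.xe c) (H.xe b) hxa, hmul _ _ _ _ (H.xe b) hxa hxu (H.xe c),
      hmul _ _ _ _ hxu (H.xe c) hxu (H.xe c), heu, D.formW_symm u2 (e b), heu, haa, zero_mul, zero_mul,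
      zero_smul, add_zero, zero_add, ← add_smul,
      show D.formW (e b) (e b) * (D.formW (e c) (e c) * (r * r) + D.formW v2 v2 * (s * s)) +
        D.formW u2 u2 * D.formW (e c) (e c) = 0 by linear_combination hrs, zero_smul]
  have hqu : D.qW u2 ≠ 0 := fun h => hu2 (D.qW_zero.1 h)
  have hmem : fa i (D.nW x u2) * (fa j (D.nW x (e c)) * χ) ∈ sqSp Φ := by
    have h1 := (sqSp Φ).sub_mem (Submodule.subset_span ⟨hφ, hφ2⟩) (Submodule.subset_span
      ⟨hΦ.refl i u2 hqu φ hφ, by rw [← map_mul, hφ2, map_zero]⟩)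
    have e1 : φ - conjA (fu i (D.rW u2)) φ = (2 : F) • P u2 (e c) := by
      have hc1 : ∀ a a₂, conjA (fu i (D.rW u2)) (P a a₂) = P ((D.rW u2).val *ᵥ a) a₂ := fun a a₂ => by
        simp only [P]
        rw [conj_fa_mul ((com_fa hji.symm _).mul hχi), rW_conj_nW hqu hxu]
      rw [hφdef, map_add, hc1, hc1, show (D.rW u2).val *ᵥ u2 = -u2 from Orth.rGL_self D.spaceW hqu,
        rW_fix hqu (by rw [D.formW_symm]; exact heu)]
      have : P (-u2) (e c) = -P u2 (e c) := by
        simp only [P]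
        rw [show D.nW x (-u2) = -D.nW x u2 from Orth.mat_ext fun w => by
          simp [nW_mulVec, Matrix.neg_mulVec]; module, map_neg, neg_mul]
      rw [this]
      module
    rw [e1, (sqSp Φ).smul_mem_iff D.h2] at h1
    exact h1
  rcases hΦ.scalar_or hD.hk ((com_fa hji.symm _).mul hχi) hmem with ⟨c', hc'⟩ | ⟨χ', hχ'0, hχ', hm'⟩
  · refine hno _ (sqSp_le hmem) (fun h => ?_) j ?_
    · have h1 := eq_zero_of_fa_mul (nW_ne hu2 hxu H.x0) ((com_fa hji.symm _).mul hχi) h
      exact hχ0 (eq_zero_of_fa_mul (nW_ne (H.ne c) (H.xe c) H.x0) hχ h1)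
    · rw [hc']
      exact (com_fa hji _).mul (com_scalar j c')
  · rw [D.nW_mul H.xx hxu hxu, map_smul, smul_mul_assoc, Φ.smul_mem_iff (neg_ne_zero.2 hu2)] at hm'
    obtain ⟨X, hX, hX0, l', hl'⟩ := hΦ.of_point hD.hk ht H.symm hχ' hχ'0 hm'
    exact hno X hX hX0 l' hl'

end Dia

end Cfsg.Lib.Linear.OTWreath
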