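import Cfsg.Agent.Lib.Linear.OTWreath.Members

/-!
# Invariant spaces of matrices along one factor
-/

set_option autoImplicit false
set_option linter.unusedSectionVars false
set_option linter.unusedSimpArgs false
set_option linter.style.haveILetI false

namespace Cfsg.Lib.Linear.OTWreath

open Cfsg.Geo Cfsg.Lib.Linear.AschGen Cfsg.Lib.Linear.TWreath
open Cfsg.Lib.Linear.OOTensor (qf)
open Cfsg.Lib.Linear.Orth (rGL)
open scoped Matrix MatrixGroups

variable {F : Type*} [Field F] {k m t : ℕ}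

namespace Dia

variable (D : Dia k F)

/-- The elements of one factor used for conjugation. -/
def SG (g : GL (Fin k) F) : Prop :=
  g ∈ Orth.Root (qf D.formW) D.formW ⊤ ∨ ∃ u v, D.qW u ≠ 0 ∧ D.qW v ≠ 0 ∧ g = D.rW u * D.rW v

/-- Invariance along one factor. -/
def SInv (i : Fin t) (Z : Submodule F (Matrix (Idx k t) (Idx k t) F)) : Prop :=
  ∀ g, D.SG g → ∀ X ∈ Z, conjA (fu i g) X ∈ Z

theorem SG.iso {g : GL (Fin k) F} (h : D.SG g) : g ∈ isometryGroup F (qf D.formW) := by
  rcases h with h | ⟨u, v, hu, hv, rfl⟩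
  · exact Orth.root_le_iso D.spaceW ⊤ h
  · exact mul_mem (Orth.rGL_mem D.spaceW hu) (Orth.rGL_mem D.spaceW hv)

variable {D} in
theorem Hyp.sg [Fintype F] {G : Subgroup (GL (Idx k (t + 1)) F)} (hG : D.Hyp G) (hD : D.Good) (ht : 1 ≤ t)
    (i : Fin (t + 1)) {g : GL (Fin k) F} (h : D.SG g) : fu i g ∈ G := by
  rcases h with h | ⟨u, v, hu, hv, rfl⟩
  · exact hG.root hD i h
  · exact hG.refl2 hD ht i hu hv

theorem conj_vmv {g : GL (Fin k) F} (hg : g ∈ isometryGroup F (qf D.formW)) (u v : Fin k → F) :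
    conjA g (Matrix.vecMulVec u (D.dual v)) = Matrix.vecMulVec (g.val *ᵥ u) (D.dual (g.val *ᵥ v)) := by
  refine Orth.mat_ext fun w => ?_
  rw [conjA_apply, ← Matrix.mulVec_mulVec, ← Matrix.mulVec_mulVec, vmv_mulVec, vmv_mulVec, Matrix.mulVec_smul,
    D.spaceW.B_act_left hg]

theorem conj_sW {g : GL (Fin k) F} (hg : g ∈ isometryGroup F (qf D.formW)) (x : Fin k → F) :
    conjA g (D.sW x) = D.sW (g.val *ᵥ x) := D.conj_vmv hg x x

theorem conj_nW {g : GL (Fin k) F} (hg : g ∈ isometryGroup F (qf D.formW)) (x a : Fin k → F) :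
    conjA g (D.nW x a) = D.nW (g.val *ᵥ x) (g.val *ᵥ a) := by
  rw [nW, map_sub, D.conj_vmv hg, D.conj_vmv hg]
  rfl

theorem conj_fa_mul {i : Fin t} {E : Matrix (Idx k t) (Idx k t) F} (hE : Com i E) (g : GL (Fin k) F)
    (M : Matrix (Fin k) (Fin k) F) : conjA (fu i g) (fa i M * E) = fa i (conjA g M) * E := by
  rw [map_mul, conjA_fu_com hE, acts_fu]

variable {D} {x f : Fin k → F} {e : Fin m → Fin k → F}

namespace Frame

variable (H : D.Frame x f e)
include H

theorem qxf : D.qW (x + f) ≠ 0 ∧ D.qW (x - f) ≠ 0 := by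
  constructor <;>
  · rw [Ne, qW_zero]
    simp [H.xx, H.ff, H.xf, H.fx]
    intro h
    apply D.h2
    first | linear_combination h | linear_combination -h

/-- The sign change on the hyperbolic plane. -/
theorem exists_neg : ∃ g, D.SG g ∧ g.val *ᵥ x = -x ∧ g.val *ᵥ f = -f ∧ ∀ b, g.val *ᵥ e b = e b := by
  obtain ⟨h1, h2⟩ := H.qxf
  have C := D.spaceW
  refine ⟨_, Or.inr ⟨x + f, x - f, h1, h2, rfl⟩, ?_⟩
  have q1 : D.qW (x + f) = 1 := by
    rw [qW_eq]; simp [H.xx, H.ff, H.xf, H.fx]; field_simp [D.h2]; ring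
  have q2 : D.qW (x - f) = -1 := by
    rw [qW_eq]; simp [H.xx, H.ff, H.xf, H.fx]; field_simp [D.h2]; ring
  have r1 := fun v => Orth.rGL_act C h1 v
  have r2 := fun v => Orth.rGL_act C h2 v
  simp only [qW] at q1 q2
  refine ⟨?_, ?_, fun b => ?_⟩ <;>
  · rw [Orth.mul_act, r2, r1, q1, q2]
    simp [H.xx, H.ff, H.xf, H.fx, H.xe, H.fe]
    try module

/-- The exchange of the hyperbolic pair. -/
theorem exists_exch : ∃ g, D.SG g ∧ g.val *ᵥ x = f ∧ g.val *ᵥ f = x := by
  obtain ⟨-, h2⟩ := H.qxf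
  have C := D.spaceW
  set b : Fin m := ⟨0, by have := H.two; omega⟩
  refine ⟨_, Or.inr ⟨x - f, e b, h2, H.qe b, rfl⟩, ?_⟩
  have q2 : D.qW (x - f) = -1 := by
    rw [qW_eq]; simp [H.xx, H.ff, H.xf, H.fx]; field_simp [D.h2]; ring
  simp only [qW] at q2
  constructor <;>
  · rw [Orth.mul_act, Orth.rGL_fix C (H.qe b) (by simp [H.ex, H.ef]), Orth.rGL_act C h2, q2]
    simp [H.xx, H.ff, H.xf, H.fx]

theorem sg_uW (b : Fin m) : D.SG (D.uW x (e b)) := Or.inl (D.uW_mem_root H.xx (H.xe b))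

theorem parallelogram {a b : Fin k → F} (hab : D.formW a b = 0) :
    (D.sW (x + (a + b) - D.qW (a + b) • f) + D.sW (x - (a + b) - D.qW (a + b) • f) - (2 : F) • D.sW x) +
      (D.sW (x + (a - b) - D.qW (a - b) • f) + D.sW (x - (a - b) - D.qW (a - b) • f) - (2 : F) • D.sW x) -
      (2 : F) • (D.sW (x + a - D.qW a • f) + D.sW (x - a - D.qW a • f) - (2 : F) • D.sW x) -
      (2 : F) • (D.sW (x + b - D.qW b • f) + D.sW (x - b - D.qW b • f) - (2 : F) • D.sW x) =
      (8 * D.qW a * D.qW b) • D.sW f := by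
  have h1 : D.qW (a + b) = D.qW a + D.qW b := by
    simp only [qW, D.spaceW.add, hab, add_zero]
  have h2 : D.qW (a - b) = D.qW a + D.qW b := by
    simp only [qW, sub_eq_add_neg, D.spaceW.add, D.spaceW.neg, map_neg, hab, neg_zero, add_zero]
  refine Orth.mat_ext fun w => ?_
  simp only [h1, h2, Matrix.sub_mulVec, Matrix.add_mulVec, Matrix.smul_mulVec, sW_mulVec, map_add, map_sub,
    map_smul, LinearMap.add_apply, LinearMap.sub_apply, LinearMap.smul_apply, smul_eq_mul]
  module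

end Frame

/-- A difference of two points gives a point. -/
theorem Frame.sx_mem (H : D.Frame x f e) {i : Fin t} {Z : Submodule F (Matrix (Idx k t) (Idx k t) F)}
    (hZ : D.SInv i Z) {E : Matrix (Idx k t) (Idx k t) F} (hE : Com i E)
    (h : fa i (D.sW x - D.sW f) * E ∈ Z) : fa i (D.sW f) * E ∈ Z := by
  let P : Submodule F (Matrix (Fin k) (Fin k) F) :=
    Z.comap ((LinearMap.mulRight F E).comp (fa i).toLinearMap)
  have hP : ∀ {M}, M ∈ P ↔ fa i M * E ∈ Z := fun {M} => Iff.rfl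
  have hX : ∀ a, D.formW f a = 0 → D.formW x a = 0 →
      D.sW (x + a - D.qW a • f) + D.sW (x - a - D.qW a • f) - (2 : F) • D.sW x ∈ P := by
    intro a hfa hxa
    have key : ∀ a, D.formW f a = 0 → D.formW x a = 0 → D.sW (x + a - D.qW a • f) - D.sW x ∈ P := by
      intro a hfa hxa
      have h1 := hZ _ (Or.inl (D.uW_mem_root H.ff hfa)) _ h
      rw [conj_fa_mul hE, map_sub, D.conj_sW (Orth.sGL_mem D.spaceW (D.qW_zero.2 H.ff) hfa),
        D.conj_sW (Orth.sGL_mem D.spaceW (D.qW_zero.2 H.ff) hfa), D.uW_mulVec H.ff hfa,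
        D.uW_mulVec H.ff hfa, H.fx, H.ff, D.formW_symm a x, hxa, D.formW_symm a f, hfa] at h1
      simp only [one_smul, zero_smul, add_zero, zero_add, mul_one, mul_zero, sub_zero] at h1
      have h2 := P.sub_mem (hP.2 h1) (hP.2 h)
      convert h2 using 1
      abel
    have h1 := key a hfa hxa
    have h2 := key (-a) (by simp [hfa]) (by simp [hxa])
    rw [show D.qW (-a) = D.qW a from D.spaceW.neg a, ← sub_eq_add_neg] at h2
    convert P.add_mem h1 h2 using 1
    module
  set b0 : Fin m := ⟨0, by have := H.two; omega⟩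
  obtain ⟨b1, h01⟩ := H.other b0
  have hfin := P.sub_mem (P.sub_mem
    (P.add_mem (hX (e b0 + e b1) (by simp [H.fe]) (by simp [H.xe])) (hX (e b0 - e b1) (by simp [H.fe]) (by simp [H.xe])))
    (P.smul_mem (2 : F) (hX (e b0) (H.fe _) (H.xe _)))) (P.smul_mem (2 : F) (hX (e b1) (H.fe _) (H.xe _)))
  rw [H.parallelogram (H.orth b0 b1 h01.symm), P.smul_mem_iff (by
    have h8 : (8 : F) ≠ 0 := by
      rw [show (8 : F) = 2 * 2 * 2 by norm_num]; exact mul_ne_zero (mul_ne_zero D.h2 D.h2) D.h2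
    exact mul_ne_zero (mul_ne_zero h8 (H.qe b0)) (H.qe b1))] at hfin
  exact hP.1 hfin

theorem Frame.uW_sub_one_cube (H : D.Frame x f e) {a : Fin k → F} (hxa : D.formW x a = 0) :
    ((D.uW x a).val - 1) ^ 3 = 0 := by
  rw [D.uW_val (D.qW_zero.2 H.xx) hxa, add_sub_assoc, add_sub_cancel_left, pow_succ, sq]
  simp only [sub_mul, mul_sub, smul_mul_assoc, mul_smul_comm, D.nW_mul H.xx hxa hxa, D.sW_mul_nW H.xx hxa,
    D.nW_mul_sW H.xx hxa, D.sW_sq H.xx, smul_zero, mul_zero, zero_mul, sub_zero]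

/-- Conjugation by a Siegel element of one factor is unipotent. -/
theorem Frame.conj_nilpotent (H : D.Frame x f e) (i : Fin t) (b : Fin m) :
    IsNilpotent ((conjA (fu i (D.uW x (e b)) : GL (Idx k t) F)).toLinearMap - 1) := by
  set u := fu i (D.uW x (e b))
  have hneg : D.formW x (-e b) = 0 := by rw [map_neg, H.xe, neg_zero]
  have hu : IsNilpotent (u.val - 1) := ⟨3, by
    rw [fu_val, ← map_one (fa (F := F) (m := k) i), ← map_sub, ← map_pow, H.uW_sub_one_cube (H.xe b), map_zero]⟩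
  have hu' : IsNilpotent ((u⁻¹).val - 1) := ⟨3, by
    rw [fu_inv_val, ← map_one (fa (F := F) (m := k) i), ← map_sub, ← map_pow,
      show (D.uW x (e b))⁻¹ = D.uW x (-e b) from inv_eq_of_mul_eq_one_right (by
        rw [D.uW_mul H.xx (H.xe b) hneg, add_neg_cancel, D.uW_zero H.xx]),
      H.uW_sub_one_cube hneg, map_zero]⟩
  have e : (conjA u).toLinearMap - 1 =
      LinearMap.mulLeft F (u.val - 1) * LinearMap.mulRight F (u⁻¹).val +
        LinearMap.mulRight F ((u⁻¹).val - 1) := LinearMap.ext fun X => by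
    show u.val * X * (u⁻¹).val - X = (u.val - 1) * (X * (u⁻¹).val) + X * ((u⁻¹).val - 1)
    noncomm_ring
  rw [e]
  refine Commute.isNilpotent_add ?_ ?_ ?_
  · refine LinearMap.ext fun X => ?_
    show (u.val - 1) * ((X * ((u⁻¹).val - 1)) * (u⁻¹).val) = ((u.val - 1) * (X * (u⁻¹).val)) * ((u⁻¹).val - 1)
    noncomm_ring
  · refine Commute.isNilpotent_mul_right ?_ ?_
    · exact LinearMap.commute_mulLeft_right _ _
    · obtain ⟨j, hj⟩ := hu
      exact ⟨j, by rw [LinearMap.pow_mulLeft, hj, LinearMap.mulLeft_zero_eq_zero]⟩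
  · obtain ⟨j, hj⟩ := hu'
    exact ⟨j, by rw [LinearMap.pow_mulRight, hj, LinearMap.mulRight_zero_eq_zero]⟩

/-- A point fixed along one factor modulo an invariant space. -/
theorem Frame.exists_fix (H : D.Frame x f e) (i : Fin t)
    (Z Z₀ : Submodule F (Matrix (Idx k t) (Idx k t) F)) (hZ : D.SInv i Z) (h₀ : D.SInv i Z₀)
    (hlt : ∃ X ∈ Z, X ∉ Z₀) : ∃ X ∈ Z, X ∉ Z₀ ∧ ∀ b, conjA (fu i (D.uW x (e b))) X - X ∈ Z₀ := by
  refine OOTensor.exists_fixed_mod (I := Fin m) (fun b => (conjA (fu i (D.uW x (e b)))).toLinearMap - 1)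
    (fun b => ?_) (fun b c => ?_) Z₀ Z (fun b X hX => Z₀.sub_mem (h₀ _ (H.sg_uW b) X hX) hX)
    (fun b X hX => Z.sub_mem (hZ _ (H.sg_uW b) X hX) hX) hlt
  · exact H.conj_nilpotent i b
  · refine LinearMap.ext fun X => ?_
    have key : conjA (fu i (D.uW x (e b))) (conjA (fu i (D.uW x (e c))) X) =
        conjA (fu i (D.uW x (e c))) (conjA (fu i (D.uW x (e b))) X) := by
      rw [← conjA_mul, ← conjA_mul, ← map_mul, ← map_mul, D.uW_mul H.xx (H.xe b) (H.xe c),
        D.uW_mul H.xx (H.xe c) (H.xe b), add_comm]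
    simp only [Module.End.mul_apply, LinearMap.sub_apply, Module.End.one_apply, AlgEquiv.toLinearMap_apply,
      map_sub, key]
    abel

/-- The linear part of a fixed matrix. -/
theorem Frame.fixed_sum (H : D.Frame x f e) (M : Matrix (Fin k) (Fin k) F)
    (h : ∀ b, ∃ s : F, (D.uW x (e b)).val * M - M * (D.uW x (e b)).val = s • (D.uW x (e b)).val) :
    M = D.formW f (M *ᵥ x) • 1 +
      (∑ b, (D.formW (e b) (M *ᵥ f) / D.formW (e b) (e b)) • D.nW x (e b)) +
      D.formW f (M *ᵥ f) • D.sW x := by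
  have h1 := H.fixed_form M h
  set B := M *ᵥ f - D.formW f (M *ᵥ x) • f - D.formW f (M *ᵥ f) • x with hB
  have hfB : D.formW f B = 0 := by simp [hB, H.fx, H.ff]
  have hxB : D.formW x B = 0 := by
    have h2 := congrArg (fun Y : Matrix (Fin k) (Fin k) F => D.formW f (Y *ᵥ x)) h1
    simpa [Matrix.add_mulVec, Matrix.smul_mulVec, nW_mulVec, sW_mulVec, H.xx, H.fx, D.formW_symm B x] using h2
  have hbB : ∀ b, D.formW (e b) B = D.formW (e b) (M *ᵥ f) := fun b => by simp [hB, H.ef, H.ex]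
  have e1 : D.nW x B = ∑ b, (D.formW (e b) (M *ᵥ f) / D.formW (e b) (e b)) • D.nW x (e b) := by
    have e2 := H.dec B
    rw [hfB, hxB, zero_smul, zero_smul, zero_add, zero_add] at e2
    simp only [hbB] at e2
    refine Orth.mat_ext fun w => ?_
    rw [nW_mulVec, e2, Matrix.sum_mulVec]
    simp only [Matrix.smul_mulVec, nW_mulVec, smul_sub, Finset.sum_sub_distrib, map_sum, map_smul,
      LinearMap.sum_apply, LinearMap.smul_apply, Finset.smul_sum, Finset.sum_smul, smul_smul, smul_eq_mul]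
    congr 1
    exact Finset.sum_congr rfl fun b _ => by rw [mul_comm]
  rw [← e1]
  exact h1

/-- The shape of a fixed point and its parts. -/
theorem Frame.decomp (H : D.Frame x f e) {i : Fin (t + 1)}
    {Z : Submodule F (Matrix (Idx k (t + 1)) (Idx k (t + 1)) F)} (hZ : D.SInv i Z)
    {X : Matrix (Idx k (t + 1)) (Idx k (t + 1)) F} (hX : X ∈ Z)
    (hfix : ∀ b, Com i (conjA (fu i (D.uW x (e b))) X - X)) :
    ∃ (C E : Matrix (Idx k (t + 1)) (Idx k (t + 1)) F) (B : Fin m → Matrix (Idx k (t + 1)) (Idx k (t + 1)) F),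
      Com i C ∧ Com i E ∧ (∀ b, Com i (B b)) ∧
      X = C + (∑ b, fa i (D.nW x (e b)) * B b) + fa i (D.sW x) * E ∧
      (∑ b, fa i (D.nW x (e b)) * B b) ∈ Z ∧ fa i (D.sW x - D.sW f) * E ∈ Z ∧ fa i (D.sW f) * E ∈ Z := by
  have hk : 0 < k := by
    by_contra hc
    obtain rfl : k = 0 := by omega
    exact H.x0 (funext fun a => a.elim0)
  set C := psi i (slf i (fun M => D.formW f (M *ᵥ x)) X) with hCdef
  set E := psi i (slf i (fun M => D.formW f (M *ᵥ f)) X) with hEdef
  set B := fun b => psi i (slf i (fun M => D.formW (e b) (M *ᵥ f) / D.formW (e b) (e b)) X) with hBdef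
  have hC : Com i C := com_psi _ _
  have hE : Com i E := com_psi _ _
  have hB : ∀ b, Com i (B b) := fun b => com_psi _ _
  have hform : X = C + (∑ b, fa i (D.nW x (e b)) * B b) + fa i (D.sW x) * E := by
    refine sl_ext i fun w w' => ?_
    simp only [map_add, map_sum, hCdef, hEdef, hBdef, sl_psi, sl_fa_psi, slf_apply]
    refine H.fixed_sum _ fun b => ?_
    obtain ⟨c, hc⟩ := sl_com hk i (hfix b) w w'
    refine ⟨c, ?_⟩
    have h1 : sl i w w' ((conjA (fu i (D.uW x (e b))) X - X) * fa i (D.uW x (e b)).val) =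
        c • (D.uW x (e b)).val := by rw [sl_mul_fa, hc, smul_mul_assoc, one_mul]
    rw [sub_mul, map_sub, conjA_apply, fu_val, fu_inv_val, mul_assoc, ← map_mul, Units.inv_mul, map_one,
      mul_one, sl_fa_mul, sl_mul_fa] at h1
    exact h1
  obtain ⟨g, hg, gx, gf, ge⟩ := H.exists_neg
  have hgX : conjA (fu i g) X = C - (∑ b, fa i (D.nW x (e b)) * B b) + fa i (D.sW x) * E := by
    conv_lhs => rw [hform]
    rw [map_add, map_add, conjA_fu_com hC, conj_fa_mul hE, D.conj_sW hg.iso, gx, map_sum]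
    have e1 : ∀ b, conjA (fu i g) (fa i (D.nW x (e b)) * B b) = -(fa i (D.nW x (e b)) * B b) := fun b => by
      rw [conj_fa_mul (hB b), D.conj_nW hg.iso, gx, ge, ← neg_mul, ← map_neg]
      congr 2
      refine Orth.mat_ext fun w => ?_
      simp [Matrix.neg_mulVec, nW_mulVec, add_comm]
      module
    have e2 : D.sW (-x) = D.sW x := Orth.mat_ext fun w => by simp [sW_mulVec]
    simp only [e1, e2, Finset.sum_neg_distrib, sub_eq_add_neg]
  have hN : (∑ b, fa i (D.nW x (e b)) * B b) ∈ Z := by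
    have h1 := Z.sub_mem hX (hZ g hg X hX)
    rw [hgX] at h1
    conv at h1 => arg 2; arg 1; rw [hform]
    rw [show C + (∑ b, fa i (D.nW x (e b)) * B b) + fa i (D.sW x) * E -
        (C - (∑ b, fa i (D.nW x (e b)) * B b) + fa i (D.sW x) * E) =
        (2 : F) • ∑ b, fa i (D.nW x (e b)) * B b by module, Z.smul_mem_iff D.h2] at h1
    exact h1
  obtain ⟨g', hg', g'x, g'f⟩ := H.exists_exch
  have hY : C + fa i (D.sW x) * E ∈ Z := by
    have h1 := Z.sub_mem hX hN
    conv at h1 => arg 2; arg 1; rw [hform]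
    convert h1 using 1
    abel
  have hD : fa i (D.sW x - D.sW f) * E ∈ Z := by
    have h1 := Z.sub_mem hY (hZ g' hg' _ hY)
    rw [map_add, conjA_fu_com hC, conj_fa_mul hE, D.conj_sW hg'.iso, g'x] at h1
    rw [map_sub, sub_mul]
    convert h1 using 1
    abel
  exact ⟨C, E, B, hC, hE, hB, hform, hN, hD, H.sx_mem hZ hE hD⟩

/-- The Siegel elements at a frame generate all matrices of the factor. -/
theorem Frame.gen_top (H : D.Frame x f e) {P : Subalgebra F (Matrix (Fin k) (Fin k) F)}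
    (hP : ∀ z b, (z = x ∨ z = f) → (D.uW z (e b)).val ∈ P ∧ (D.uW z (-e b)).val ∈ P) : P = ⊤ := by
  have hN : ∀ z b, (z = x ∨ z = f) → D.nW z (e b) ∈ P ∧ D.sW z ∈ P := by
    intro z b hz
    have hzz : D.formW z z = 0 := by rcases hz with rfl | rfl <;> [exact H.xx; exact H.ff]
    have hze : D.formW z (e b) = 0 := by rcases hz with rfl | rfl <;> [exact H.xe b; exact H.fe b]
    have hzn : D.formW z (-e b) = 0 := by rw [map_neg, hze, neg_zero]
    obtain ⟨h1, h2⟩ := hP z b hz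
    have e1 : (D.uW z (e b)).val - (D.uW z (-e b)).val = (2 : F) • D.nW z (e b) := by
      refine Orth.mat_ext fun w => ?_
      rw [Matrix.sub_mulVec, Matrix.smul_mulVec, D.uW_mulVec hzz hze, D.uW_mulVec hzz hzn, nW_mulVec,
        show D.qW (-e b) = D.qW (e b) from D.spaceW.neg _, map_neg, LinearMap.neg_apply]
      module
    have h3 : D.nW z (e b) ∈ P := by
      have h4 := P.smul_mem (P.sub_mem h1 h2) ((2 : F)⁻¹)
      rwa [e1, smul_smul, inv_mul_cancel₀ D.h2, one_smul] at h4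
    refine ⟨h3, ?_⟩
    have h4 := P.smul_mem (P.mul_mem h3 h3) (-D.formW (e b) (e b))⁻¹
    rwa [D.nW_mul hzz hze hze, smul_smul, inv_mul_cancel₀ (neg_ne_zero.2 (H.ne b)), one_smul] at h4
  set b0 : Fin m := ⟨0, by have := H.two; omega⟩
  have sx := (hN x b0 (Or.inl rfl)).2
  have sf := (hN f b0 (Or.inr rfl)).2
  let R : (Fin k → F) → (Fin k → F) → Prop := fun u v => Matrix.vecMulVec u (D.dual v) ∈ P
  have xf : R x f := by
    have := P.mul_mem sx sf
    rwa [sW, sW, D.vmv_mul, H.xf, one_smul] at this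
  have fx : R f x := by
    have := P.mul_mem sf sx
    rwa [sW, sW, D.vmv_mul, H.fx, one_smul] at this
  have ef : ∀ b, R (e b) f := fun b => by
    have := P.mul_mem (hN x b (Or.inl rfl)).1 sf
    rw [show D.nW x (e b) * D.sW f = Matrix.vecMulVec (e b) (D.dual f) from Orth.mat_ext fun w => by
      rw [← Matrix.mulVec_mulVec, sW_mulVec, nW_mulVec, vmv_mulVec, map_smul, map_smul, H.xf, H.ef]
      simp] at this
    exact this
  have fe : ∀ b, R f (e b) := fun b => by
    have := P.neg_mem (P.mul_mem sf (hN x b (Or.inl rfl)).1)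
    rw [show -(D.sW f * D.nW x (e b)) = Matrix.vecMulVec f (D.dual (e b)) from Orth.mat_ext fun w => by
      rw [Matrix.neg_mulVec, ← Matrix.mulVec_mulVec, sW_mulVec, nW_mulVec, vmv_mulVec, map_sub, map_smul,
        map_smul, H.fe, H.fx]
      simp] at this
    exact this
  have ex : ∀ b, R (e b) x := fun b => by
    have := P.mul_mem (ef b) sx
    rwa [sW, D.vmv_mul, H.fx, one_smul] at this
  have xe : ∀ b, R x (e b) := fun b => by
    have := P.mul_mem sx (fe b)
    rwa [sW, D.vmv_mul, H.xf, one_smul] at this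
  have ee : ∀ b c, R (e b) (e c) := fun b c => by
    have := P.mul_mem (ex b) (fe c)
    rwa [D.vmv_mul, H.xf, one_smul] at this
  refine eq_top_iff.2 fun M _ => ?_
  have hv : ∀ u v, R x v → R f v → (∀ b, R (e b) v) → R u v := fun u v h1 h2 h3 => by
    let L : (Fin k → F) →ₗ[F] Matrix (Fin k) (Fin k) F :=
      { toFun := fun u => Matrix.vecMulVec u (D.dual v)
        map_add' := fun a c => Matrix.add_vecMulVec a c _
        map_smul' := fun s a => Matrix.smul_vecMulVec s a _ }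
    show L u ∈ P
    rw [H.dec u]
    simp only [map_add, map_smul, map_sum]
    exact P.add_mem (P.add_mem (P.smul_mem h1 _) (P.smul_mem h2 _)) (P.sum_mem fun b _ => P.smul_mem (h3 b) _)
  have e1 : M = Matrix.vecMulVec (M *ᵥ x) (D.dual f) + Matrix.vecMulVec (M *ᵥ f) (D.dual x) +
      ∑ b, (D.formW (e b) (e b))⁻¹ • Matrix.vecMulVec (M *ᵥ e b) (D.dual (e b)) := by
    refine H.mat_ext ?_ ?_ fun c => ?_
    · simp [Matrix.add_mulVec, Matrix.sum_mulVec, Matrix.smul_mulVec, vmv_mulVec, H.fx, H.xx, H.ex]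
    · simp [Matrix.add_mulVec, Matrix.sum_mulVec, Matrix.smul_mulVec, vmv_mulVec, H.ff, H.xf, H.ef]
    · rw [Matrix.add_mulVec, Matrix.add_mulVec, Matrix.sum_mulVec, Finset.sum_eq_single c (fun b _ hb => by
        rw [Matrix.smul_mulVec, vmv_mulVec, H.orth b c hb, zero_smul, smul_zero])
        (fun h => absurd (Finset.mem_univ _) h), Matrix.smul_mulVec, vmv_mulVec, vmv_mulVec, vmv_mulVec, H.fe,
        H.xe, smul_smul, inv_mul_cancel₀ (H.ne c), one_smul]
      simp
  rw [e1]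
  exact P.add_mem (P.add_mem (hv _ _ xf sf ef) (hv _ _ sx fx ex))
    (P.sum_mem fun c _ => P.smul_mem (hv _ _ (xe c) (fe c) fun b => ee b c) _)

variable (D)

/-- A commutative algebra invariant along every factor consists of scalars. -/
theorem scalar_of_inv [Fintype F] (hk : 4 ≤ k) (A : Subalgebra F (Matrix (Idx k (t + 1)) (Idx k (t + 1)) F))
    (hcomm : ∀ X ∈ A, ∀ Y ∈ A, X * Y = Y * X) (hinv : ∀ l, D.SInv l (Subalgebra.toSubmodule A))
    {X : Matrix (Idx k (t + 1)) (Idx k (t + 1)) F} (hX : X ∈ A) : ∃ c : F, X = c • 1 := by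
  obtain ⟨x, hx, hx0⟩ := D.exists_sing hk
  obtain ⟨m, f, e, H, -⟩ := D.exists_frame hk hx hx0
  have hnil : ∀ Y ∈ A, IsNilpotent Y → Y = 0 := by
    classical
    let I := {Y : Matrix (Idx k (t + 1)) (Idx k (t + 1)) F // Y ∈ A ∧ IsNilpotent Y}
    haveI : Finite I := Subtype.finite
    obtain ⟨v, -, hv0, hv⟩ := OOTensor.exists_fixed_mod (I := I) (fun Y => Matrix.toLinAlgEquiv' Y.1)
      (fun Y => Y.2.2.map _) (fun Y Y' => (show Commute Y.1 Y'.1 from hcomm _ Y.2.1 _ Y'.2.1).map _)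
      (⊥ : Submodule F (Idx k (t + 1) → F)) ⊤ (fun Y z hz => by
        rw [Submodule.mem_bot] at hz
        rw [hz, map_zero]; exact Submodule.zero_mem _) (fun _ _ _ => trivial)
      ⟨Pi.single (fun _ => ⟨0, by omega⟩) 1, trivial, by simp⟩
    let K : Submodule F (Idx k (t + 1) → F) :=
      { carrier := {v | ∀ Y : I, Y.1 *ᵥ v = 0}
        add_mem' := fun ha hb Y => by rw [Matrix.mulVec_add, ha Y, hb Y, add_zero]
        zero_mem' := fun Y => Matrix.mulVec_zero _
        smul_mem' := fun c v hv Y => by rw [Matrix.mulVec_smul, hv Y, smul_zero] }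
    let C : Subalgebra F (Matrix (Idx k (t + 1)) (Idx k (t + 1)) F) :=
      { carrier := {M | ∀ v ∈ K, M *ᵥ v ∈ K}
        mul_mem' := fun ha hb v hv => by rw [← Matrix.mulVec_mulVec]; exact ha _ (hb v hv)
        one_mem' := fun v hv => by rwa [Matrix.one_mulVec]
        add_mem' := fun ha hb v hv => by rw [Matrix.add_mulVec]; exact K.add_mem (ha v hv) (hb v hv)
        zero_mem' := fun v _ => by rw [Matrix.zero_mulVec]; exact K.zero_mem
        algebraMap_mem' := fun c v hv => by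
          rw [Algebra.algebraMap_eq_smul_one, Matrix.smul_mulVec, Matrix.one_mulVec]; exact K.smul_mem c hv }
    have hC : C = ⊤ := eq_top_of_fa_mem fun l M => by
      have hsg : ∀ g, D.SG g → (fu l g⁻¹).val ∈ C := fun g hg v hv Y => by
        rw [Matrix.mulVec_mulVec]
        have h2 : (fu l g).val * Y.1 * ((fu l g)⁻¹).val ∈ A := hinv l g hg _ Y.2.1
        have h3 := hv ⟨_, h2, Y.2.2.map (conjA (fu l g)).toAlgHom⟩
        have h4 := congrArg ((fu l g⁻¹).val *ᵥ ·) h3
        simp only [Matrix.mulVec_zero, Matrix.mulVec_mulVec, ← mul_assoc] at h4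
        rwa [map_inv, Units.inv_mul, one_mul, ← map_inv] at h4
      have htop := H.gen_top (P := C.comap (fa l)) fun z b hz => by
        have hzz : D.formW z z = 0 := by rcases hz with rfl | rfl <;> [exact H.xx; exact H.ff]
        have hze : D.formW z (e b) = 0 := by rcases hz with rfl | rfl <;> [exact H.xe b; exact H.fe b]
        have hzn : D.formW z (-e b) = 0 := by rw [map_neg, hze, neg_zero]
        have hinv' : (D.uW z (e b))⁻¹ = D.uW z (-e b) := inv_eq_of_mul_eq_one_right (by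
          rw [D.uW_mul hzz hze hzn, add_neg_cancel, D.uW_zero hzz])
        constructor
        · have := hsg _ (Or.inl (D.uW_mem_root hzz hzn))
          rwa [← hinv', inv_inv] at this
        · have := hsg _ (Or.inl (D.uW_mem_root hzz hze))
          rwa [hinv'] at this
      have : M ∈ C.comap (fa l) := htop ▸ Algebra.mem_top
      exact this
    intro Y hYA hY
    have hK : v ∈ K := fun Y => by simpa using hv Y
    have hall : ∀ w, w ∈ K := fun w => by
      obtain ⟨j, hj⟩ : ∃ j, v j ≠ 0 := Function.ne_iff.1 (show v ≠ 0 from fun h => hv0 (by simp [h]))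
      have hM : Matrix.vecMulVec w (Pi.single j (v j)⁻¹) ∈ C := hC ▸ Algebra.mem_top
      have h1 := hM v hK
      rwa [Matrix.vecMulVec_mulVec, single_dotProduct, inv_mul_cancel₀ hj, MulOpposite.op_one, one_smul] at h1
    exact Orth.mat_ext fun w => by rw [Matrix.zero_mulVec]; exact hall w ⟨Y, hYA, hY⟩
  refine scalar_of_com (by omega) fun l => ?_
  by_contra hcon
  let Z := Subalgebra.toSubmodule A
  let Z₀ : Submodule F (Matrix (Idx k (t + 1)) (Idx k (t + 1)) F) :=
    Z ⊓ { carrier := {M | Com l M}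
          add_mem' := fun ha hb => ha.add hb
          zero_mem' := fun _ => Commute.zero_right _
          smul_mem' := fun c _ h => h.smul c }
  have hZ₀ : D.SInv l Z₀ := fun g hg Y hY => ⟨hinv l g hg Y hY.1, by
    show Com l (conjA (fu l g) Y)
    rw [conjA_fu_com hY.2]; exact hY.2⟩
  obtain ⟨Y, hY, hY0, hfix⟩ := H.exists_fix l Z Z₀ (hinv l) hZ₀ ⟨X, hX, fun h => hcon h.2⟩
  obtain ⟨C, E, B, hC, hE, hB, hform, hN, -, hS⟩ := H.decomp (hinv l) hY fun b => (hfix b).2
  have hS0 : fa l (D.sW f) * E = 0 := hnil _ hS ⟨2, by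
    rw [sq, mul_assoc, ← mul_assoc E, ← (hE _).eq, ← mul_assoc, ← mul_assoc, ← map_mul, D.sW_sq H.ff, map_zero,
      zero_mul, zero_mul]⟩
  have hsf : D.sW f ≠ 0 := fun h => by
    have := congrArg (· *ᵥ x) h
    simp [sW_mulVec, H.fx, H.f0] at this
  have hE0 := eq_zero_of_fa_mul hsf hE hS0
  have hN0 : (∑ b, fa l (D.nW x (e b)) * B b) = 0 := hnil _ hN ⟨3, by
    have key : ∀ b c, fa l (D.nW x (e b)) * B b * (fa l (D.nW x (e c)) * B c) =
        fa l (D.nW x (e b) * D.nW x (e c)) * (B b * B c) := fun b c => by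
      rw [map_mul, mul_assoc, ← mul_assoc (B b), ← (hB b _).eq]
      simp only [mul_assoc]
    rw [pow_succ, sq]
    simp only [Finset.sum_mul, Finset.mul_sum, key]
    refine Finset.sum_eq_zero fun a _ => Finset.sum_eq_zero fun b _ => Finset.sum_eq_zero fun c _ => ?_
    rw [D.nW_mul H.xx (H.xe _) (H.xe _)]
    rw [mul_assoc, ← mul_assoc (B _ * B _), ← ((hB _).mul (hB _) _).eq]
    simp only [← mul_assoc, ← map_mul, smul_mul_assoc, D.sW_mul_nW H.xx (H.xe _), smul_zero, map_zero, zero_mul]⟩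
  refine hY0 ⟨hY, ?_⟩
  show Com l Y
  rw [hform, hN0, hE0, mul_zero, add_zero, add_zero]
  exact hC

end Dia

end Cfsg.Lib.Linear.OTWreath
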