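import Cfsg.Agent.Lib.Linear.OTWreath.Std

/-!
# Adapted bases of one factor
-/

set_option autoImplicit false
set_option linter.unusedSectionVars false
set_option linter.unusedSimpArgs false
set_option linter.style.haveILetI false

namespace Cfsg.Lib.Linear.OTWreath

open Cfsg.Geo Module
open Cfsg.Lib.Linear.OOTensor (qf)
open Cfsg.Lib.Linear.Orth (sGL rGL perp2 mem_perp2 Hyp)
open scoped Matrix MatrixGroups

variable {F : Type*} [Field F] {k m : ℕ}

/-- Two values of a binary form reach everything. -/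
theorem rep_two [Fintype F] (h2 : (2 : F) ≠ 0) {A B : F} (hA : A ≠ 0) (hB : B ≠ 0) (c : F) :
    ∃ a b : F, A * (a * a) + B * (b * b) = c := by
  open Polynomial in
  have hodd : Fintype.card F % 2 = 1 := by
    rcases Nat.mod_two_eq_zero_or_one (Fintype.card F) with h | h
    · exfalso
      rw [← FiniteField.even_card_iff_char_two] at h
      haveI : CharP F 2 := h ▸ ringChar.charP F
      exact h2 (CharTwo.two_eq_zero)
    · exact h
  open Polynomial in
  obtain ⟨a, b, h⟩ := FiniteField.exists_root_sum_quadratic (f := C A * X ^ 2 + C 0 * X + C (-c))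
    (g := C B * X ^ 2) (degree_quadratic hA) (degree_C_mul_X_pow 2 hB) hodd
  refine ⟨a, b, ?_⟩
  simp only [Polynomial.eval_add, Polynomial.eval_mul, Polynomial.eval_C, Polynomial.eval_pow, Polynomial.eval_X] at h
  linear_combination h

namespace Dia

variable (D : Dia k F)

/-- Half the norm of a vector. -/
abbrev qW (x : Fin k → F) : F := qf D.formW x

theorem qW_eq (x : Fin k → F) : D.qW x = (2 : F)⁻¹ * D.formW x x := rfl

theorem qW_zero {x : Fin k → F} : D.qW x = 0 ↔ D.formW x x = 0 := by simp [qW, qf, D.h2]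

/-- A hyperbolic pair with an orthogonal basis of its perpendicular space. -/
structure Frame (x f : Fin k → F) (e : Fin m → Fin k → F) : Prop where
  two : 2 ≤ m
  xx : D.formW x x = 0
  ff : D.formW f f = 0
  xf : D.formW x f = 1
  xe : ∀ b, D.formW x (e b) = 0
  fe : ∀ b, D.formW f (e b) = 0
  orth : ∀ b c, b ≠ c → D.formW (e b) (e c) = 0
  ne : ∀ b, D.formW (e b) (e b) ≠ 0
  dec : ∀ v, v = D.formW f v • x + D.formW x v • f +
    ∑ b, (D.formW (e b) v / D.formW (e b) (e b)) • e b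

namespace Frame

variable {D} {x f : Fin k → F} {e : Fin m → Fin k → F} (H : D.Frame x f e)
include H

theorem fx : D.formW f x = 1 := by rw [D.formW_symm]; exact H.xf
theorem ex (b : Fin m) : D.formW (e b) x = 0 := by rw [D.formW_symm]; exact H.xe b
theorem ef (b : Fin m) : D.formW (e b) f = 0 := by rw [D.formW_symm]; exact H.fe b
theorem x0 : x ≠ 0 := fun h => by simpa [h] using H.xf
theorem f0 : f ≠ 0 := fun h => by simpa [h] using H.xf
theorem qx : D.qW x = 0 := D.qW_zero.2 H.xx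
theorem qfz : D.qW f = 0 := D.qW_zero.2 H.ff
theorem qe (b : Fin m) : D.qW (e b) ≠ 0 := fun h => H.ne b (D.qW_zero.1 h)

theorem symm : D.Frame f x e :=
  ⟨H.two, H.ff, H.xx, H.fx, H.fe, H.xe, H.orth, H.ne, fun v => (H.dec v).trans (by abel)⟩

theorem other (b : Fin m) : ∃ c, c ≠ b := by
  haveI : Nontrivial (Fin m) := Fin.nontrivial_iff_two_le.2 H.two
  exact exists_ne b

/-- Pairings with the basis determine a vector. -/
theorem vec_ext {v w : Fin k → F} (hx : D.formW x v = D.formW x w) (hf : D.formW f v = D.formW f w)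
    (he : ∀ b, D.formW (e b) v = D.formW (e b) w) : v = w := by
  rw [H.dec v, H.dec w, hx, hf]
  simp only [he]

/-- Values on the basis determine a matrix. -/
theorem mat_ext {M N : Matrix (Fin k) (Fin k) F} (hx : M *ᵥ x = N *ᵥ x) (hf : M *ᵥ f = N *ᵥ f)
    (he : ∀ b, M *ᵥ e b = N *ᵥ e b) : M = N := by
  refine Orth.mat_ext fun v => ?_
  rw [H.dec v]
  simp only [Matrix.mulVec_add, Matrix.mulVec_smul, Matrix.mulVec_sum, hx, hf, he]

end Frame

theorem exists_frame_of (hk : 4 ≤ k) {x f : Fin k → F} (hx : D.formW x x = 0) (hf : D.formW f f = 0)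
    (hxf : D.formW x f = 1) : ∃ (m : ℕ) (e : Fin m → Fin k → F), D.Frame x f e ∧ k ≤ m + 2 := by
  have C := D.spaceW
  have H : Hyp (qf D.formW) D.formW ⊤ x f :=
    ⟨trivial, trivial, D.qW_zero.2 hx, D.qW_zero.2 hf, hxf⟩
  set P := perp2 D.formW ⊤ x f
  letI : Invertible (2 : F) := invertibleOfNonzero D.h2
  have hsym : LinearMap.IsSymm (D.formW.restrict P) := ⟨fun a b => D.formW_symm _ _⟩
  obtain ⟨v, hv⟩ := LinearMap.BilinForm.exists_orthogonal_basis hsym
  have hle : k ≤ finrank F P + 2 := by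
    have := H.le_finrank C
    rwa [finrank_top, finrank_fintype_fun_eq_card, Fintype.card_fin] at this
  have horth : ∀ a b, a ≠ b → D.formW (v a : Fin k → F) (v b) = 0 := fun a b h => hv h
  have hne : ∀ b, D.formW (v b : Fin k → F) (v b) ≠ 0 := fun b h => by
    have h0 : (v b : Fin k → F) = 0 := H.ndeg C C.ndeg_top (v b) (v b).2 fun y hy => by
      have e1 : y = ∑ c, v.repr ⟨y, hy⟩ c • (v c : Fin k → F) := by
        have := congrArg Subtype.val (v.sum_repr ⟨y, hy⟩)
        rw [Submodule.coe_sum] at this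
        exact this.symm.trans (by simp)
      rw [e1, map_sum]
      refine Finset.sum_eq_zero fun c _ => ?_
      rw [map_smul]
      rcases eq_or_ne b c with rfl | hc
      · rw [h, smul_zero]
      · rw [horth b c hc, smul_zero]
    exact v.ne_zero b (Subtype.ext h0)
  refine ⟨finrank F P, fun b => v b, ⟨by omega, hx, hf, hxf, fun b => (mem_perp2.1 (v b).2).2.1,
    fun b => (mem_perp2.1 (v b).2).2.2, horth, hne, fun w => ?_⟩, by omega⟩
  have hr : w - D.formW f w • x - D.formW x w • f ∈ P := H.proj C trivial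
  have e1 : w - D.formW f w • x - D.formW x w • f =
      ∑ c, v.repr ⟨_, hr⟩ c • (v c : Fin k → F) := by
    have := congrArg Subtype.val (v.sum_repr ⟨_, hr⟩)
    rw [Submodule.coe_sum] at this
    exact this.symm.trans (by simp)
  have e2 : ∀ b, v.repr ⟨_, hr⟩ b = D.formW (v b : Fin k → F) w / D.formW (v b : Fin k → F) (v b) := fun b => by
    rw [eq_div_iff (hne b)]
    have h1 := congrArg (D.formW (v b : Fin k → F)) e1
    rw [map_sum, Finset.sum_eq_single b (fun c _ hc => by rw [map_smul, horth b c hc.symm, smul_zero])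
      (fun h => absurd (Finset.mem_univ _) h), map_smul, map_sub, map_sub, map_smul, map_smul, smul_eq_mul] at h1
    obtain ⟨-, h2, h3⟩ := mem_perp2.1 (v b).2
    rw [D.formW_symm _ x, h2, D.formW_symm _ f, h3] at h1
    simpa using h1.symm
  simp only [← e2, ← e1]
  abel

theorem exists_partner {x : Fin k → F} (hx : D.formW x x = 0) (hx0 : x ≠ 0) :
    ∃ f, D.formW f f = 0 ∧ D.formW x f = 1 := by
  obtain ⟨f, H⟩ := Orth.exists_hyp D.spaceW D.spaceW.ndeg_top (Submodule.mem_top : x ∈ ⊤) hx0 (D.qW_zero.2 hx)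
  exact ⟨f, D.qW_zero.1 H.singF, H.pair⟩

theorem exists_frame (hk : 4 ≤ k) {x : Fin k → F} (hx : D.formW x x = 0) (hx0 : x ≠ 0) :
    ∃ (m : ℕ) (f : Fin k → F) (e : Fin m → Fin k → F), D.Frame x f e ∧ k ≤ m + 2 := by
  obtain ⟨f, hf, hxf⟩ := D.exists_partner hx hx0
  obtain ⟨m, e, H, hm⟩ := D.exists_frame_of hk hx hf hxf
  exact ⟨m, f, e, H, hm⟩

theorem exists_sing [Finite F] (hk : 4 ≤ k) : ∃ x : Fin k → F, D.formW x x = 0 ∧ x ≠ 0 := by
  obtain ⟨x, f, H⟩ := Orth.exists_hyp' D.spaceW D.spaceW.ndeg_top (by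
    rw [finrank_top, finrank_fintype_fun_eq_card, Fintype.card_fin]; omega)
  exact ⟨x, D.qW_zero.1 H.singE, fun h => by simpa [h] using H.pair⟩

/-! ## Identities -/

theorem vmv_smul (c : F) (u v : Fin k → F) :
    Matrix.vecMulVec (c • u) (D.dual v) = c • Matrix.vecMulVec u (D.dual v) := Matrix.smul_vecMulVec c u _

theorem nW_mul {x a b : Fin k → F} (hx : D.formW x x = 0) (ha : D.formW x a = 0) (hb : D.formW x b = 0) :
    D.nW x a * D.nW x b = -D.formW a b • D.sW x := by
  refine Orth.mat_ext fun v => ?_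
  rw [← Matrix.mulVec_mulVec, nW_mulVec, nW_mulVec, Matrix.smul_mulVec, sW_mulVec, map_sub, map_smul, map_smul,
    map_sub, map_smul, map_smul, hx, hb, D.formW_symm a x, ha]
  simp [smul_smul, mul_comm]

theorem sW_mul_nW {x a : Fin k → F} (hx : D.formW x x = 0) (ha : D.formW x a = 0) :
    D.sW x * D.nW x a = 0 := by
  refine Orth.mat_ext fun v => ?_
  rw [← Matrix.mulVec_mulVec, nW_mulVec, sW_mulVec, map_sub, map_smul, map_smul, hx, ha]
  simp

theorem nW_mul_sW {x a : Fin k → F} (hx : D.formW x x = 0) (ha : D.formW x a = 0) :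
    D.nW x a * D.sW x = 0 := by
  refine Orth.mat_ext fun v => ?_
  rw [← Matrix.mulVec_mulVec, sW_mulVec, nW_mulVec, map_smul, map_smul, hx, D.formW_symm a x, ha]
  simp

theorem sW_sq {x : Fin k → F} (hx : D.formW x x = 0) : D.sW x * D.sW x = 0 := by
  refine Orth.mat_ext fun v => ?_
  rw [← Matrix.mulVec_mulVec, sW_mulVec, sW_mulVec, map_smul, hx]
  simp

theorem uW_mulVec {x a : Fin k → F} (hx : D.formW x x = 0) (hxa : D.formW x a = 0) (v : Fin k → F) :
    (D.uW x a).val *ᵥ v = v + D.formW x v • a - (D.formW a v + D.qW a * D.formW x v) • x :=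
  Orth.sGL_act D.spaceW (D.qW_zero.2 hx) hxa v

theorem uW_mul {x a b : Fin k → F} (hx : D.formW x x = 0) (ha : D.formW x a = 0) (hb : D.formW x b = 0) :
    D.uW x a * D.uW x b = D.uW x (a + b) :=
  Orth.sGL_mul D.spaceW (D.qW_zero.2 hx) ha hb

theorem uW_zero {x : Fin k → F} (hx : D.formW x x = 0) : D.uW x 0 = 1 :=
  SpTensor.sGL_zero_right D.spaceW (D.qW_zero.2 hx)

theorem uW_pow {x a : Fin k → F} (hx : D.formW x x = 0) (ha : D.formW x a = 0) (j : ℕ) :
    D.uW x a ^ j = D.uW x ((j : F) • a) := by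
  induction j with
  | zero => rw [pow_zero, Nat.cast_zero, zero_smul, D.uW_zero hx]
  | succ j ih => rw [pow_succ, ih, D.uW_mul hx (by rw [map_smul, ha, smul_zero]) ha, Nat.cast_succ, add_smul, one_smul]

theorem uW_mem_root {x a : Fin k → F} (hx : D.formW x x = 0) (hxa : D.formW x a = 0) :
    D.uW x a ∈ Orth.Root (qf D.formW) D.formW ⊤ :=
  Orth.sGL_mem_root trivial trivial (D.qW_zero.2 hx) hxa

variable {D} {x f : Fin k → F} {e : Fin m → Fin k → F}

/-- A matrix centralising the basic Siegel elements up to scalars. -/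
theorem Frame.fixed_form (H : D.Frame x f e) (M : Matrix (Fin k) (Fin k) F)
    (h : ∀ b, ∃ s : F, (D.uW x (e b)).val * M - M * (D.uW x (e b)).val = s • (D.uW x (e b)).val) :
    M = D.formW f (M *ᵥ x) • 1 +
      D.nW x (M *ᵥ f - D.formW f (M *ᵥ x) • f - D.formW f (M *ᵥ f) • x) +
      D.formW f (M *ᵥ f) • D.sW x := by
  have key : ∀ b, ∃ s : F, ∀ v,
      D.formW x (M *ᵥ v) • e b - (D.formW (e b) (M *ᵥ v) + D.qW (e b) * D.formW x (M *ᵥ v)) • x
        - M *ᵥ (D.formW x v • e b - (D.formW (e b) v + D.qW (e b) * D.formW x v) • x)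
        = s • (v + D.formW x v • e b - (D.formW (e b) v + D.qW (e b) * D.formW x v) • x) := fun b => by
    obtain ⟨s, hs⟩ := h b
    refine ⟨s, fun v => ?_⟩
    have h1 := congrArg (· *ᵥ v) hs
    simp only [Matrix.sub_mulVec, ← Matrix.mulVec_mulVec, Matrix.smul_mulVec, D.uW_mulVec H.xx (H.xe b),
      Matrix.mulVec_add, Matrix.mulVec_sub, Matrix.mulVec_smul] at h1
    simp only [Matrix.mulVec_sub, Matrix.mulVec_smul]
    rw [← h1]
    abel
  choose s hs using key
  -- the scalars vanish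
  have hqe : ∀ b, D.qW (e b) = (2 : F)⁻¹ * D.formW (e b) (e b) := fun b => rfl
  have ha : ∀ b, D.formW x (M *ᵥ x) = 0 ∧ -D.formW (e b) (M *ᵥ x) = s b := fun b => by
    have h1 := congrArg (D.formW (e b)) (hs b x)
    have h2 := congrArg (D.formW f) (hs b x)
    simp only [H.xx, H.ex, mul_zero, add_zero, zero_smul, sub_zero, Matrix.mulVec_zero, map_sub, map_smul,
      H.fx, H.fe, smul_eq_mul, mul_one, zero_sub] at h1 h2
    have h0 := (mul_eq_zero.1 h1).resolve_right (H.ne b)
    refine ⟨h0, ?_⟩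
    rw [h0, mul_zero, add_zero] at h2
    exact h2
  have hb : ∀ b b', b' ≠ b → D.formW (e b') (M *ᵥ e b') = D.formW (e b') (M *ᵥ e b') ∧ s b = 0 ∧
      D.formW x (M *ᵥ e b') = 0 ∧ D.formW (e b) (M *ᵥ e b') = 0 := fun b b' hne => by
    have h1 := congrArg (D.formW (e b)) (hs b (e b'))
    have h2 := congrArg (D.formW (e b')) (hs b (e b'))
    have h3 := congrArg (D.formW f) (hs b (e b'))
    simp only [H.xe, H.orth b b' (Ne.symm hne), H.orth b' b hne, mul_zero, add_zero, zero_smul, sub_zero,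
      Matrix.mulVec_zero, map_sub, map_add, map_smul, map_zero, H.fx, H.fe, H.ex, smul_eq_mul, mul_one,
      zero_sub, zero_add] at h1 h2 h3
    have hs0 : s b = 0 := (mul_eq_zero.1 h2.symm).resolve_right (H.ne b')
    have h0 := (mul_eq_zero.1 h1).resolve_right (H.ne b)
    refine ⟨rfl, hs0, h0, ?_⟩
    rw [h0, mul_zero, add_zero] at h3
    exact neg_eq_zero.1 h3
  have hs0 : ∀ b, s b = 0 := fun b => by
    obtain ⟨b', hb'⟩ := H.other b
    exact (hb b b' hb').2.1
  set c := D.formW f (M *ᵥ x)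
  have hMx : M *ᵥ x = c • x := H.vec_ext
    (by rw [map_smul, H.xx, smul_zero]; exact (ha ⟨0, by have := H.two; omega⟩).1)
    (by rw [map_smul, H.fx, smul_eq_mul, mul_one])
    fun b => by rw [map_smul, H.ex, smul_zero]; linear_combination -(ha b).2 - hs0 b
  have he : ∀ b, D.formW x (M *ᵥ e b) = 0 ∧ D.formW (e b) (M *ᵥ e b) = c * D.formW (e b) (e b) := fun b => by
    obtain ⟨b', hb'⟩ := H.other b
    have h0 := (hb b' b hb'.symm).2.2.1
    refine ⟨h0, ?_⟩
    have h1 := congrArg (D.formW f) (hs b (e b))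
    simp only [H.xe, h0, hs0 b, mul_zero, add_zero, zero_smul, zero_sub, Matrix.mulVec_neg,
      Matrix.mulVec_smul, hMx, map_sub, map_smul, map_neg, map_zero, H.fx, smul_eq_mul, mul_one] at h1
    linear_combination -h1
  have hf : ∀ b, D.formW x (M *ᵥ f) = c ∧ D.formW f (M *ᵥ e b) = -D.formW (e b) (M *ᵥ f) := fun b => by
    have h1 := congrArg (D.formW (e b)) (hs b f)
    have h2 := congrArg (D.formW f) (hs b f)
    simp only [H.xf, H.ef, hs0 b, one_smul, zero_add, mul_one, zero_smul, Matrix.mulVec_sub,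
      Matrix.mulVec_smul, hMx, map_sub, map_smul, map_zero, H.ex, H.fe, H.fx, smul_eq_mul, mul_zero,
      sub_zero, zero_sub] at h1 h2
    have h0 : D.formW x (M *ᵥ f) = c :=
      mul_right_cancel₀ (H.ne b) (by linear_combination h1 + (he b).2)
    refine ⟨h0, ?_⟩
    rw [h0] at h2
    linear_combination -h2
  have hxf' : D.formW x (M *ᵥ f) = c := (hf ⟨0, by have := H.two; omega⟩).1
  set B := M *ᵥ f - c • f - D.formW f (M *ᵥ f) • x with hB
  have hxB : D.formW x B = 0 := by simp [hB, hxf', H.xf, H.xx]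
  have hBx : D.formW B x = 0 := by rw [D.formW_symm]; exact hxB
  have hfB : D.formW f B = 0 := by simp [hB, H.fx, H.ff]
  have heB : ∀ b, D.formW B (e b) = D.formW (e b) (M *ᵥ f) := fun b => by
    rw [D.formW_symm]; simp [hB, H.ef, H.ex]
  refine H.mat_ext ?_ ?_ fun b => ?_
  · simp only [Matrix.add_mulVec, Matrix.smul_mulVec, Matrix.one_mulVec, nW_mulVec, sW_mulVec, H.xx, hBx, hMx]
    module
  · simp only [Matrix.add_mulVec, Matrix.smul_mulVec, Matrix.one_mulVec, nW_mulVec, sW_mulVec, H.xf,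
      D.formW_symm B f, hfB]
    rw [hB]
    module
  · simp only [Matrix.add_mulVec, Matrix.smul_mulVec, Matrix.one_mulVec, nW_mulVec, sW_mulVec, H.xe, heB]
    refine H.vec_ext ?_ ?_ fun b' => ?_
    · simp [(he b).1, H.xe, H.xx]
    · simp [(hf b).2, H.fe, H.fx]
    · rcases eq_or_ne b' b with rfl | hne
      · simp [(he b').2, H.ex]
      · simp [(hb b' b hne.symm).2.2.2, H.ex, H.orth b' b hne]

/-- A singular vector is moved to any multiple of a partner. -/
theorem Frame.move [Fintype F] (H : D.Frame x f e) {c : F} (hc : c ≠ 0) :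
    ∃ g ∈ Orth.Root (qf D.formW) D.formW ⊤, g.val *ᵥ x = c • f := by
  have b0 : Fin m := ⟨0, by have := H.two; omega⟩
  obtain ⟨b1, h01⟩ := H.other b0
  obtain ⟨r, s, hrs⟩ := rep_two D.h2 (H.ne b0) (H.ne b1) (-(2 * c))
  set a := r • e b0 + s • e b1 with had
  have hxa : D.formW x a = 0 := by simp [had, H.xe]
  have hfa : D.formW f a = 0 := by simp [had, H.fe]
  have hax : D.formW a x = 0 := by rw [D.formW_symm]; exact hxa
  have haf : D.formW a f = 0 := by rw [D.formW_symm]; exact hfa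
  have hq : D.qW a = -c := by
    have : D.formW a a = D.formW (e b0) (e b0) * (r * r) + D.formW (e b1) (e b1) * (s * s) := by
      simp [had, H.orth b0 b1 h01.symm, H.orth b1 b0 h01]; ring
    rw [D.qW_eq, this, hrs]
    field_simp [D.h2]
  have hq0 : D.qW a ≠ 0 := by rw [hq]; exact neg_ne_zero.2 hc
  set b := (D.qW a)⁻¹ • a
  have hxb : D.formW x b = 0 := by simp [b, hxa]
  refine ⟨D.uW x b * D.uW f a, mul_mem (D.uW_mem_root H.xx hxb) (D.uW_mem_root H.ff hfa), ?_⟩
  have haa : D.formW a a = 2 * D.qW a := D.spaceW.self a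
  rw [Orth.mul_act, D.uW_mulVec H.ff hfa, H.fx, hax, D.uW_mulVec H.xx hxb]
  simp only [b, map_add, map_sub, map_smul, LinearMap.smul_apply, H.xx, hxa, H.xf, hax, haa, haf, H.fx,
    D.spaceW.smul, qW, hq]
  change qf D.formW a = -c at hq
  simp only [hq, smul_eq_mul, one_smul, mul_one, mul_zero, zero_add, add_zero]
  match_scalars <;> field_simp <;> ring

/-- The Siegel elements are transitive on singular vectors. -/
theorem root_trans [Fintype F] (hk : 4 ≤ k) (x z : Fin k → F) (hx : D.qW x = 0) (hx0 : x ≠ 0)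
    (hz : D.qW z = 0) (hz0 : z ≠ 0) : ∃ g ∈ Orth.Root (qf D.formW) D.formW ⊤, g.val *ᵥ x = z := by
  rw [qW_zero] at hx hz
  have opp : ∀ (x z : Fin k → F), D.formW x x = 0 → D.formW z z = 0 → D.formW x z ≠ 0 →
      ∃ g ∈ Orth.Root (qf D.formW) D.formW ⊤, g.val *ᵥ x = z := fun x z hx hz hxz => by
    obtain ⟨m, e, H, -⟩ := D.exists_frame_of hk hx (f := (D.formW x z)⁻¹ • z)
      (by simp [hz]) (by simp [hxz])
    obtain ⟨g, hg, hgx⟩ := H.move hxz
    exact ⟨g, hg, by rw [hgx, smul_smul, mul_inv_cancel₀ hxz, one_smul]⟩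
  by_cases hxz : D.formW x z = 0
  swap
  · exact opp x z hx hz hxz
  obtain ⟨f, hf, hxf⟩ := D.exists_partner hx hx0
  obtain ⟨w, hw, h1, h2⟩ : ∃ w, D.formW w w = 0 ∧ D.formW x w ≠ 0 ∧ D.formW z w ≠ 0 := by
    by_cases hzf : D.formW z f = 0
    swap
    · exact ⟨f, hf, by rw [hxf]; exact one_ne_zero, hzf⟩
    obtain ⟨g, -, hzg⟩ := D.exists_partner hz hz0
    obtain ⟨s, hs0, hs⟩ : ∃ s : F, s ≠ 0 ∧ 1 + s * D.formW x g ≠ 0 := by
      by_cases h : 1 + D.formW x g = 0
      · refine ⟨-1, by simp, fun h' => D.h2 ?_⟩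
        linear_combination h + h'
      · exact ⟨1, one_ne_zero, by rwa [one_mul]⟩
    set v := f + s • g
    set c := 1 + s * D.formW x g with hc
    have hxv : D.formW x v = c := by simp [v, hxf, hc]
    refine ⟨v - (D.formW v v / (2 * c)) • x, ?_, by simp [hxv, hx, hs], by simp [v, D.formW_symm z x, hxz, hzf, hzg, hs0]⟩
    simp only [map_sub, map_smul, LinearMap.sub_apply, LinearMap.smul_apply, smul_eq_mul, hx,
      D.formW_symm v x, hxv]
    field_simp [D.h2]
    ring
  obtain ⟨g, hg, hgx⟩ := opp x w hx hw h1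
  obtain ⟨g', hg', hgw⟩ := opp w z hw hz (by rwa [D.formW_symm])
  exact ⟨g' * g, mul_mem hg' hg, by rw [Orth.mul_act, hgx, hgw]⟩

end Dia

end Cfsg.Lib.Linear.OTWreath
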