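import Cfsg.Agent.Lib.Linear.OTWreath.Single

/-!
# An element of the group carrying a Siegel element into the stabiliser lies in the stabiliser
-/

set_option autoImplicit false
set_option linter.unusedSectionVars false
set_option linter.unusedSimpArgs false
set_option linter.unusedVariables false
set_option linter.style.haveILetI false

namespace Cfsg.Lib.Linear.OTWreath

open Cfsg.Geo Cfsg.Lib.Linear.AschGen Cfsg.Lib.Linear.TWreath
open Cfsg.Lib.Linear.OWreath (tens fa_tens psi_tens)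
open Cfsg.Lib.Linear.OOTensor (qf)
open scoped Matrix MatrixGroups

variable {F : Type*} [Field F] {k m t : ℕ}

namespace Dia

variable {D : Dia k F}

/-- The Siegel elements at the two ends of a frame do not commute. -/
theorem Frame.not_comm {x f : Fin k → F} {e : Fin m → Fin k → F} (H : D.Frame x f e) {a b : Fin k → F}
    (hxa : D.formW x a = 0) (hfa : D.formW f a = 0) (hxb : D.formW x b = 0) (hfb : D.formW f b = 0)
    (ha : D.qW a ≠ 0) (hb : D.qW b ≠ 0) : ¬ Commute (D.uW x a) (D.uW f b) := by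
  intro h
  have h1 := congrArg (fun g : GL (Fin k) F => g.val *ᵥ x) h.eq
  have hax : D.formW a x = 0 := by rw [D.formW_symm]; exact hxa
  have hbx : D.formW b x = 0 := by rw [D.formW_symm]; exact hxb
  have haf : D.formW a f = 0 := by rw [D.formW_symm]; exact hfa
  simp only [Orth.mul_act, D.uW_mulVec H.xx hxa, D.uW_mulVec H.ff hfb, H.fx, H.xx, hax, hbx, Matrix.mulVec_add,
    Matrix.mulVec_sub, Matrix.mulVec_smul, one_smul, zero_smul, add_zero, zero_add, mul_zero, mul_one, sub_zero,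
    haf, H.xf, hxb] at h1
  have h2 := congrArg (D.formW a) h1
  simp only [map_add, map_sub, map_smul, hax, haf, H.xx, hxb, H.xf, smul_zero, smul_eq_mul, mul_zero,
    mul_one, sub_zero, add_zero, zero_add, zero_sub] at h2
  have haa : D.formW a a ≠ 0 := fun h => ha (D.qW_zero.2 h)
  have h3 : D.qW b * D.formW a a = 0 := by linear_combination -h2
  exact mul_ne_zero hb haa h3

/-- An element carrying the part of the stabiliser in the derived group into the stabiliser. -/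
theorem mst_of_normal [Fintype F] {s : ℕ} (hD : D.Good) {p : GL (Idx k (s + 1)) F}
    (hp : ∀ P ∈ mst k (s + 1) F ⊓ D.omV (s + 1), p * P * p⁻¹ ∈ mst k (s + 1) F ⊓ D.omV (s + 1)) :
    p ∈ mst k (s + 1) F := by
  classical
  have hk := hD.hk
  have hk0 : 0 < k := by omega
  obtain ⟨x, hx, hx0⟩ := D.exists_sing hk
  obtain ⟨m, f, e, H, -⟩ := D.exists_frame hk hx hx0
  set b₀ : Fin m := ⟨0, by have := H.two; omega⟩
  suffices hall : ∀ l, ∃ j a, Acts p l j a by
    choose σ a ha using hall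
    have hinj : Function.Injective σ := fun l l' hll => by
      have h1 := (ha l).inv
      rw [hll] at h1
      exact h1.target_unique (by omega) (ha l').inv
    exact ⟨Equiv.ofBijective σ (Finite.injective_iff_bijective.1 hinj), fun l => ⟨a l, ha l⟩⟩
  intro l
  have himg : ∀ z a, D.formW z z = 0 → z ≠ 0 → D.formW z a = 0 → D.qW a ≠ 0 →
      ∃ j b, p * fu l (D.uW z a) * p⁻¹ = fu j b := fun z a hz hz0 hza hq => by
    have hmem := hp _ ⟨fu_mem_mst l _, D.uW_mem_omV hk l hz hza⟩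
    obtain ⟨j, b, h1, -⟩ := single hD hz hz0 hza hq rfl hmem.1 (D.omV_le _ hmem.2)
    exact ⟨j, b, h1⟩
  have hsame : ∀ a a', D.formW x a = 0 → D.formW f a = 0 → D.qW a ≠ 0 → D.formW x a' = 0 →
      D.formW f a' = 0 → D.qW a' ≠ 0 → ∀ j b j' b', p * fu l (D.uW x a) * p⁻¹ = fu j b →
      p * fu l (D.uW f a') * p⁻¹ = fu j' b' → j = j' := by
    intro a a' h1 h2 h3 h4 h5 h6 j b j' b' e1 e2
    by_contra hne
    refine H.not_comm h1 h2 h4 h5 h3 h6 (Units.ext ?_)
    have hc : Commute (fu j b) (fu j' b') := Units.ext (fa_comm hne _ _).eq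
    rw [← e1, ← e2] at hc
    have h7 : fu l (D.uW x a * D.uW f a') = fu l (D.uW f a' * D.uW x a) := by
      have h8 := hc.eq
      rw [map_mul, map_mul]
      refine mul_left_cancel (a := p) (mul_right_cancel (b := p⁻¹) ?_)
      calc p * (fu l (D.uW x a) * fu l (D.uW f a')) * p⁻¹
          = p * fu l (D.uW x a) * p⁻¹ * (p * fu l (D.uW f a') * p⁻¹) := by group
        _ = p * fu l (D.uW f a') * p⁻¹ * (p * fu l (D.uW x a) * p⁻¹) := h8
        _ = _ := by group
    exact fa_injective hk0 l (congrArg Units.val h7)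
  obtain ⟨j, bf, hj⟩ := himg f (e b₀) H.ff H.f0 (H.fe b₀) (H.qe b₀)
  obtain ⟨jx, bx, hjx⟩ := himg x (e b₀) H.xx H.x0 (H.xe b₀) (H.qe b₀)
  have hxj : ∀ a, D.formW x a = 0 → D.formW f a = 0 → D.qW a ≠ 0 →
      ∃ b, p * fu l (D.uW x a) * p⁻¹ = fu j b := fun a h1 h2 h3 => by
    obtain ⟨j', b, hb⟩ := himg x a H.xx H.x0 h1 h3
    obtain rfl := hsame a _ h1 h2 h3 (H.xe b₀) (H.fe b₀) (H.qe b₀) _ _ _ _ hb hj
    exact ⟨b, hb⟩
  have hfj : ∀ a, D.formW x a = 0 → D.formW f a = 0 → D.qW a ≠ 0 →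
      ∃ b, p * fu l (D.uW f a) * p⁻¹ = fu j b := fun a h1 h2 h3 => by
    obtain ⟨j', b, hb⟩ := himg f a H.ff H.f0 h2 h3
    obtain ⟨bb, hbb⟩ := hxj _ (H.xe b₀) (H.fe b₀) (H.qe b₀)
    obtain rfl := hsame _ a (H.xe b₀) (H.fe b₀) (H.qe b₀) h1 h2 h3 _ _ _ _ hbb hb
    exact ⟨b, hb⟩
  have htop := H.gen_top (P := (fa (F := F) (m := k) (t := s + 1) j).range.comap
      ((conjA p).toAlgHom.comp (fa l))) fun z b hz => by
    have hneg : D.qW (-e b) ≠ 0 := by rw [show D.qW (-e b) = D.qW (e b) from D.spaceW.neg _]; exact H.qe b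
    have hval : ∀ a, (∃ c, p * fu l (D.uW z a) * p⁻¹ = fu j c) →
        (D.uW z a).val ∈ (fa (F := F) (m := k) (t := s + 1) j).range.comap
          ((conjA p).toAlgHom.comp (fa l)) := fun a ⟨c, hc⟩ => ⟨c.val, (congrArg Units.val hc).symm⟩
    rcases hz with rfl | rfl
    · exact ⟨hval _ (hxj _ (H.xe b) (H.fe b) (H.qe b)),
        hval _ (hxj _ (by simp [H.xe]) (by simp [H.fe]) hneg)⟩
    · exact ⟨hval _ (hfj _ (H.xe b) (H.fe b) (H.qe b)),
        hval _ (hfj _ (by simp [H.xe]) (by simp [H.fe]) hneg)⟩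
  refine ⟨j, exists_acts hk0 fun X => ?_⟩
  obtain ⟨Y, hY⟩ : X ∈ (fa (F := F) (m := k) (t := s + 1) j).range.comap
      ((conjA p).toAlgHom.comp (fa l)) := htop ▸ Algebra.mem_top
  exact ⟨Y, hY.symm⟩

/-- An isometry preserving a line and carrying the group into one without long elements. -/
theorem Hyp.line [Fintype F] {s : ℕ} {G G' : Subgroup (GL (Idx k (s + 2)) F)} (hG : D.Hyp G)
    (hG' : D.Hyp G') (hD : D.Good) (hlose : ∀ i, D.Lose G' i)
    (IH : ∀ K : Subgroup (GL (Idx k (s + 1)) F), D.Hyp K → K ≤ mst k (s + 1) F ∨ D.omV (s + 1) ≤ K)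
    {i : Fin (s + 2)} {x : Fin k → F} (hx : D.formW x x = 0) (hx0 : x ≠ 0) {n : GL (Idx k (s + 2)) F}
    (hn : n ∈ D.isoV (s + 2)) (hconj : ∀ g ∈ G, n * g * n⁻¹ ∈ G')
    (hnx : ∀ u, ∃ u', n.val *ᵥ tens i u x = tens i u' x) : n ∈ mst k (s + 2) F := by
  obtain ⟨p, q, -, hp, rfl⟩ := hG.line_shape hG' hD hlose IH hx hx0 hn hconj hnx
  exact (mst _ _ F).mul_mem (psiU_mem_mst i (mst_of_normal hD hp)) (fu_mem_mst i q)

/-- The image of `fa i (sW x)` consists of the vectors `u ⊗ x`. -/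
theorem fa_sW_mulVec (i : Fin (t + 1)) (x : Fin k → F) (v : Idx k (t + 1) → F) :
    fa i (D.sW x) *ᵥ v = tens i ((D.ten i).ctr x v) x := by
  refine LinearMap.congr_fun ((D.ten i).hom_ext (f := Matrix.mulVecLin (fa i (D.sW x)))
    (g := (tens i).flip x ∘ₗ (D.ten i).ctr x) fun a w => ?_) v
  simp only [Matrix.mulVecLin_apply, LinearMap.comp_apply, LinearMap.flip_apply, fa_tens, sW_mulVec,
    (D.ten i).ctr_tau, map_smul, LinearMap.smul_apply, D.formW_symm w x]

/-- An element carrying a Siegel element of one factor into the stabiliser. -/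
theorem Hyp.free [Fintype F] {s : ℕ} {G : Subgroup (GL (Idx k (s + 2)) F)} (hG : D.Hyp G) (hD : D.Good)
    (hlose : ∀ i, D.Lose G i)
    (IH : ∀ K : Subgroup (GL (Idx k (s + 1)) F), D.Hyp K → K ≤ mst k (s + 1) F ∨ D.omV (s + 1) ≤ K)
    {i : Fin (s + 2)} {x a : Fin k → F} (hx : D.formW x x = 0) (hx0 : x ≠ 0) (hxa : D.formW x a = 0)
    (hq : D.qW a ≠ 0) {g : GL (Idx k (s + 2)) F} (hg : g ∈ G)
    (h : g⁻¹ * fu i (D.uW x a) * g ∈ mst k (s + 2) F) : g ∈ mst k (s + 2) F := by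
  have hk := hD.hk
  set y := g⁻¹ * fu i (D.uW x a) * g with hy
  have hyG : y ∈ G := mul_mem (mul_mem (inv_mem hg) (hG.siegel hD i hx hxa)) hg
  obtain ⟨j, b, hjb, hb, z, hz0, hzz, hspan⟩ :=
    single hD hx hx0 hxa hq (g := g⁻¹) (by rw [inv_inv]) h (hG.le hyG)
  obtain ⟨f', -, hzf⟩ := D.exists_partner hzz hz0
  obtain ⟨v₀, hv₀⟩ : z ∈ LinearMap.range (Matrix.mulVecLin ((b.val - 1) * (b.val - 1))) :=
    hspan ▸ Submodule.mem_span_singleton_self z
  rw [Matrix.mulVecLin_apply] at hv₀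
  set N := (D.uW x a).val - 1
  have hNN : N * N = (-D.formW a a) • D.sW x := by
    have e : N = D.nW x a - qf D.formW a • D.sW x := by
      simp only [N, D.uW_val (D.qW_zero.2 hx) hxa]; abel
    simp only [e, sub_mul, mul_sub, smul_mul_assoc, mul_smul_comm, D.nW_mul hx hxa hxa, D.sW_mul_nW hx hxa,
      D.nW_mul_sW hx hxa, D.sW_sq hx, smul_zero, sub_zero]
  have hgz : ∀ u, ∃ u', g.val *ᵥ tens j u z = tens i u' x := by
    intro u
    refine ⟨(-D.formW a a) • (D.ten i).ctr x (g.val *ᵥ tens j u v₀), ?_⟩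
    have h1 : g.val * fa j ((b.val - 1) * (b.val - 1)) = fa i (N * N) * g.val := by
      have e1 : fa j (b.val - 1) = (g⁻¹).val * fa i N * g.val := by
        have : fa j b.val = (g⁻¹).val * fa i (D.uW x a).val * g.val := by
          rw [← fu_val, ← hjb]; rfl
        rw [map_sub, map_one, this, map_sub, map_one, mul_sub, sub_mul, mul_one, Units.inv_mul]
      rw [map_mul, map_mul, e1]
      simp only [← mul_assoc, Units.mul_inv, one_mul]
      simp only [mul_assoc]
      rw [← mul_assoc g.val (g⁻¹).val, Units.mul_inv, one_mul]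
    have h2 := congrArg (· *ᵥ tens j u v₀) h1
    simp only [← Matrix.mulVec_mulVec, fa_tens] at h2
    rw [← hv₀, ← Matrix.mulVec_mulVec, h2, hNN, map_smul, Matrix.smul_mulVec, fa_sW_mulVec, map_smul,
      LinearMap.smul_apply]
  obtain ⟨r, hr, hrx⟩ := D.root_trans hk x z (D.qW_zero.2 hx) hx0 (D.qW_zero.2 hzz) hz0
  set π : GL (Idx k (s + 2)) F := permGL (Equiv.swap i j)
  set h₀ := π * fu i r
  have hm : h₀ ∈ mst k (s + 2) F := (mst _ _ F).mul_mem (permGL_mem_mst _) (fu_mem_mst i r)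
  have hh : h₀ ∈ D.isoV (s + 2) := mul_mem (D.permGL_mem_isoV _)
    (D.fu_mem_isoV (D.iso_of_mem (Orth.root_le_iso D.spaceW ⊤ hr)) i)
  have hG'' := hG.conj (h := h₀⁻¹) ((mst _ _ F).inv_mem hm) (inv_mem hh)
  suffices hn : g * h₀ ∈ mst k (s + 2) F by
    have := (mst _ _ F).mul_mem hn ((mst _ _ F).inv_mem hm)
    rwa [mul_inv_cancel_right] at this
  refine hG''.line (i := i) hG hD hlose IH hx hx0 (mul_mem (hG.le hg) hh) ?_ fun u => ?_
  · rintro _ ⟨e, he, rfl⟩
    have := mul_mem (mul_mem hg he) (inv_mem hg)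
    convert this using 1
    simp [mul_assoc]
  · obtain ⟨u', hu'⟩ : ∃ u', π.val *ᵥ tens i u z = tens j u' z := by
      refine ⟨(D.ten j).ctr z (π.val *ᵥ tens i u f'), ?_⟩
      have h1 := (acts_permGL (m := k) (F := F) (Equiv.swap i j) i) (D.sW z)
      rw [conjA_one, Equiv.swap_apply_left] at h1
      rw [← fa_sW_mulVec, ← h1, conjA_apply, ← Matrix.mulVec_mulVec, Orth.inv_act, ← Matrix.mulVec_mulVec,
        fa_tens, sW_mulVec, hzf, one_smul]
    obtain ⟨u'', hu''⟩ := hgz u'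
    exact ⟨u'', by rw [Orth.mul_act, Orth.mul_act, fu_val, fa_tens, hrx, hu', hu'']⟩

end Dia

end Cfsg.Lib.Linear.OTWreath
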