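import Cfsg.Agent.Lib.Linear.OOTensor.Parab

/-!
# An isometry preserving a line of one factor and carrying root elements into the radical

Such an isometry is a factorwise similitude times a long element.
-/

set_option autoImplicit false
set_option linter.unusedSectionVars false
set_option linter.unusedSimpArgs false

namespace Cfsg.Lib.Linear.OTWreath

open Module Cfsg.Lib.Linear.Orth
open Cfsg.Lib.Linear.OOTensor
open scoped Matrix MatrixGroups

variable {ι κ μ : Type} [Fintype ι] [DecidableEq ι] [Fintype κ] [DecidableEq κ] [Fintype μ]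
  [DecidableEq μ] {F : Type*} [Field F] {Q : (ι → F) → F} {B : LinearMap.BilinForm F (ι → F)}
  {α : LinearMap.BilinForm F (κ → F)} {β : LinearMap.BilinForm F (μ → F)}
  {τ : (κ → F) →ₗ[F] (μ → F) →ₗ[F] (ι → F)} {L : Subgroup (GL ι F)} (T : Ten Q B α β τ)
  {x f : μ → F}

variable (H : Hyp (qf β) β ⊤ x f)
include H

/-- The shape of an isometry preserving `U ⊗ x`; `h` is the sign change on the hyperbolic plane. -/
theorem stab_form [Finite F] (hκ : 0 < Fintype.card κ) (hk : 3 ≤ Fintype.card μ)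
    (huni : ∀ {g : GL ι F}, g ∈ L → Unip T x g →
      ∃ a ∈ perp2 β ⊤ x f, g = T.liftR (sGL (qf β) β x a)) {n : GL ι F}
    (hnI : n ∈ isometryGroup F Q) (hnx : ∀ u, ∃ u', n.val *ᵥ τ u x = τ u' x)
    (hR : ∀ a ∈ perp2 β ⊤ x f, n * T.liftR (sGL (qf β) β x a) * n⁻¹ ∈ L)
    {h : GL μ F} (hh : h ∈ isometryGroup F (qf β)) (hxh : h.val *ᵥ x = -x) (hfh : h.val *ᵥ f = -f)
    (hrh : ∀ r ∈ perp2 β ⊤ x f, h.val *ᵥ r = r) (hhL : T.liftR h ∈ L)
    (hnh : n * T.liftR h * n⁻¹ ∈ L) :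
    ∃ (p : GL κ F) (q : GL μ F) (ν : F) (φ : Module.End F (κ → F)) (l : GL ι F), ν ≠ 0 ∧
      q.val *ᵥ x = x ∧ (∀ w w', β (q.val *ᵥ w) (q.val *ᵥ w') = ν * β w w') ∧
      (∀ a b, α (p.val *ᵥ a) (p.val *ᵥ b) = ν⁻¹ * α a b) ∧
      (∀ a b, α (φ a) b = -α a (φ b)) ∧ (∀ v, l.val *ᵥ v = v + T.long x φ v) ∧
      n = T.mkGL p q * l := by
  have hWn := H.ndeg T.SW T.SW.ndeg_top
  obtain ⟨ψ, hψb, hψ⟩ := exists_line_map T H hnx
  have hctr : ∀ {v}, T.ctr x v = 0 → T.ctr x (n.val *ᵥ v) = 0 := fun {v} hv => T.α_ext fun c => by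
    obtain ⟨c', rfl⟩ := hψb.2 c
    rw [T.α_ctr, ← hψ, T.space.B_act hnI, ← T.α_ctr, hv]
    simp
  have hctr0 : ∀ {u w}, β x w = 0 → T.ctr x (τ u w) = 0 := fun {u w} h => by
    rw [T.ctr_tau, T.sβ, h, zero_smul]
  obtain ⟨u₀, hu₀⟩ := T.exists_aniso_left hκ
  have hu₀0 : u₀ ≠ 0 := fun e => hu₀ (by simp [e])
  have hψu₀ : ψ u₀ ≠ 0 := fun e => hu₀0 (hψb.1 (by rw [e, map_zero]))
  -- the induced map on the middle
  have hR' : ∀ a ∈ perp2 β ⊤ x f, ∃ a' ∈ perp2 β ⊤ x f,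
      n * T.liftR (sGL (qf β) β x a) * n⁻¹ = T.liftR (sGL (qf β) β x a') := fun a ha =>
    huni (hR a ha) (Unip.conj T H hnI hnx (unip_siegel T H (mem_perp2.1 ha).2.1))
  choose R hRm hRe using hR'
  have hRkey : ∀ (a) (ha : a ∈ perp2 β ⊤ x f) (u : κ → F), ∀ w ∈ perp2 β ⊤ x f,
      T.ctr (R a ha) (n.val *ᵥ τ u w) = β a w • ψ u := by
    intro a ha u w hw
    obtain ⟨-, ha1, -⟩ := mem_perp2.1 ha
    obtain ⟨-, hw1, -⟩ := mem_perp2.1 hw
    have h1 := congrArg (fun g : GL ι F => g.val *ᵥ (n.val *ᵥ τ u w)) (hRe a ha)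
    simp only [mul_act, inv_act] at h1
    rw [T.liftR_sGL_act H ha1, T.liftR_sGL_act H (mem_perp2.1 (hRm a ha)).2.1, hctr0 hw1,
      hctr (hctr0 hw1), T.ctr_tau, T.sβ w a] at h1
    simp [Matrix.mulVec_sub, Matrix.mulVec_smul, hψ] at h1
    refine T.tau_inj (hyp_ne_zero T H) ?_
    rw [map_smul, LinearMap.smul_apply]
    exact h1.symm
  have huniq : ∀ b ∈ perp2 β ⊤ x f, (∀ u, ∀ w ∈ perp2 β ⊤ x f, T.ctr b (n.val *ᵥ τ u w) = 0) →
      b = 0 := by
    intro b hb hz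
    obtain ⟨-, hb1, hb2⟩ := mem_perp2.1 hb
    have hkill : ∀ u w, β x w = 0 → (T.ctr b ∘ₗ Matrix.mulVecLin n.val) (τ u w) = 0 := by
      intro u w hw
      obtain ⟨r, hr, ew⟩ := exists_split T.SW H w
      rw [ew, hw]
      simp [Matrix.mulVec_add, Matrix.mulVec_smul, hψ, T.ctr_tau, hb1, hz u r hr]
    refine hWn b hb fun y hy => ?_
    have h1 := kill_perp T H hkill ((n⁻¹ : GL ι F).val *ᵥ τ u₀ y)
    rw [T.ctr_inv H hnI hψ (hctr0 (mem_perp2.1 hy).2.1)] at h1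
    simp [act_inv, T.ctr_tau, hu₀0] at h1
    rw [T.sβ]; exact h1
  let Rl : perp2 β ⊤ x f →ₗ[F] perp2 β ⊤ x f :=
    { toFun := fun a => ⟨R a.1 a.2, hRm a.1 a.2⟩
      map_add' := fun a b => Subtype.ext <| sub_eq_zero.1 <| huniq _
        (sub_mem (hRm _ _) (add_mem (hRm _ _) (hRm _ _))) fun u w hw => by
          show T.ctr (R _ _ - (R a.1 a.2 + R b.1 b.2)) (n.val *ᵥ τ u w) = 0
          rw [map_sub, LinearMap.sub_apply, map_add, LinearMap.add_apply,
            hRkey _ _ u w hw, hRkey _ _ u w hw, hRkey _ _ u w hw, Submodule.coe_add, map_add,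
            LinearMap.add_apply, add_smul, sub_self]
      map_smul' := fun c a => Subtype.ext <| sub_eq_zero.1 <| huniq _
        (sub_mem (hRm _ _) (Submodule.smul_mem _ _ (hRm _ _))) fun u w hw => by
          show T.ctr (R _ _ - c • R a.1 a.2) (n.val *ᵥ τ u w) = 0
          rw [map_sub, LinearMap.sub_apply, map_smul,
            LinearMap.smul_apply, hRkey _ _ u w hw, hRkey _ _ u w hw, SetLike.val_smul, map_smul,
            LinearMap.smul_apply, smul_eq_mul, smul_smul, sub_self] }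
  have hRinj : Function.Injective Rl := (injective_iff_map_eq_zero Rl).2 fun a ha =>
    Subtype.ext <| hWn a.1 a.2 fun w hw => by
      have h1 := hRkey a.1 a.2 u₀ w hw
      rw [show R a.1 a.2 = 0 from congrArg Subtype.val ha, map_zero, LinearMap.zero_apply] at h1
      exact (smul_eq_zero.1 h1.symm).resolve_right hψu₀
  let Re := LinearEquiv.ofInjectiveEndo Rl hRinj
  let P₀ : Module.End F (μ → F) :=
    LinearMap.id - (β f).smulRight x - (β x).smulRight f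
  have hP : ∀ w, P₀ w ∈ perp2 β ⊤ x f := fun w => H.proj T.SW trivial
  have hPid : ∀ w ∈ perp2 β ⊤ x f, P₀ w = w := fun w hw => by
    simp [P₀, (mem_perp2.1 hw).2.1, (mem_perp2.1 hw).2.2]
  let S : Module.End F (μ → F) :=
    (perp2 β ⊤ x f).subtype ∘ₗ Re.symm.toLinearMap ∘ₗ P₀.codRestrict _ hP
  let Rs : Module.End F (μ → F) :=
    P₀ ∘ₗ (β.toDual T.swap.nα').symm.toLinearMap ∘ₗ S.dualMap ∘ₗ (β : (μ → F) →ₗ[F] Module.Dual F _)
  have hRsW : ∀ w, Rs w ∈ perp2 β ⊤ x f := fun w => hP _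
  have hRs : ∀ w, ∀ b ∈ perp2 β ⊤ x f, β (Rs w) b = β w (S b) := fun w b hb => by
    obtain ⟨-, hb1, hb2⟩ := mem_perp2.1 hb
    show β (P₀ ((β.toDual T.swap.nα').symm (S.dualMap (β w)))) b = _
    simp only [P₀, LinearMap.sub_apply, LinearMap.id_apply, LinearMap.smulRight_apply, map_sub,
      map_smul, LinearMap.smul_apply, hb1, hb2, smul_zero, sub_zero,
      LinearMap.BilinForm.apply_toDual_symm_apply]
    rfl
  have hSR : ∀ a (ha : a ∈ perp2 β ⊤ x f), S (R a ha) = a := fun a ha => by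
    show ((Re.symm (P₀.codRestrict _ hP (R a ha))) : μ → F) = a
    rw [show P₀.codRestrict _ hP (R a ha) = Re ⟨a, ha⟩ from Subtype.ext (hPid _ (hRm a ha)),
      LinearEquiv.symm_apply_apply]
  have hsurj : ∀ b ∈ perp2 β ⊤ x f, ∃ a, ∃ ha : a ∈ perp2 β ⊤ x f, R a ha = b := fun b hb => by
    obtain ⟨⟨a, ha⟩, e⟩ := Re.surjective ⟨b, hb⟩
    exact ⟨a, ha, congrArg Subtype.val e⟩
  have hact : ∀ u, ∀ w ∈ perp2 β ⊤ x f,
      n.val *ᵥ τ u w = τ (ψ u) (Rs w) + τ (T.ctr f (n.val *ᵥ τ u w)) x := by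
    intro u w hw
    obtain ⟨-, r1, r2⟩ := mem_perp2.1 (hRsW w)
    refine T.ext3 H ?_ ?_ fun b hb => ?_
    · simp [hctr (hctr0 (mem_perp2.1 hw).2.1), T.ctr_tau, T.sβ _ x, r1, T.qf_zero.1 H.singE]
    · simp [T.ctr_tau, T.sβ _ f, r2, H.pair' T.SW]
    · obtain ⟨a, ha, rfl⟩ := hsurj b hb
      rw [hRkey a ha u w hw, map_add, T.ctr_tau, T.ctr_tau, (mem_perp2.1 hb).2.1, hRs w _ hb,
        hSR a ha, T.sβ w a, zero_smul, add_zero]
  have hform : ∀ u u', ∀ w ∈ perp2 β ⊤ x f, ∀ w' ∈ perp2 β ⊤ x f,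
      α (ψ u) (ψ u') * β (Rs w) (Rs w') = α u u' * β w w' := by
    intro u u' w hw w' hw'
    rw [← T.pair u w u' w', ← T.space.B_act hnI, hact u w hw, hact u' w' hw']
    simp [T.pair, (mem_perp2.1 (hRsW w)).2.1, (mem_perp2.1 (hRsW w')).2.1, T.sβ (Rs w) x,
      T.qf_zero.1 H.singE]
  obtain ⟨w₀, hw₀, hQw₀⟩ := exists_nonsing T.SW hWn (perp_ne_bot T.SW H hk)
  have hw₀' : β w₀ w₀ ≠ 0 := fun e => hQw₀ (T.qf_zero.2 e)
  set ν := β (Rs w₀) (Rs w₀) / β w₀ w₀ with hν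
  have hψν : ∀ u u', α (ψ u) (ψ u') * ν = α u u' := fun u u' => by
    rw [hν, ← mul_div_assoc, hform u u' w₀ hw₀ w₀ hw₀, mul_div_cancel_right₀ _ hw₀']
  have hν0 : ν ≠ 0 := fun e => hu₀ (by rw [← hψν, e, mul_zero])
  have hβR : ∀ w ∈ perp2 β ⊤ x f, ∀ w' ∈ perp2 β ⊤ x f, β (Rs w) (Rs w') = ν * β w w' := by
    intro w hw w' hw'
    have h1 := hform u₀ u₀ w hw w' hw'
    rw [← hψν u₀ u₀] at h1
    have h3 : α (ψ u₀) (ψ u₀) ≠ 0 := fun e => hu₀ (by rw [← hψν, e, zero_mul])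
    exact mul_left_cancel₀ h3 (by linear_combination h1)
  -- the similitude of the second factor
  let q : Module.End F (μ → F) := (β f).smulRight x + (ν • β x).smulRight f + Rs ∘ₗ P₀
  have hq : ∀ w, q w = β f w • x + (ν * β x w) • f + Rs (P₀ w) := fun w => by simp [q]
  have hqβ : ∀ w w', β (q w) (q w') = ν * β w w' := by
    intro w w'
    have e : ∀ z, z = β f z • x + β x z • f + P₀ z := fun z => by simp [P₀]
    obtain ⟨-, a1, a2⟩ := mem_perp2.1 (hRsW (P₀ w))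
    obtain ⟨-, b1, b2⟩ := mem_perp2.1 (hRsW (P₀ w'))
    obtain ⟨-, c1, c2⟩ := mem_perp2.1 (hP w)
    obtain ⟨-, d1, d2⟩ := mem_perp2.1 (hP w')
    rw [hq, hq]
    conv_rhs => rw [e w, e w']
    simp only [map_add, map_smul, LinearMap.add_apply, LinearMap.smul_apply, smul_eq_mul,
      T.qf_zero.1 H.singE, T.qf_zero.1 H.singF, H.pair, H.pair' T.SW, T.sβ (Rs (P₀ w)) x,
      T.sβ (Rs (P₀ w)) f, T.sβ (P₀ w) x, T.sβ (P₀ w) f, a1, a2, b1, b2, c1, c2, d1, d2,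
      hβR _ (hP w) _ (hP w')]
    ring
  have hqinj : Function.Injective q := (injective_iff_map_eq_zero q).2 fun w hw =>
    T.nβ w fun w' => by
      have h1 := hqβ w w'
      rw [hw, map_zero, LinearMap.zero_apply] at h1
      exact (mul_eq_zero.1 h1.symm).resolve_left hν0
  obtain ⟨qG, hqG⟩ := exists_gl hqinj
  obtain ⟨pG, hpG⟩ := exists_gl hψb.1
  set π := T.mkGL pG qG with hπdef
  have hπact : ∀ u w, π.val *ᵥ τ u w = τ (pG.val *ᵥ u) (qG.val *ᵥ w) := T.mkGL_act pG qG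
  have hπI : π ∈ isometryGroup F Q := T.mem_iso_of (inv_ne_zero hν0) hπact
    (fun a b => by
      rw [hpG, hpG, ← hψν a b]
      field_simp)
    fun v w => by rw [hqG, hqG, hqβ, inv_inv]
  have hqx : qG.val *ᵥ x = x := by
    rw [hqG, hq, T.qf_zero.1 H.singE, H.pair' T.SW]
    simp [P₀, T.qf_zero.1 H.singE, H.pair' T.SW]
  have hπx : ∀ u, π.val *ᵥ τ u x = τ (ψ u) x := fun u => by rw [hπact, hqx, hpG]
  have hqW : ∀ w ∈ perp2 β ⊤ x f, qG.val *ᵥ w = Rs w := fun w hw => by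
    rw [hqG, hq, hPid w hw, (mem_perp2.1 hw).2.1, (mem_perp2.1 hw).2.2]
    simp
  set n' := π⁻¹ * n with hn'def
  have hn'I : n' ∈ isometryGroup F Q := mul_mem (inv_mem hπI) hnI
  have hn'x : ∀ u, n'.val *ᵥ τ u x = τ u x := fun u => by
    rw [hn'def, mul_act, hψ, ← hπx, inv_act]
  have hn' : Unip T x n' := by
    refine ⟨hn'x, fun v hv => ⟨T.ctr f (n'.val *ᵥ v - v), ?_⟩⟩
    let Φ : (ι → F) →ₗ[F] (ι → F) := Matrix.mulVecLin n'.val - LinearMap.id -
      τ.flip x ∘ₗ T.ctr f ∘ₗ (Matrix.mulVecLin n'.val - LinearMap.id)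
    have hΦ : ∀ u w, β x w = 0 → Φ (τ u w) = 0 := by
      intro u w hw
      obtain ⟨r, hr, ew⟩ := exists_split T.SW H w
      obtain ⟨c, hc⟩ := hψb.2 (T.ctr f (n.val *ᵥ τ u r))
      have hr' : n'.val *ᵥ τ u r = τ u r + τ c x := by
        rw [hn'def, mul_act, hact u r hr, ← hqW r hr, ← hc, ← hπx, ← hpG, ← hπact,
          ← Matrix.mulVec_add, inv_act]
      rw [ew, hw]
      simp only [Φ, LinearMap.sub_apply, LinearMap.comp_apply, Matrix.mulVecLin_apply, map_add,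
        map_smul, map_zero, zero_smul, LinearMap.zero_apply, LinearMap.id_apply, Matrix.mulVec_add,
        Matrix.mulVec_smul, hn'x, hr', map_sub, LinearMap.flip_apply, T.ctr_tau, H.pair, smul_zero,
        LinearMap.add_apply, LinearMap.smul_apply, one_smul, Matrix.mulVec_zero, add_zero]
      module
    have h1 := kill_perp T H hΦ v
    rw [hv, map_zero, LinearMap.zero_apply, map_zero] at h1
    simp only [Φ, LinearMap.sub_apply, LinearMap.comp_apply, Matrix.mulVecLin_apply,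
      LinearMap.id_apply, LinearMap.flip_apply] at h1
    rw [← sub_eq_zero, ← h1]
    abel
  have hqq : ∀ w, qf β (qG.val *ᵥ w) = ν * qf β w := fun w => by
    simp only [qf, hqG, hqβ]; ring
  -- commutator with the sign change
  have hqh : qG * h = h * qG := Orth.gl_ext fun w => by
    rw [mul_act, mul_act]
    obtain ⟨r, hr, ew⟩ := exists_split T.SW H w
    have hqf : qG.val *ᵥ f = ν • f := by
      rw [hqG, hq, T.qf_zero.1 H.singF, H.pair]
      simp [P₀, T.qf_zero.1 H.singF, H.pair]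
    rw [ew]
    simp only [Matrix.mulVec_add, Matrix.mulVec_smul, hqx, hqf, hxh, hfh, hrh r hr, Matrix.mulVec_neg,
      hqW r hr, hrh _ (hRsW r), smul_neg]
  have hscal : ∀ w ∈ perp2 β ⊤ x f,
      T.cof f n' w ∈ Submodule.span F {(1 : Module.End F (κ → F))} := by
    intro w hw
    have hw1 := (mem_perp2.1 hw).2.1
    set m := T.liftR h with hm
    have hπm : π * m * π⁻¹ = m := by
      rw [mul_inv_eq_iff_eq_mul]
      exact T.gl_ext fun a z => by
        rw [mul_act, mul_act, hm, T.liftR_act, hπact, hπact, T.liftR_act, ← mul_act qG, hqh, mul_act]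
    have hjL : π * (n' * (m * n'⁻¹ * m⁻¹)) * π⁻¹ ∈ L := by
      have e : π * (n' * (m * n'⁻¹ * m⁻¹)) * π⁻¹ = n * m * n⁻¹ * (π * m * π⁻¹)⁻¹ := by
        rw [hn'def]; group
      rw [e, hπm]
      exact mul_mem hnh (inv_mem hhL)
    have hQ : Unip T x (m * n'⁻¹ * m⁻¹) := Unip.conj T H (T.liftR_mem hh)
      (fun u => ⟨-u, by rw [hm, T.liftR_act, hxh, map_neg, map_neg, LinearMap.neg_apply]⟩)
      (hn'.inv T)
    obtain ⟨b, hb', hbe⟩ := huni hjL
      (Unip.conj T H hπI (fun u => ⟨_, hπx u⟩) (hn'.mul T hQ))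
    have e2 : n' * (m * n'⁻¹ * m⁻¹) = T.liftR (qG⁻¹ * sGL (qf β) β x b * qG) := by
      rw [← mkGL_conj_right T hπact, ← hbe]; group
    have hcQ : T.cof f (m * n'⁻¹ * m⁻¹) w = T.cof f n' w :=
      Unip.cof_eq T H fun u => by
        have hm' : (m⁻¹ : GL ι F).val *ᵥ τ u w = τ u w := by
          conv_lhs => arg 2; rw [← hrh w hw, ← T.liftR_act, ← hm]
          rw [inv_act]
        rw [mul_act, mul_act, hm', (hn'.inv T).act T H hw1, Unip.cof_inv T H hn' hw1,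
          Matrix.mulVec_add, hm, T.liftR_act, T.liftR_act, hrh w hw, hxh]
        simp
    have hsum : T.cof f (T.liftR (qG⁻¹ * sGL (qf β) β x b * qG)) w = (2 : F) • T.cof f n' w := by
      rw [← e2, Unip.cof_mul T H hn' hQ hw1, hcQ]
      module
    refine (Submodule.smul_mem_iff _ T.h2).1 (hsum ▸ Submodule.mem_span_singleton.2
      ⟨β ((qG⁻¹ * sGL (qf β) β x b * qG).val *ᵥ w - w) f, LinearMap.ext fun u => by
        rw [T.cof_apply, T.liftR_act, ← map_sub, T.ctr_tau]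
        simp⟩)
  -- the remainder is a Siegel element times a long element
  obtain ⟨a₁, ha₁, hcof⟩ := exists_siegel_cof T H hκ hscal
  obtain ⟨-, ha11, -⟩ := mem_perp2.1 ha₁
  set s₁ := T.liftR (sGL (qf β) β x a₁)
  have hs₁ : Unip T x s₁ := unip_siegel T H ha11
  have hsI := sGL_mem T.SW H.singE ha11
  have hs₁I : s₁ ∈ isometryGroup F Q := T.liftR_mem hsI
  have hfix : ∀ u w, β x w = 0 → (s₁⁻¹ * n').val *ᵥ τ u w = τ u w := by
    intro u w hw
    obtain ⟨r, hr, ew⟩ := exists_split T.SW H w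
    have hr1 := (mem_perp2.1 hr).2.1
    have hh := hs₁.inv T |>.mul T hn'
    rw [ew, hw, zero_smul, add_zero, map_add, map_smul, Matrix.mulVec_add, Matrix.mulVec_smul, hh.1,
      hh.act T H hr1, Unip.cof_mul T H (hs₁.inv T) hn' hr1, Unip.cof_inv T H hs₁ hr1, hcof r hr]
    simp
  obtain ⟨φ, hφ⟩ := long_of_fix T H (mul_mem (inv_mem hs₁I) hn'I) hfix
  have hφskew := long_skew T (le_refl _) H.singE (hyp_ne_zero T H)
    (φ := φ) ⟨_, mul_mem (inv_mem hs₁I) hn'I, hφ⟩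
  refine ⟨pG, qG * sGL (qf β) β x a₁, ν, φ, s₁⁻¹ * n', hν0, ?_, fun w w' => ?_, fun a b => ?_,
    hφskew, hφ, ?_⟩
  · rw [mul_act, sGL_act T.SW H.singE ha11, T.qf_zero.1 H.singE, T.sβ a₁ x, ha11]
    simp [hqx]
  · rw [mul_act, mul_act, hqG, hqG, hqβ, T.SW.B_act hsI]
  · rw [hpG, hpG, ← hψν a b]
    field_simp
  · rw [show T.mkGL pG (qG * sGL (qf β) β x a₁) = π * s₁ from T.gl_ext fun a w => by
      rw [T.mkGL_act, mul_act π, T.liftR_act, hπact, mul_act qG], hn'def]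
    group


end Cfsg.Lib.Linear.OTWreath
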