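import Cfsg.Agent.Lib.Linear.OTWreath.Sign
import Cfsg.Agent.Lib.Linear.OTWreath.Stab

/-!
# An isometry preserving a line of one factor and carrying the group into one without long elements
-/

set_option autoImplicit false
set_option linter.unusedSectionVars false
set_option linter.unusedSimpArgs false
set_option linter.unusedVariables false
set_option linter.style.haveILetI false

namespace Cfsg.Lib.Linear.OTWreath

open Cfsg.Geo Cfsg.Lib.Linear.AschGen Cfsg.Lib.Linear.TWreath
open Cfsg.Lib.Linear.OWreath (tens fa_tens psi_tens)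
open Cfsg.Lib.Linear.OOTensor (qf Unip)
open Cfsg.Lib.Linear.Orth (sGL perp2 mem_perp2)
open scoped Matrix MatrixGroups

variable {F : Type*} [Field F] {k m t : ℕ}

namespace Dia

variable (D : Dia k F)

theorem LMat_psi (i : Fin (t + 1)) (z : Fin k → F) (δ M : Matrix (Idx k t) (Idx k t) F) :
    D.LMat i z δ * psi i M = D.LMat i z (δ * M) := by rw [LMat, LMat, map_mul, mul_assoc]

theorem psi_LMat (i : Fin (t + 1)) (z : Fin k → F) (δ M : Matrix (Idx k t) (Idx k t) F) :
    psi i M * D.LMat i z δ = D.LMat i z (M * δ) := by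
  rw [LMat, LMat, map_mul, ← mul_assoc, ← (com_psi i M _).eq, mul_assoc]

theorem LMat_add (i : Fin (t + 1)) (z : Fin k → F) (δ ε : Matrix (Idx k t) (Idx k t) F) :
    D.LMat i z (δ + ε) = D.LMat i z δ + D.LMat i z ε := by rw [LMat, LMat, LMat, map_add, mul_add]

theorem LMat_smul (i : Fin (t + 1)) (z : Fin k → F) (c : F) (δ : Matrix (Idx k t) (Idx k t) F) :
    D.LMat i z (c • δ) = c • D.LMat i z δ := by rw [LMat, LMat, map_smul, mul_smul_comm]

theorem LMat_neg (i : Fin (t + 1)) (z : Fin k → F) (δ : Matrix (Idx k t) (Idx k t) F) :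
    D.LMat i z (-δ) = -D.LMat i z δ := by rw [LMat, LMat, map_neg, mul_neg]

theorem psi_one_add (i : Fin (t + 1)) (z : Fin k → F) (δ M : Matrix (Idx k t) (Idx k t) F) :
    (1 + D.LMat i z δ) * psi i M = psi i M + D.LMat i z (δ * M) := by
  rw [add_mul, one_mul, LMat_psi]

/-- The factorwise parts of the elements `psi P * (1 + L δ)` of a group. -/
def tail (G : Subgroup (GL (Idx k (t + 1)) F)) (i : Fin (t + 1)) (x : Fin k → F) (hx : D.formW x x = 0) :
    Subgroup (GL (Idx k t) F) where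
  carrier := {P | ∃ δ, InM G (psi i P.val * (1 + D.LMat i x δ))}
  mul_mem' := by
    rintro P₁ P₂ ⟨δ₁, h₁⟩ ⟨δ₂, h₂⟩
    refine ⟨(P₂⁻¹).val * δ₁ * P₂.val + δ₂, ?_⟩
    have h := h₁.mul h₂
    convert h using 1
    rw [Units.val_mul, map_mul, mul_assoc (psi i P₁.val) (1 + D.LMat i x δ₁), ← mul_assoc (1 + D.LMat i x δ₁),
      psi_one_add, add_mul, mul_add (psi i P₂.val), mul_one, mul_add (D.LMat i x (δ₁ * P₂.val)), mul_one,
      D.LMat_mul hx, add_zero, LMat_add, mul_assoc]
    congr 1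
    rw [mul_add, mul_add, mul_one, psi_LMat, psi_LMat, ← mul_assoc, ← mul_assoc, Units.mul_inv, one_mul]
    abel
  one_mem' := ⟨0, 1, one_mem _, by simp [LMat]⟩
  inv_mem' := by
    rintro P ⟨δ, g, hg, hgv⟩
    refine ⟨-(P.val * δ * (P⁻¹).val), g⁻¹, inv_mem hg, left_inv_eq_right_inv (Units.inv_mul g) ?_⟩
    rw [hgv, mul_assoc, ← mul_assoc (1 + D.LMat i x δ), psi_one_add, add_mul, mul_add (psi i (P⁻¹).val), mul_one,
      mul_add (D.LMat i x (δ * (P⁻¹).val)), mul_one, D.LMat_mul hx, add_zero, psi_LMat, mul_add, mul_add,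
      psi_LMat, psi_LMat, ← map_mul, Units.mul_inv, map_one, add_assoc, ← LMat_add, mul_neg, ← mul_assoc,
      ← mul_assoc, Units.inv_mul, one_mul, mul_neg, ← mul_assoc, neg_add_cancel, LMat, map_zero, mul_zero,
      add_zero]

theorem mem_tail {G : Subgroup (GL (Idx k (t + 1)) F)} {i : Fin (t + 1)} {x : Fin k → F}
    {hx : D.formW x x = 0} {P : GL (Idx k t) F} :
    P ∈ D.tail G i x hx ↔ ∃ δ, InM G (psi i P.val * (1 + D.LMat i x δ)) := Iff.rfl

variable {D}

theorem rW_single_diag (l : Fin t) (p : Fin k) : fa l (D.rW (Pi.single p (1 : F))).val =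
    Matrix.diagonal (fun z : Idx k t => if z l = p then (-1 : F) else 1) := by
  classical
  have hp : D.qW (Pi.single p (1 : F)) ≠ 0 := by
    rw [Ne, qW_zero, formW_single]; simp [D.ne]
  have hr : (D.rW (Pi.single p (1 : F))).val = Matrix.diagonal (fun r => if r = p then (-1 : F) else 1) := by
    refine Orth.mat_ext fun v => ?_
    rw [Orth.rGL_act D.spaceW hp, formW_single]
    funext r
    have := D.ne p
    have hh := D.h2
    simp only [Matrix.mulVec_diagonal, Pi.sub_apply, Pi.smul_apply, smul_eq_mul, Pi.single_apply, qf,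
      formW_single, if_true]
    split_ifs with hr
    · subst hr; field_simp; ring
    · ring
  rw [hr]
  ext z z'
  rw [fa_apply, powStd_apply]
  by_cases hzz : z = z'
  · subst hzz; simp
  · rw [Matrix.diagonal_apply_ne _ hzz]
    split_ifs with hrest
    · refine Matrix.diagonal_apply_ne _ fun hll => hzz (funext fun j => ?_)
      rcases eq_or_ne j l with rfl | hj
      · exact hll
      · exact hrest j hj
    · rfl

/-- Skew matrices commuting with all sign changes vanish. -/
theorem zero_of_signs (δ : Matrix (Idx k t) (Idx k t) F) (hskew : D.adT δ = -δ)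
    (h : ∀ (l : Fin t) (p : Fin k), Commute (fa l (D.rW (Pi.single p (1 : F))).val) δ) : δ = 0 := by
  classical
  ext a b
  rcases eq_or_ne a b with rfl | hab
  · have h1 := congrFun (congrFun hskew a) a
    simp only [adT, Matrix.of_apply, Matrix.neg_apply] at h1
    have := D.dT_ne a
    field_simp at h1
    have h2 : (2 : F) * δ a a = 0 := by linear_combination h1
    simpa [D.h2] using h2
  obtain ⟨l, hl⟩ := Function.ne_iff.1 hab
  have hp : D.qW (Pi.single (a l) (1 : F)) ≠ 0 := by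
    rw [Ne, qW_zero, formW_single]; simp [D.ne]
  have h1 := congrFun (congrFun (h l (a l)).eq a) b
  rw [rW_single_diag, Matrix.diagonal_mul, Matrix.mul_diagonal, if_pos rfl, if_neg (Ne.symm hl)] at h1
  have h2 : (2 : F) * δ a b = 0 := by linear_combination -h1
  simpa [D.h2] using h2

/-- A skew matrix commuting with the part of the stabiliser in the derived group vanishes. -/
theorem zero_of_siegels [Fintype F] {s : ℕ} (hk : 4 ≤ k) (δ : Matrix (Idx k (s + 1)) (Idx k (s + 1)) F)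
    (hskew : D.adT δ = -δ)
    (h : ∀ P ∈ mst k (s + 1) F ⊓ D.omV (s + 1), Commute P.val δ) : δ = 0 := by
  obtain ⟨x, hx, hx0⟩ := D.exists_sing hk
  obtain ⟨m, f, e, H, -⟩ := D.exists_frame hk hx hx0
  have hcom : ∀ l, Com l δ := fun l X => by
    have htop := H.gen_top (P := (Subalgebra.centralizer F ({δ} : Set _)).comap (fa l)) fun z b hz => by
      have hzz : D.formW z z = 0 := by rcases hz with rfl | rfl <;> [exact H.xx; exact H.ff]
      have hze : D.formW z (e b) = 0 := by rcases hz with rfl | rfl <;> [exact H.xe b; exact H.fe b]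
      have key : ∀ a, D.formW z a = 0 → fa l (D.uW z a).val ∈ Subalgebra.centralizer F ({δ} : Set _) := by
        intro a ha
        rw [Subalgebra.mem_centralizer_iff]
        rintro _ rfl
        exact (h _ ⟨fu_mem_mst l _, D.uW_mem_omV hk l hzz ha⟩).eq.symm
      exact ⟨key _ hze, key _ (by rw [map_neg, hze, neg_zero])⟩
    have hX : X ∈ (Subalgebra.centralizer F ({δ} : Set _)).comap (fa l) := htop ▸ Algebra.mem_top
    exact ((Subalgebra.mem_centralizer_iff F).1 hX δ rfl).symm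
  obtain ⟨c, rfl⟩ := scalar_of_com (by omega) hcom
  rw [D.adT_smul, D.adT_one] at hskew
  have h1 : (2 * c) • (1 : Matrix (Idx k (s + 1)) (Idx k (s + 1)) F) = 0 := by
    rw [two_mul, add_smul]
    linear_combination (norm := module) hskew
  haveI : Nonempty (Idx k (s + 1)) := ⟨fun _ => ⟨0, by omega⟩⟩
  rw [(mul_eq_zero.1 ((smul_eq_zero.1 h1).resolve_right one_ne_zero)).resolve_left D.h2, zero_smul]

/-- The shape of an isometry preserving a line and carrying the group into one without long elements. -/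
theorem Hyp.line_shape [Fintype F] {s : ℕ} {G G' : Subgroup (GL (Idx k (s + 2)) F)} (hG : D.Hyp G)
    (hG' : D.Hyp G') (hD : D.Good) (hlose : ∀ i, D.Lose G' i)
    (IH : ∀ K : Subgroup (GL (Idx k (s + 1)) F), D.Hyp K → K ≤ mst k (s + 1) F ∨ D.omV (s + 1) ≤ K)
    {i : Fin (s + 2)} {x : Fin k → F} (hx : D.formW x x = 0) (hx0 : x ≠ 0) {n : GL (Idx k (s + 2)) F}
    (hn : n ∈ D.isoV (s + 2)) (hconj : ∀ g ∈ G, n * g * n⁻¹ ∈ G')
    (hnx : ∀ u, ∃ u', n.val *ᵥ tens i u x = tens i u' x) :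
    ∃ (p : GL (Idx k (s + 1)) F) (q : GL (Fin k) F), (∀ h ∈ D.isoV (s + 1), p * h * p⁻¹ ∈ D.isoV (s + 1)) ∧
      (∀ P ∈ mst k (s + 1) F ⊓ D.omV (s + 1), p * P * p⁻¹ ∈ mst k (s + 1) F ⊓ D.omV (s + 1)) ∧
      n = psiU i p * fu i q := by
  have hk := hD.hk
  have hk0 : 0 < k := by omega
  obtain ⟨m, f, e, H, hm⟩ := D.exists_frame hk hx hx0
  obtain ⟨g₀, hg₀, g0x, g0f, g0e⟩ := H.exists_neg
  have hperp : ∀ r ∈ perp2 D.formW ⊤ x f, g₀.val *ᵥ r = r := fun r hr => by
    rw [H.perp_eq hr]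
    simp only [Matrix.mulVec_sum, Matrix.mulVec_smul, g0e]
  obtain ⟨p, q, ν, φ, l, hν, hqx, hqβ, hpα, hφ, hl, hnl⟩ := stab_form (D.ten i) H.hyp
    (by rw [Fintype.card_pi_const, Fintype.card_fin]; exact Nat.pow_pos hk0)
    (by rw [Fintype.card_fin]; omega) (L := G')
    (fun {g} hg hu => by
      obtain ⟨a, ha, e⟩ := radical hG' hD (by omega) (hlose i) H hm hg hu
      obtain ⟨r, hr, ea⟩ := OOTensor.exists_split D.spaceW H.hyp a
      rw [ha, zero_smul, add_zero] at ea
      refine ⟨r, hr, ?_⟩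
      rw [D.liftR_eq, e]
      congr 1
      exact Orth.gl_ext fun w => by
        rw [D.uW_mulVec H.xx ha, Orth.sGL_act D.spaceW H.qx (mem_perp2.1 hr).2.1]
        conv_lhs => rw [ea]
        simp only [qW, map_add, map_smul, LinearMap.add_apply, LinearMap.smul_apply, smul_eq_mul,
          D.spaceW.add, D.spaceW.smul, H.qx, (mem_perp2.1 hr).2.1, mul_zero, zero_mul, add_zero, zero_add]
        module)
    hn hnx
    (fun a ha => hconj _ (by rw [D.liftR_eq]; exact hG.siegel hD i H.xx (mem_perp2.1 ha).2.1))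
    (h := g₀) hg₀.iso g0x g0f hperp (by rw [D.liftR_eq]; exact hG'.sg hD (by omega) i hg₀)
    (hconj _ (by rw [D.liftR_eq]; exact hG.sg hD (by omega) i hg₀))
  set Φ := LinearMap.toMatrix' φ with hΦdef
  have hΦ : D.adT Φ = -Φ := by
    refine Orth.mat_ext fun b => sub_eq_zero.1 (D.formT_nondeg _ fun a => ?_)
    rw [map_sub, LinearMap.sub_apply, D.formT_symm _ a, ← D.formT_adj, LinearMap.toMatrix'_mulVec,
      Matrix.neg_mulVec, LinearMap.toMatrix'_mulVec, map_neg, LinearMap.neg_apply, hφ, D.formT_symm (φ b) a]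
    simp
  have hlv : l.val = 1 + D.LMat i x Φ := Orth.mat_ext fun v => by
    rw [hl, D.long_eq, Matrix.add_mulVec, Matrix.one_mulVec]; rfl
  have hli : (l⁻¹).val = 1 - D.LMat i x Φ := left_inv_eq_right_inv (Units.inv_mul l) (by
    rw [hlv, show (1 + D.LMat i x Φ) * (1 - D.LMat i x Φ) = 1 - D.LMat i x Φ * D.LMat i x Φ by noncomm_ring,
      D.LMat_mul hx, sub_zero])
  have hmk : (D.ten i).mkGL p q = psiU i p * fu i q := (D.ten i).gl_ext fun a w => by
    rw [(D.ten i).mkGL_act, Orth.mul_act, fu_val, fa_tens, psiU_val, psi_tens]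
  have hpn : ∀ h ∈ D.isoV (s + 1), p * h * p⁻¹ ∈ D.isoV (s + 1) := fun h hh => Orth.mem_iso.2 fun v => by
    obtain ⟨w, rfl⟩ : ∃ w, p.val *ᵥ w = v := ⟨_, Orth.act_inv p v⟩
    rw [Orth.mul_act, Orth.mul_act, Orth.inv_act]
    show qf (D.formT (s + 1)) _ = qf (D.formT (s + 1)) _
    rw [qf, qf, hpα, hpα]
    have h1 := (D.space (s + 1)).B_act hh w w
    rw [h1]
  have hqS : conjA q (D.sW x) = ν⁻¹ • D.sW x := Orth.mat_ext fun w => by
    rw [conjA_apply, ← Matrix.mulVec_mulVec, ← Matrix.mulVec_mulVec, sW_mulVec, Matrix.mulVec_smul, hqx,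
      Matrix.smul_mulVec, sW_mulVec, smul_smul]
    congr 1
    have h1 := hqβ x ((q⁻¹).val *ᵥ w)
    rw [hqx, Orth.act_inv] at h1
    rw [h1, ← mul_assoc, inv_mul_cancel₀ hν, one_mul]
  -- the conjugate of an element of the other factors
  have key : ∀ P : GL (Idx k (s + 1)) F, (n * psiU i P * n⁻¹).val = psi i (p * P * p⁻¹).val *
      (1 + D.LMat i x (ν⁻¹ • conjA p ((P⁻¹).val * Φ * P.val - Φ))) := fun P => by
    set δ := (P⁻¹).val * Φ * P.val - Φ
    have e1 : conjA l (psi i P.val) = psi i P.val * (1 + D.LMat i x δ) := by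
      rw [conjA_apply, hlv, hli, psi_one_add, add_mul, mul_sub, mul_sub, mul_one, mul_one, D.LMat_mul hx,
        sub_zero, psi_LMat, mul_add, mul_one, psi_LMat]
      rw [show P.val * δ = Φ * P.val - P.val * Φ by
        simp only [δ, mul_sub, ← mul_assoc, Units.mul_inv, one_mul], sub_eq_add_neg (Φ * P.val), LMat_add,
        LMat_neg]
      abel
    have e2 : conjA (fu i q) (psi i P.val * (1 + D.LMat i x δ)) =
        psi i P.val * (1 + D.LMat i x (ν⁻¹ • δ)) := by
      rw [map_mul, conjA_fu_com (com_psi i _), map_add, map_one, LMat, conj_fa_mul (com_psi i _), hqS, map_smul,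
        smul_mul_assoc, LMat_smul]
      rfl
    rw [show (n * psiU i P * n⁻¹).val = conjA n (psi i P.val) from rfl, hnl, hmk, conjA_mul, conjA_mul, e1, e2,
      map_mul, conjA_psiU, map_add, map_one]
    congr 2
    rw [LMat, LMat, map_mul, conjA_psiU, map_smul]
    congr 1
    rw [conjA_apply, psiU_val, ← (com_psi i _ _).eq, mul_assoc, ← psiU_val, Units.mul_inv, mul_one]
  have hP : ∀ P ∈ mst k (s + 1) F ⊓ D.omV (s + 1),
      InM G' (psi i (p * P * p⁻¹).val * (1 + D.LMat i x (ν⁻¹ • conjA p ((P⁻¹).val * Φ * P.val - Φ)))) :=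
    fun P hP => ⟨_, hconj _ (hG.mem ⟨psiU_mem_mst i hP.1, D.psiU_mem_omV i hP.2⟩), key P⟩
  set K := D.tail G' i x hx
  have hK : D.Hyp K := by
    refine ⟨fun P hP => ?_, fun P hP => ⟨0, psiU i P, hG'.mem ⟨psiU_mem_mst i hP.1, D.psiU_mem_omV i hP.2⟩, by
      rw [psiU_val, LMat, map_zero, mul_zero, add_zero, mul_one]⟩⟩
    obtain ⟨δ, g, hg, hgv⟩ := hP
    have h1 := D.mem_isoV.1 (hG'.le hg)
    rw [hgv, adT_mul, adT_psi, adT_add, adT_one,
      show D.adT (D.LMat i x δ) = D.LMat i x (D.adT δ) by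
        rw [LMat, D.adT_mul, adT_psi, adT_fa, ad_sW, ← (com_psi i _ _).eq]; rfl,
      mul_assoc, ← mul_assoc (psi i _) (psi i _), ← map_mul, ← mul_assoc, psi_one_add, add_mul, mul_add, mul_one,
      mul_add, mul_one, psi_LMat, D.LMat_mul hx, add_zero] at h1
    refine D.mem_isoV.2 (Matrix.ext fun w w' => ?_)
    have h2 := congrArg (fun X => sl i w w' X *ᵥ x) h1
    simp only [LMat, map_add, sl_psi, sl_fa_psi, Matrix.add_mulVec, Matrix.smul_mulVec, Matrix.one_mulVec,
      sW_mulVec, hx, zero_smul, smul_zero, add_zero] at h2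
    rw [show (1 : Matrix (Idx k (s + 2)) (Idx k (s + 2)) F) = psi i 1 from (map_one _).symm, sl_psi,
      Matrix.smul_mulVec, Matrix.one_mulVec] at h2
    by_contra hne
    have h3 := sub_eq_zero.2 h2
    rw [← sub_smul] at h3
    exact hx0 ((smul_eq_zero.1 h3).resolve_left (sub_ne_zero.2 hne))
  have hKm : K ≤ mst k (s + 1) F := by
    rcases Nat.eq_zero_or_pos s with rfl | hs
    · rw [mst_one hk0]; exact le_top
    refine (IH K hK).resolve_right fun hKo => ?_
    obtain ⟨c, hco, hcm, sgn, hcv⟩ := D.exists_sign_not_mst (t := s + 1) (by omega : 3 ≤ k) (by omega)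
    obtain ⟨δ, g, hg, hgv⟩ := hKo hco
    have hci : c ∈ D.isoV (s + 1) := D.omV_le _ hco
    have hlong : InM (D.isoV (s + 2)) (1 + D.LMat i x δ) :=
      ⟨(psiU i c)⁻¹ * g, mul_mem (inv_mem (D.psiU_mem_isoV i hci)) (hG'.le hg), by
        rw [Units.val_mul, hgv, ← mul_assoc, ← psiU_val, Units.inv_mul, one_mul]⟩
    have hiso : D.Hyp (D.isoV (s + 2)) := ⟨le_rfl, inf_le_right.trans (D.omV_le _)⟩
    have hskew : D.adT δ = -δ := hiso.long_skew hk0 hx hx0 hlong
    have hgi : (g⁻¹).val = (1 - D.LMat i x δ) * ((psiU i c)⁻¹).val := left_inv_eq_right_inv (Units.inv_mul g) (by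
      rw [hgv, mul_assoc, ← mul_assoc (1 + D.LMat i x δ),
        show (1 + D.LMat i x δ) * (1 - D.LMat i x δ) = 1 - D.LMat i x δ * D.LMat i x δ by noncomm_ring,
        D.LMat_mul hx, sub_zero, one_mul, ← psiU_val, Units.mul_inv])
    have hcomm : ∀ (j : Fin (s + 1)) (r : Fin k), Commute (fa j (D.rW (Pi.single r (1 : F))).val) δ := by
      intro j r
      have hr : D.qW (Pi.single r (1 : F)) ≠ 0 := by rw [Ne, qW_zero, formW_single]; simp [D.ne]
      set M := fu j (D.rW (Pi.single r (1 : F)))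
      have hM : psiU i M ∈ G' := by rw [psiU_fu]; exact hG'.refl hD (by omega) _ hr
      have hMc : M * c = c * M := Units.ext <| by
        rw [Units.val_mul, Units.val_mul, fu_val, hcv, rW_single_diag, Matrix.diagonal_mul_diagonal,
          Matrix.diagonal_mul_diagonal]
        simp only [mul_comm]
      have e1 : ((psiU i M)⁻¹ * g⁻¹ * psiU i M * g).val = 1 + D.LMat i x (δ - conjA M⁻¹ δ) := by
        have e2 : ((psiU i c)⁻¹).val * (psiU i M).val = (psiU i M).val * ((psiU i c)⁻¹).val := by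
          rw [← Units.val_mul, ← Units.val_mul, ← map_inv, ← map_mul, ← map_mul,
            show c⁻¹ * M = M * c⁻¹ from ((show Commute c M from hMc.symm).inv_left).eq]
        have e3 : ((psiU i M)⁻¹).val * (1 - D.LMat i x δ) * (psiU i M).val =
            1 - D.LMat i x (conjA M⁻¹ δ) := by
          rw [mul_sub, mul_one, sub_mul, Units.inv_mul, ← map_inv, psiU_val, psiU_val, psi_LMat, LMat_psi,
            conjA_apply, inv_inv]
        rw [Units.val_mul, Units.val_mul, Units.val_mul, hgi, hgv]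
        simp only [mul_assoc]
        rw [← mul_assoc (((psiU i c)⁻¹).val) (psiU i M).val, e2]
        simp only [mul_assoc]
        rw [← mul_assoc (((psiU i c)⁻¹).val) (psi i c.val), ← psiU_val, Units.inv_mul, one_mul]
        simp only [← mul_assoc]
        rw [e3, sub_mul, one_mul, mul_add, mul_one, D.LMat_mul hx, add_zero, sub_eq_add_neg δ, LMat_add, LMat_neg]
        abel
      have h2 := hlose i x _ hx hx0 (⟨_, mul_mem (mul_mem (mul_mem (inv_mem hM) (inv_mem hg)) hM) hg, e1⟩ :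
        InM G' (1 + D.LMat i x (δ - conjA M⁻¹ δ)))
      have h3 := congrArg (fun X => M.val * X) (sub_eq_zero.1 h2)
      simp only [conjA_apply, inv_inv, ← mul_assoc, Units.mul_inv, one_mul] at h3
      simp only [M, fu_val] at h3
      exact h3
    have hδ := zero_of_signs δ hskew hcomm
    refine hG'.not_cut_full (G := G') hs hD hlose i (((IH _ (hG'.comap_psiU i hk0)).resolve_left fun hle => hcm (hle ?_)))
    show psiU i c ∈ G'
    rwa [show psiU i c = g from Units.ext (by rw [hgv, hδ, LMat, map_zero, mul_zero, add_zero, mul_one, psiU_val])]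
  have hφ0 : Φ = 0 := zero_of_siegels hk Φ hΦ fun P hP' => by
    obtain ⟨g, hg, hgv⟩ := hP P hP'
    have hmem : p * P * p⁻¹ ∈ mst k (s + 1) F ⊓ D.omV (s + 1) :=
      ⟨hKm ⟨_, g, hg, hgv⟩, D.conj_omV hpn hP'.2⟩
    have h1 : InM G' (1 + D.LMat i x (ν⁻¹ • conjA p ((P⁻¹).val * Φ * P.val - Φ))) :=
      ⟨(psiU i (p * P * p⁻¹))⁻¹ * g, mul_mem (inv_mem (hG'.mem ⟨psiU_mem_mst i hmem.1,
        D.psiU_mem_omV i hmem.2⟩)) hg, by
        rw [Units.val_mul, hgv, ← mul_assoc, ← psiU_val, Units.inv_mul, one_mul]⟩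
    have h2 := (smul_eq_zero.1 (hlose i x _ hx hx0 h1)).resolve_left (inv_ne_zero hν)
    have h3 := sub_eq_zero.1 ((conjA p).injective (h2.trans (map_zero _).symm))
    show P.val * Φ = Φ * P.val
    conv_lhs => rw [← h3]
    simp only [← mul_assoc, Units.mul_inv, one_mul]
  refine ⟨p, q, hpn, fun P hP' => ⟨hKm ⟨_, hP P hP'⟩, D.conj_omV hpn hP'.2⟩, ?_⟩
  rw [hnl, hmk, show l = 1 from Units.ext (by rw [hlv, hφ0, LMat, map_zero, mul_zero, add_zero, Units.val_one]),
    mul_one]

end Dia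

end Cfsg.Lib.Linear.OTWreath
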