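import Cfsg.Agent.Lib.Linear.OTWreath.Orbit
import Cfsg.Agent.Lib.Linear.OTPow.Maximal
import Cfsg.Agent.Lib.Linear.OWreath.Transport

/-!
# The stabiliser of an orthogonal tensor power of even dimensional spaces is maximal
-/

set_option autoImplicit false
set_option linter.unusedSectionVars false
set_option linter.unusedSimpArgs false
set_option linter.unusedVariables false
set_option linter.style.haveILetI false

namespace Cfsg.Lib.Linear.OTWreath

open Module Cfsg.Geo Cfsg.Lib.Linear.AschGen Cfsg.Lib.Linear.TWreath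
open Cfsg.Lib.Linear.OOTensor (qf)
open Cfsg.Lib.Linear.Orth (exists_space mem_iso inv_act)
open scoped Matrix MatrixGroups commutatorElement

variable {F : Type*} [Field F] {k t : ℕ}

namespace Dia

variable {D : Dia k F}

/-- **An overgroup lies in the stabiliser or contains the derived group.** -/
theorem dichotomy [Fintype F] (hD : D.Good) : ∀ (n : ℕ) (G : Subgroup (GL (Idx k (n + 1)) F)), D.Hyp G →
    G ≤ mst k (n + 1) F ∨ D.omV (n + 1) ≤ G := by
  intro n
  induction n with
  | zero =>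
    intro G _
    left
    rw [mst_one (by have := hD.hk; omega)]
    exact le_top
  | succ n ih =>
    intro G hG
    by_cases hlose : ∀ i, D.Lose G i
    · exact Or.inl (hG.le_mst_of_lose hD hlose ih)
    · simp only [Lose, not_forall] at hlose
      obtain ⟨i, z, φ, hz, hz0, hmem, hφ⟩ := hlose
      exact Or.inr (hG.omega_le_of_long hD (by omega) ih hz hz0 hφ hmem)

/-- **Maximality in standard coordinates.** -/
theorem std_maximal [Fintype F] (hD : D.Good) (s : ℕ) :
    IsMaximalIn (D.omV (s + 2)) (mst k (s + 2) F ⊓ D.omV (s + 2)) := by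
  refine ⟨lt_of_le_of_ne inf_le_right fun h => ?_, fun M hM hMΩ => ?_⟩
  · obtain ⟨c, hc, hcm, -⟩ := D.exists_sign_not_mst (t := s + 2) (by have := hD.hk; omega) (by omega)
    rw [← h] at hc
    exact hcm hc.1
  have hG : D.Hyp M := ⟨hMΩ.trans (D.omV_le _), hM⟩
  rcases dichotomy hD (s + 1) M hG with h | h
  · exact Or.inl (le_antisymm (le_inf h hMΩ) hM)
  · exact Or.inr (le_antisymm hMΩ h)

end Dia

/-- A change to an orthogonal basis of a symmetric form. -/
theorem exists_diag (h2 : (2 : F) ≠ 0) {f₁ : (Fin k → F) → (Fin k → F) → F} (hf₁ : IsSymmetricForm f₁) :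
    ∃ (D : Dia k F) (R : GL (Fin k) F), ∀ x y, f₁ (R.val *ᵥ x) (R.val *ᵥ y) = D.formW x y := by
  let β : LinearMap.BilinForm F (Fin k → F) := LinearMap.mk₂ F f₁ hf₁.bilinear.add_left
    hf₁.bilinear.smul_left hf₁.bilinear.add_right hf₁.bilinear.smul_right
  letI : Invertible (2 : F) := invertibleOfNonzero h2
  have hsym : LinearMap.IsSymm β := ⟨fun a b => hf₁.symm a b⟩
  obtain ⟨v₀, hv₀⟩ := LinearMap.BilinForm.exists_orthogonal_basis hsym
  have hk : finrank F (Fin k → F) = k := by rw [finrank_fintype_fun_eq_card, Fintype.card_fin]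
  let v : Basis (Fin k) F (Fin k → F) := v₀.reindex (finCongr hk)
  have horth : ∀ a b, a ≠ b → β (v a) (v b) = 0 := fun a b h => by
    simp only [v, Basis.reindex_apply]
    exact hv₀ (fun he => h ((finCongr hk).symm.injective he))
  have hne : ∀ a, β (v a) (v a) ≠ 0 := fun a h => by
    obtain ⟨w, hw⟩ := (hf₁.nondegenerate (v a) (v.ne_zero a)).2
    refine hw (show β (v a) w = 0 from ?_)
    rw [← v.sum_repr w, map_sum]
    refine Finset.sum_eq_zero fun b _ => ?_
    rw [map_smul]
    rcases eq_or_ne a b with rfl | hab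
    · rw [h, smul_zero]
    · rw [horth a b hab, smul_zero]
  let D : Dia k F := ⟨fun a => β (v a) (v a), hne, h2⟩
  let R : GL (Fin k) F := (Symp.glEquiv (Fin k) F).symm v.equivFun.symm
  refine ⟨D, R, fun x y => ?_⟩
  have hR : ∀ z, R.val *ᵥ z = ∑ a, z a • v a := fun z => by
    rw [← Symp.glEquiv_apply, show (Symp.glEquiv (Fin k) F) R = v.equivFun.symm from
      MulEquiv.apply_symm_apply _ _, Basis.equivFun_symm_apply]
  show β (R.val *ᵥ x) (R.val *ᵥ y) = _
  rw [hR, hR, Dia.formW_apply]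
  simp only [map_sum, LinearMap.sum_apply, map_smul, LinearMap.smul_apply, smul_eq_mul]
  refine Finset.sum_congr rfl fun a _ => ?_
  rw [Finset.sum_eq_single a
    (fun b _ hb => by simp [horth a b hb.symm, horth b a hb]) (fun h => absurd (Finset.mem_univ _) h)]
  simp only [D]
  ring

/-- **Maximality of the stabiliser.** -/
theorem isMaximalIn [Fintype F] {ι : Type} [Fintype ι] [DecidableEq ι] {Q : (ι → F) → F}
    (hQ : IsNondegenerateQuadraticForm Q) (hodd : Odd (Fintype.card F)) (hke : Even k) (ht : 2 ≤ t)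
    (e : ι ≃ (Fin t → Fin k)) (P : GL ι F) {f₁ : (Fin k → F) → (Fin k → F) → F} (hf₁ : IsSymmetricForm f₁)
    (hk4 : 4 ≤ k) (hminus : k = 4 → ¬ IsPlusTypeOn (fun v : Fin k → F => f₁ v v) ⊤)
    (hT : IsTensorPowerFormStructure id (QuadraticMap.polar Q) f₁ e P) :
    IsMaximalIn (omegaGL Q) (tensorWreathSubgroup k t e P ⊓ omegaGL Q) := by
  classical
  obtain ⟨s, rfl⟩ : ∃ s, t = s + 2 := ⟨t - 2, by omega⟩
  obtain ⟨B, C⟩ := exists_space hQ
  obtain ⟨c, hc0, hc⟩ := hT
  have h2 : (2 : F) ≠ 0 := Orth.two_ne_zero_of_odd_card hodd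
  obtain ⟨D, R, hR⟩ := exists_diag h2 hf₁
  have hbil := hf₁.bilinear
  have hD : D.Good := by
    refine ⟨hk4, hke, ?_⟩
    by_cases h5 : 5 ≤ k
    · exact Or.inl h5
    refine Or.inr fun a b ha hb hab ha0 => ?_
    by_contra hnot
    refine hminus (by omega) ?_
    have hli : LinearIndependent F ![R.val *ᵥ a, R.val *ᵥ b] := by
      rw [LinearIndependent.pair_iff]
      intro u w h
      rw [← Matrix.mulVec_smul, ← Matrix.mulVec_smul, ← Matrix.mulVec_add] at h
      have h' : u • a + w • b = 0 := Orth.act_injective R (h.trans (Matrix.mulVec_zero _).symm)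
      by_cases hw : w = 0
      · rw [hw, zero_smul, add_zero, smul_eq_zero] at h'
        exact ⟨h'.resolve_right ha0, hw⟩
      · exact absurd (Submodule.mem_span_singleton.2 ⟨-(w⁻¹ * u), by
          rw [neg_smul, mul_smul, eq_neg_of_add_eq_zero_left h', smul_neg, neg_neg, smul_smul,
            inv_mul_cancel₀ hw, one_smul]⟩) hnot
    refine ⟨Submodule.span F (Set.range ![R.val *ᵥ a, R.val *ᵥ b]), le_top, fun w hw => ?_, ?_⟩
    · rw [Matrix.range_cons_cons_empty, Submodule.mem_span_pair] at hw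
      obtain ⟨u, w', rfl⟩ := hw
      show f₁ _ _ = 0
      rw [← Matrix.mulVec_smul, ← Matrix.mulVec_smul, ← Matrix.mulVec_add, hR]
      simp [ha, hb, hab, D.formW_symm b a]
    · rw [finrank_span_eq_card hli, finrank_top, finrank_fintype_fun_eq_card, Fintype.card_fin, Fintype.card_fin]
      omega
  -- coordinates of the orthogonal basis
  set G1 : Matrix (Fin k) (Fin k) F := gramMatrix f₁ with hG1
  let B1 : LinearMap.BilinForm F (Fin k → F) := LinearMap.mk₂ F f₁ hbil.add_left hbil.smul_left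
    hbil.add_right hbil.smul_right
  have hgram : R.valᵀ * G1 * R.val = Matrix.diagonal D.d := by
    have hG : G1 = LinearMap.BilinForm.toMatrix' B1 := by
      ext a b
      rw [LinearMap.BilinForm.toMatrix'_apply]
      rfl
    rw [hG, ← LinearMap.toMatrix'_toLin' R.val, ← LinearMap.BilinForm.toMatrix'_comp]
    ext a b
    rw [LinearMap.BilinForm.toMatrix'_apply]
    show f₁ ((Matrix.toLin' R.val) (Pi.single a 1)) ((Matrix.toLin' R.val) (Pi.single b 1)) = _
    rw [Matrix.toLin'_apply, Matrix.toLin'_apply, hR, Dia.formW_single]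
    by_cases hab : a = b
    · subst hab; simp
    · simp [hab, Pi.single_eq_of_ne hab]
  let pt : GL (Idx k (s + 2)) F := ⟨pureTens fun _ => R.val, pureTens fun _ => (R⁻¹).val,
    by rw [pureTens_mul]; simp [pureTens_one], by rw [pureTens_mul]; simp [pureTens_one]⟩
  set P' := P * glReindex e.symm pt with hP'
  have hmv : ∀ x : Idx k (s + 2) → F, P'.val *ᵥ (x ∘ e) = P.val *ᵥ ((pt.val *ᵥ x) ∘ e) := fun x => by
    rw [hP', Units.val_mul, ← Matrix.mulVec_mulVec, show (glReindex e.symm pt).val = pt.val.submatrix e e from rfl,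
      Matrix.submatrix_mulVec_equiv]
    congr 2
    exact congrArg (fun z => pt.val *ᵥ z) (funext fun i => by simp)
  have hbT : ∀ x y : Idx k (s + 2) → F,
      B (P'.val *ᵥ (x ∘ e)) (P'.val *ᵥ (y ∘ e)) = c * D.formT (s + 2) x y := fun x y => by
    rw [hmv, hmv, ← C.polar, hc]
    congr 1
    change Cfsg.Geo.formOfGram id (pureTens fun _ : Fin (s + 2) => G1) (pt.val *ᵥ x) (pt.val *ᵥ y) = _
    rw [AschSp.formOfGram_mat, show pt.val = pureTens fun _ : Fin (s + 2) => R.val from rfl]
    rw [show ∀ (A M : Matrix (Idx k (s + 2)) (Idx k (s + 2)) F) (x y : Idx k (s + 2) → F),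
      (A *ᵥ x) ⬝ᵥ M *ᵥ (A *ᵥ y) = x ⬝ᵥ (Aᵀ * M * A) *ᵥ y from fun A M x y => by
        rw [← Matrix.mulVec_mulVec, ← Matrix.mulVec_mulVec, Matrix.dotProduct_mulVec x Aᵀ, Matrix.vecMul_transpose],
      AschSp.pureTens_transpose, pureTens_mul, pureTens_mul, hgram]
    have hdiag : (pureTens fun _ : Fin (s + 2) => Matrix.diagonal D.d) = Matrix.diagonal D.dT := by
      ext p q
      simp only [pureTens, Matrix.of_apply]
      by_cases hpq : p = q
      · subst hpq; simp [Dia.dT]
      · obtain ⟨l, hl⟩ := Function.ne_iff.1 hpq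
        rw [Matrix.diagonal_apply_ne _ hpq]
        exact Finset.prod_eq_zero (Finset.mem_univ l) (Matrix.diagonal_apply_ne D.d hl)
    rw [hdiag, Dia.formT_apply]
    simp only [dotProduct, Matrix.mulVec_diagonal]
    exact Finset.sum_congr rfl fun a _ => by ring
  have hQT : ∀ x : Idx k (s + 2) → F, Q (P'.val *ᵥ (x ∘ e)) = c * D.quadT (s + 2) x := fun x => by
    rw [Dia.quadT, qf, mul_left_comm, ← hbT, C.self]
    field_simp
  let Θ : GL (Idx k (s + 2)) F ≃* GL ι F := (glReindex e.symm).trans (MulAut.conj P')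
  have hΘ : ∀ (g : GL (Idx k (s + 2)) F) (x : Idx k (s + 2) → F),
      (Θ g).val *ᵥ (P'.val *ᵥ (x ∘ e)) = P'.val *ᵥ ((g.val *ᵥ x) ∘ e) := fun g x => by
    show (P'.val * g.val.submatrix e e * (P'⁻¹).val) *ᵥ _ = _
    rw [← Matrix.mulVec_mulVec, inv_act, ← Matrix.mulVec_mulVec, Matrix.submatrix_mulVec_equiv]
    congr 2
    exact congrArg (fun z => g.val *ᵥ z) (funext fun i => by simp)
  have hiso : isometryGroup F Q = (D.isoV (s + 2)).map Θ.toMonoidHom := by
    ext g
    obtain ⟨h, rfl⟩ := Θ.surjective g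
    rw [show Θ h = Θ.toMonoidHom h from rfl, Subgroup.mem_map_iff_mem Θ.injective, mem_iso, mem_iso]
    constructor
    · intro hh x
      have := hh (P'.val *ᵥ (x ∘ e))
      rw [show (Θ.toMonoidHom h) = Θ h from rfl, hΘ, hQT, hQT] at this
      exact mul_left_cancel₀ hc0 this
    · intro hh v
      obtain ⟨x, rfl⟩ : ∃ x : Idx k (s + 2) → F, P'.val *ᵥ (x ∘ e) = v :=
        ⟨((P'⁻¹).val *ᵥ v) ∘ e.symm, by
          rw [Function.comp_assoc, Equiv.symm_comp_self, Function.comp_id, Matrix.mulVec_mulVec,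
            Units.mul_inv, Matrix.one_mulVec]⟩
      rw [show (Θ.toMonoidHom h) = Θ h from rfl, hΘ, hQT, hQT, hh]
  have hΩ : omegaGL Q = (D.omV (s + 2)).map Θ.toMonoidHom := by
    rw [OTPow.omega_comm, D.omV_eq, Subgroup.map_commutator, hiso]
  have hW : tensorWreathSubgroup k (s + 2) e P = (mst k (s + 2) F).map Θ.toMonoidHom := by
    have hpt : pt ∈ tensorWreathStandard k (s + 2) F :=
      Subgroup.subset_closure (Or.inl ⟨fun _ => R, fun x y => rfl⟩)
    have hmem : glReindex e.symm pt ∈ (tensorWreathStandard k (s + 2) F).map (glReindex e.symm).toMonoidHom :=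
      ⟨pt, hpt, rfl⟩
    have e1 : tensorWreathSubgroup k (s + 2) e P = tensorWreathSubgroup k (s + 2) e P' := by
      unfold tensorWreathSubgroup
      rw [hP', map_mul]
      refine le_antisymm ?_ ?_
      · rintro _ ⟨x, hx, rfl⟩
        exact ⟨_, mul_mem (mul_mem (inv_mem hmem) hx) hmem, by simp [mul_assoc]⟩
      · rintro _ ⟨x, hx, rfl⟩
        exact ⟨_, mul_mem (mul_mem hmem hx) (inv_mem hmem), by simp [mul_assoc]⟩
    rw [e1, mst_eq_standard (by omega) (by omega), tensorWreathSubgroup, Subgroup.map_map]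
    rfl
  rw [hW, hΩ, ← Subgroup.map_inf _ _ _ Θ.injective]
  exact OTPow.isMaximalIn_map Θ (Dia.std_maximal hD s)

end Cfsg.Lib.Linear.OTWreath
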