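import Cfsg.Agent.Lib.Linear.TWreath.Main

/-!
# The slices of a matrix of the tensor power along one factor
-/

set_option autoImplicit false
set_option linter.unusedSectionVars false

namespace Cfsg.Lib.Linear.OTWreath

open Cfsg.Geo Cfsg.Lib.Linear.AschGen Cfsg.Lib.Linear.TWreath
open scoped Matrix MatrixGroups

variable {F : Type*} [Field F] {k t : ℕ}

/-- An index with the given coordinates at one factor and outside it. -/
abbrev ins (i : Fin (t + 1)) (p : Fin k) (w : Idx k t) : Idx k (t + 1) :=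
  Fin.insertNth (α := fun _ => Fin k) i p w

theorem ins_eta (i : Fin (t + 1)) (z : Idx k (t + 1)) : ins i (z i) (i.removeNth z) = z :=
  Fin.insertNth_self_removeNth i z

theorem ins_at (i : Fin (t + 1)) (p : Fin k) (w : Idx k t) : ins i p w i = p :=
  Fin.insertNth_apply_same (α := fun _ => Fin k) i p w

theorem ins_rest (i : Fin (t + 1)) (p : Fin k) (w : Idx k t) : i.removeNth (ins i p w) = w :=
  Fin.removeNth_insertNth (α := fun _ => Fin k) i p w

theorem sum_ins {A : Type*} [AddCommMonoid A] (i : Fin (t + 1)) (f : Idx k (t + 1) → A) :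
    ∑ z, f z = ∑ p, ∑ w, f (ins i p w) := by
  rw [← Equiv.sum_comp (Fin.insertNthEquiv (fun _ => Fin k) i) f, Fintype.sum_prod_type]
  rfl

theorem fa_ins (i : Fin (t + 1)) (A : Matrix (Fin k) (Fin k) F) (p r : Fin k) (w w' : Idx k t) :
    fa i A (ins i p w) (ins i r w') = if w = w' then A p r else 0 := by
  rw [fa_apply, powStd_apply, ins_at, ins_at]
  by_cases h : w = w'
  · subst h
    rw [if_pos rfl, if_pos fun j hj => ?_]
    obtain ⟨j', rfl⟩ := (Fin.eq_self_or_eq_succAbove i j).resolve_left hj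
    simp
  · rw [if_neg h, if_neg fun h' => h (funext fun l => ?_)]
    have h1 := h' (i.succAbove l) (Fin.succAbove_ne i l)
    simpa using h1

theorem psi_ins (i : Fin (t + 1)) (Y : Matrix (Idx k t) (Idx k t) F) (p r : Fin k) (w w' : Idx k t) :
    psi i Y (ins i p w) (ins i r w') = if p = r then Y w w' else 0 := by
  rw [psi_apply, ins_at, ins_at, ins_rest, ins_rest]

/-- The slice at two indices of the other factors. -/
def sl (i : Fin (t + 1)) (w w' : Idx k t) :
    Matrix (Idx k (t + 1)) (Idx k (t + 1)) F →ₗ[F] Matrix (Fin k) (Fin k) F where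
  toFun X := Matrix.of fun p q => X (ins i p w) (ins i q w')
  map_add' _ _ := rfl
  map_smul' _ _ := rfl

theorem sl_ext (i : Fin (t + 1)) {X Y : Matrix (Idx k (t + 1)) (Idx k (t + 1)) F}
    (h : ∀ w w', sl i w w' X = sl i w w' Y) : X = Y := by
  ext a b
  rw [← ins_eta i a, ← ins_eta i b]
  exact congrFun (congrFun (h (i.removeNth a) (i.removeNth b)) (a i)) (b i)

theorem sl_fa_mul (i : Fin (t + 1)) (w w' : Idx k t) (A : Matrix (Fin k) (Fin k) F)
    (X : Matrix (Idx k (t + 1)) (Idx k (t + 1)) F) : sl i w w' (fa i A * X) = A * sl i w w' X := by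
  ext p q
  show (fa i A * X) (ins i p w) (ins i q w') = _
  rw [Matrix.mul_apply, sum_ins i, Matrix.mul_apply]
  refine Finset.sum_congr rfl fun r _ => ?_
  simp only [fa_ins, ite_mul, zero_mul, Finset.sum_ite_eq, Finset.mem_univ, if_true]
  rfl

theorem sl_mul_fa (i : Fin (t + 1)) (w w' : Idx k t) (A : Matrix (Fin k) (Fin k) F)
    (X : Matrix (Idx k (t + 1)) (Idx k (t + 1)) F) : sl i w w' (X * fa i A) = sl i w w' X * A := by
  ext p q
  show (X * fa i A) (ins i p w) (ins i q w') = _
  rw [Matrix.mul_apply, sum_ins i, Matrix.mul_apply]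
  refine Finset.sum_congr rfl fun r _ => ?_
  simp only [fa_ins, mul_ite, mul_zero, Finset.sum_ite_eq', Finset.mem_univ, if_true]
  rfl

theorem sl_psi (i : Fin (t + 1)) (w w' : Idx k t) (Y : Matrix (Idx k t) (Idx k t) F) :
    sl i w w' (psi i Y) = Y w w' • 1 := by
  ext p q
  show psi i Y (ins i p w) (ins i q w') = _
  rw [psi_ins, Matrix.smul_apply, Matrix.one_apply, smul_eq_mul, mul_ite, mul_one, mul_zero]

theorem sl_fa_psi (i : Fin (t + 1)) (w w' : Idx k t) (M : Matrix (Fin k) (Fin k) F)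
    (Y : Matrix (Idx k t) (Idx k t) F) : sl i w w' (fa i M * psi i Y) = Y w w' • M := by
  rw [sl_fa_mul, sl_psi, mul_smul_comm, mul_one]

theorem sl_com (hk : 0 < k) (i : Fin (t + 1)) {X : Matrix (Idx k (t + 1)) (Idx k (t + 1)) F} (h : Com i X)
    (w w' : Idx k t) : ∃ c : F, sl i w w' X = c • 1 := by
  obtain ⟨Y, rfl⟩ := exists_psi hk i h
  exact ⟨_, sl_psi i w w' Y⟩

/-- A linear function of the slices, as a matrix of the other factors. -/
def slf (i : Fin (t + 1)) (c : Matrix (Fin k) (Fin k) F → F)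
    (X : Matrix (Idx k (t + 1)) (Idx k (t + 1)) F) : Matrix (Idx k t) (Idx k t) F :=
  Matrix.of fun w w' => c (sl i w w' X)

theorem slf_apply (i : Fin (t + 1)) (c : Matrix (Fin k) (Fin k) F → F)
    (X : Matrix (Idx k (t + 1)) (Idx k (t + 1)) F) (w w' : Idx k t) :
    slf i c X w w' = c (sl i w w' X) := rfl

end Cfsg.Lib.Linear.OTWreath
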