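import Cfsg.Agent.Lib.Linear.OTWreath.Frame
import Cfsg.Agent.Lib.Linear.OTWreath.Slot
import Cfsg.Agent.Lib.Linear.OOTensor.Max
import Cfsg.Agent.Lib.Linear.OrthSpinorApp

/-!
# Elements of the stabiliser in the derived group
-/

set_option autoImplicit false
set_option linter.unusedSectionVars false

namespace Cfsg.Lib.Linear.OTWreath

open Cfsg.Geo Cfsg.Lib.Linear.AschGen Cfsg.Lib.Linear.TWreath
open Cfsg.Lib.Linear.OWreath (tens tens_apply tens_single fa_tens psi_tens)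
open Cfsg.Lib.Linear.OOTensor (qf Ten)
open Cfsg.Lib.Linear.Orth (sGL rGL)
open scoped Matrix MatrixGroups commutatorElement

variable {F : Type*} [Field F] {k t : ℕ}

namespace Dia

variable (D : Dia k F)

/-- The derived group of the isometry group of the tensor power. -/
abbrev omV (t : ℕ) : Subgroup (GL (Idx k t) F) := omegaGL (D.quadT t)

theorem omV_eq (t : ℕ) : D.omV t = ⁅D.isoV t, D.isoV t⁆ := by
  show omegaGL (D.quadT t) = _
  rw [Cfsg.Geo.omegaGL, Subgroup.map_subtype_commutator]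

theorem omV_le (t : ℕ) : D.omV t ≤ D.isoV t := by
  rw [D.omV_eq]
  exact Subgroup.commutator_le.2 fun a ha b hb =>
    mul_mem (mul_mem (mul_mem ha hb) (inv_mem ha)) (inv_mem hb)

/-- Conjugation by an element normalising the isometries normalises the derived group. -/
theorem conj_omV {g : GL (Idx k t) F} (hg : ∀ h ∈ D.isoV t, g * h * g⁻¹ ∈ D.isoV t) {w : GL (Idx k t) F}
    (hw : w ∈ D.omV t) : g * w * g⁻¹ ∈ D.omV t := by
  rw [D.omV_eq] at hw ⊢
  have hle : ⁅D.isoV t, D.isoV t⁆.map (MulAut.conj g).toMonoidHom ≤ ⁅D.isoV t, D.isoV t⁆ := by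
    rw [Subgroup.map_commutator]
    refine Subgroup.commutator_mono ?_ ?_ <;>
    · rintro _ ⟨h, hh, rfl⟩
      exact hg h hh
  exact hle ⟨w, hw, rfl⟩

theorem conj_iso {g h : GL (Idx k t) F} (hg : g ∈ D.isoV t) (hh : h ∈ D.isoV t) : g * h * g⁻¹ ∈ D.isoV t :=
  mul_mem (mul_mem hg hh) (inv_mem hg)

theorem psiU_mem_isoV (i : Fin (t + 1)) {Y : GL (Idx k t) F} (h : Y ∈ D.isoV t) :
    psiU i Y ∈ D.isoV (t + 1) := by
  rw [mem_isoV] at h ⊢
  rw [psiU_val, adT_psi, ← map_mul, h, map_one]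

theorem psiU_mem_omV (i : Fin (t + 1)) {Y : GL (Idx k t) F} (h : Y ∈ D.omV t) :
    psiU i Y ∈ D.omV (t + 1) := by
  rw [omV_eq] at h ⊢
  have hle : ⁅D.isoV t, D.isoV t⁆.map (psiU i) ≤ ⁅D.isoV (t + 1), D.isoV (t + 1)⁆ := by
    rw [Subgroup.map_commutator]
    refine Subgroup.commutator_mono ?_ ?_ <;>
    · rintro _ ⟨h, hh, rfl⟩
      exact D.psiU_mem_isoV i hh
  exact hle ⟨Y, h, rfl⟩

theorem psiU_mem_mst (i : Fin (t + 1)) {Y : GL (Idx k t) F} (h : Y ∈ mst k t F) :
    psiU i Y ∈ mst k (t + 1) F := by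
  obtain ⟨σ, hσ⟩ := h
  refine ⟨σ.viaEmbedding (Fin.succAboveEmb i), fun l => ?_⟩
  rcases Fin.eq_self_or_eq_succAbove i l with rfl | ⟨j, rfl⟩
  · rw [Equiv.Perm.viaEmbedding_apply_of_notMem _ _ _ (by
      rintro ⟨z, hz⟩; exact Fin.succAbove_ne _ z hz)]
    refine ⟨1, fun X => ?_⟩
    rw [conjA_apply, psiU_val, ← (com_psi l Y.val X).eq, mul_assoc, ← psiU_val, Units.mul_inv, mul_one,
      conjA_one]
  · obtain ⟨b, hb⟩ := hσ j
    rw [show σ.viaEmbedding (Fin.succAboveEmb i) (i.succAbove j) = i.succAbove (σ j) from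
      Equiv.Perm.viaEmbedding_apply σ (Fin.succAboveEmb i) j]
    exact ⟨b, fun X => by rw [← psi_fa, conjA_psiU, hb, psi_fa]⟩

theorem uW_mem_omV (hk : 4 ≤ k) (i : Fin (t + 1)) {x a : Fin k → F} (hx : D.formW x x = 0)
    (hxa : D.formW x a = 0) : fu i (D.uW x a) ∈ D.omV (t + 1) := by
  rw [omV_eq, ← D.liftR_eq]
  exact OOTensor.liftR_mem_comm (D.ten i) (by rw [Fintype.card_fin]; omega) (D.qW_zero.2 hx) hxa

/-- The reflection of one factor. -/
noncomputable abbrev rW (u : Fin k → F) : GL (Fin k) F := rGL (qf D.formW) u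

theorem iso_rW {u : Fin k → F} (hu : D.qW u ≠ 0) : D.Iso (D.rW u) :=
  D.iso_of_mem (Orth.rGL_mem D.spaceW hu)

theorem quadT_tens (i : Fin (t + 1)) (c : Idx k t) (u : Fin k → F) :
    D.quadT (t + 1) (tens i (Pi.single c 1) u) = D.dT c * D.qW u := by
  show qf (D.formT (t + 1)) _ = _
  rw [qf, D.tens_pair, D.formT_single, Pi.single_eq_same, qW_eq]
  ring

/-- The vectors whose reflections make up the reflection of one factor. -/
noncomputable def reflList (i : Fin (t + 1)) (u : Fin k → F) : List (Idx k (t + 1) → F) :=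
  (Finset.univ : Finset (Idx k t)).toList.map fun c => tens i (Pi.single c 1) u

theorem reflList_ne (i : Fin (t + 1)) {u : Fin k → F} (hu : D.qW u ≠ 0) :
    ∀ v ∈ reflList i u, D.quadT (t + 1) v ≠ 0 := fun v hv => by
  obtain ⟨c, -, rfl⟩ := List.mem_map.1 hv
  rw [quadT_tens]
  exact mul_ne_zero (D.dT_ne c) hu

theorem reflList_val (i : Fin (t + 1)) {u : Fin k → F} (hu : D.qW u ≠ 0) :
    ((reflList i u).map fun v => Cfsg.reflectionMatrix (D.quadT (t + 1)) v).prod = (fu i (D.rW u)).val := by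
  classical
  have C := D.space (t + 1)
  have key : ∀ L : List (Idx k t), L.Nodup → ∀ c' z,
      (((L.map fun c => tens i (Pi.single c (1 : F)) u).map
        fun v => Cfsg.reflectionMatrix (D.quadT (t + 1)) v).prod) *ᵥ tens i (Pi.single c' 1) z =
      tens i (Pi.single c' 1) (if c' ∈ L then (D.rW u).val *ᵥ z else z) := by
    intro L
    induction L with
    | nil => intro _ c' z; simp
    | cons a L ih =>
      intro hnd c' z
      obtain ⟨ha, hL⟩ := List.nodup_cons.mp hnd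
      have hq : D.quadT (t + 1) (tens i (Pi.single a 1) u) ≠ 0 := by
        rw [quadT_tens]; exact mul_ne_zero (D.dT_ne a) hu
      rw [List.map_cons, List.map_cons, List.prod_cons, ← Matrix.mulVec_mulVec, ih hL c' z,
        ← Orth.rGL_val C hq, Orth.rGL_act C hq, D.tens_pair, D.formT_single, quadT_tens]
      by_cases hca : c' = a
      · subst hca
        rw [if_neg ha, if_pos List.mem_cons_self, Pi.single_eq_same, Orth.rGL_act D.spaceW hu, map_sub,
          map_smul]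
        congr 2
        have := D.dT_ne c'
        show (D.dT c' * D.qW u)⁻¹ * (D.dT c' * 1 * D.formW u z) = (D.qW u)⁻¹ * D.formW u z
        field_simp
      · rw [Pi.single_eq_of_ne (Ne.symm hca), mul_zero, zero_mul, mul_zero, zero_smul, sub_zero]
        by_cases hc : c' ∈ L
        · rw [if_pos hc, if_pos (List.mem_cons_of_mem _ hc)]
        · rw [if_neg hc, if_neg (by simp [hca, hc])]
  refine Orth.mat_ext fun v => ?_
  refine LinearMap.congr_fun ((D.ten i).hom_ext
    (f := Matrix.mulVecLin ((reflList i u).map fun v => Cfsg.reflectionMatrix (D.quadT (t + 1)) v).prod)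
    (g := Matrix.mulVecLin (fu i (D.rW u)).val) fun a z => ?_) v
  have hlin : ∀ (f g : (Idx k (t + 1) → F) →ₗ[F] (Idx k (t + 1) → F)),
      (∀ c, f (tens i (Pi.single c 1) z) = g (tens i (Pi.single c 1) z)) → f (tens i a z) = g (tens i a z) := by
    intro f g h
    conv_lhs => rw [pi_eq_sum_univ' a]
    conv_rhs => rw [pi_eq_sum_univ' a]
    simp only [map_sum, map_smul, LinearMap.sum_apply, LinearMap.smul_apply, h]
  refine hlin _ _ fun c => ?_
  rw [Matrix.mulVecLin_apply, Matrix.mulVecLin_apply, reflList, key _ (Finset.nodup_toList _) c z,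
    if_pos (Finset.mem_toList.2 (Finset.mem_univ c)), fu_val, fa_tens]

theorem reflList_prod (i : Fin (t + 1)) (u : Fin k → F) :
    ((reflList i u).map fun v => D.quadT (t + 1) v).prod = D.qW u ^ (k ^ t) * ∏ c : Idx k t, D.dT c := by
  rw [reflList, List.map_map, Finset.prod_map_toList]
  simp only [Function.comp_apply, quadT_tens, Finset.prod_mul_distrib, Finset.prod_const, Finset.card_univ,
    Fintype.card_pi, Fintype.card_fin]
  ring

theorem prod_dT_square (hke : Even k) (ht : 2 ≤ t) : IsSquare (∏ c : Idx k t, D.dT c) := by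
  obtain ⟨s, rfl⟩ : ∃ s, t = s + 1 := ⟨t - 1, by omega⟩
  rw [← Equiv.prod_comp (Fin.insertNthEquiv (fun _ => Fin k) (0 : Fin (s + 1))), Fintype.prod_prod_type]
  have e : ∀ p w, D.dT ((Fin.insertNthEquiv (fun _ => Fin k) (0 : Fin (s + 1))) (p, w)) = D.d p * D.dT w := by
    intro p w
    show D.dT (ins 0 p w) = _
    rw [D.dT_split 0, ins_at, ins_rest]
  simp only [e, Finset.prod_mul_distrib, Finset.prod_const, Finset.card_univ, Finset.prod_pow,
    Fintype.card_pi, Fintype.card_fin]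
  obtain ⟨r, hr⟩ : Even (k ^ s) := (Nat.even_pow' (by omega)).2 hke
  obtain ⟨r', hr'⟩ := hke
  refine ⟨(∏ p, D.d p) ^ r * (∏ w : Idx k s, D.dT w) ^ r', ?_⟩
  rw [hr]
  rw [show (∏ w : Idx k s, D.dT w) ^ k = (∏ w : Idx k s, D.dT w) ^ r' * (∏ w : Idx k s, D.dT w) ^ r' by
    rw [← pow_add, ← hr'], pow_add]
  ring

theorem rW_mem_omV [Fintype F] (hk : 4 ≤ k) (hke : Even k) (ht : 2 ≤ t) (i : Fin (t + 1))
    {u : Fin k → F} (hu : D.qW u ≠ 0) : fu i (D.rW u) ∈ D.omV (t + 1) := by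
  have h2 : 2 ≤ Fintype.card (Idx k (t + 1)) := by
    simp only [Fintype.card_pi, Fintype.card_fin, Finset.prod_const, Finset.card_univ]
    have : k ≤ k ^ (t + 1) := Nat.le_self_pow (by omega) k
    omega
  have hh := (Orth.refl_prod_mem_omega_iff (D.space (t + 1)) D.h2 h2 _ (D.reflList_ne i hu)
    ⟨fu i (D.rW u), D.fu_mem_isoV (D.iso_rW hu) i⟩ (D.reflList_val i hu).symm).2
    ⟨by
      rw [reflList, List.length_map, Finset.length_toList, Finset.card_univ, Fintype.card_pi_const, Fintype.card_fin]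
      exact (Nat.even_pow' (by omega)).2 hke, by
      rw [D.reflList_prod i u]
      obtain ⟨r, hr⟩ : Even (k ^ t) := (Nat.even_pow' (by omega)).2 hke
      exact IsSquare.mul ⟨D.qW u ^ r, by rw [hr, pow_add]⟩ (D.prod_dT_square hke ht)⟩
  exact ⟨_, hh, rfl⟩

theorem rW_mul_mem_omV [Fintype F] (hk : 4 ≤ k) (hke : Even k) (ht : 1 ≤ t) (i : Fin (t + 1))
    {u v : Fin k → F} (hu : D.qW u ≠ 0) (hv : D.qW v ≠ 0) : fu i (D.rW u * D.rW v) ∈ D.omV (t + 1) := by
  have h2 : 2 ≤ Fintype.card (Idx k (t + 1)) := by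
    simp only [Fintype.card_pi, Fintype.card_fin, Finset.prod_const, Finset.card_univ]
    have : k ≤ k ^ (t + 1) := Nat.le_self_pow (by omega) k
    omega
  obtain ⟨r, hr⟩ : Even (k ^ t) := (Nat.even_pow' (by omega)).2 hke
  have hne : ∀ w ∈ reflList i u ++ reflList i v, D.quadT (t + 1) w ≠ 0 := fun w hw => by
    rcases List.mem_append.1 hw with h | h
    · exact D.reflList_ne i hu w h
    · exact D.reflList_ne i hv w h
  have hh := (Orth.refl_prod_mem_omega_iff (D.space (t + 1)) D.h2 h2 _ hne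
    ⟨fu i (D.rW u * D.rW v), by
      rw [map_mul]; exact mul_mem (D.fu_mem_isoV (D.iso_rW hu) i) (D.fu_mem_isoV (D.iso_rW hv) i)⟩
    (by
      rw [List.map_append, List.prod_append, D.reflList_val i hu, D.reflList_val i hv]
      exact congrArg Units.val (map_mul (fu i) _ _))).2
    ⟨by simp [reflList, parity_simps], by
      rw [List.map_append, List.prod_append, D.reflList_prod i u, D.reflList_prod i v]
      exact ⟨D.qW u ^ r * D.qW v ^ r * ∏ c : Idx k t, D.dT c, by rw [hr, pow_add, pow_add]; ring⟩⟩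
  exact ⟨_, hh, rfl⟩

theorem perm_mem_omV (σ τ : Equiv.Perm (Fin t)) : (permGL ⁅σ, τ⁆ : GL (Idx k t) F) ∈ D.omV t := by
  rw [omV_eq, map_commutatorElement]
  exact Subgroup.commutator_mem_commutator (D.permGL_mem_isoV σ) (D.permGL_mem_isoV τ)

/-- The hypotheses on the factor. -/
structure Good : Prop where
  hk : 4 ≤ k
  hke : Even k
  np : 5 ≤ k ∨ ∀ a b, D.formW a a = 0 → D.formW b b = 0 → D.formW a b = 0 → a ≠ 0 → b ∈ Submodule.span F {a}

/-- A group of isometries containing the stabiliser's part of the derived group. -/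
structure Hyp (G : Subgroup (GL (Idx k t) F)) : Prop where
  le : G ≤ D.isoV t
  mem : mst k t F ⊓ D.omV t ≤ G

namespace Hyp

variable {D} {G : Subgroup (GL (Idx k (t + 1)) F)} (hG : D.Hyp G)
include hG

theorem siegel (hD : D.Good) (i : Fin (t + 1)) {x a : Fin k → F} (hx : D.formW x x = 0)
    (hxa : D.formW x a = 0) : fu i (D.uW x a) ∈ G :=
  hG.mem ⟨fu_mem_mst i _, D.uW_mem_omV hD.hk i hx hxa⟩

theorem root (hD : D.Good) (i : Fin (t + 1)) {g : GL (Fin k) F}
    (hg : g ∈ Orth.Root (qf D.formW) D.formW ⊤) : fu i g ∈ G :=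
  (show Orth.Root (qf D.formW) D.formW ⊤ ≤ G.comap (fu i) from (Subgroup.closure_le _).2 fun _ h => by
    obtain ⟨u, a, -, -, hu, hua, rfl⟩ := h
    exact hG.siegel hD i (D.qW_zero.1 hu) hua) hg

theorem refl [Fintype F] (hD : D.Good) (ht : 2 ≤ t) (i : Fin (t + 1)) {u : Fin k → F} (hu : D.qW u ≠ 0) :
    fu i (D.rW u) ∈ G :=
  hG.mem ⟨fu_mem_mst i _, D.rW_mem_omV hD.hk hD.hke ht i hu⟩

theorem refl2 [Fintype F] (hD : D.Good) (ht : 1 ≤ t) (i : Fin (t + 1)) {u v : Fin k → F}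
    (hu : D.qW u ≠ 0) (hv : D.qW v ≠ 0) : fu i (D.rW u * D.rW v) ∈ G :=
  hG.mem ⟨fu_mem_mst i _, D.rW_mul_mem_omV hD.hk hD.hke ht i hu hv⟩

theorem perm (σ τ : Equiv.Perm (Fin (t + 1))) : (permGL ⁅σ, τ⁆ : GL (Idx k (t + 1)) F) ∈ G :=
  hG.mem ⟨permGL_mem_mst _, D.perm_mem_omV σ τ⟩

/-- The part in the other factors. -/
theorem comap_psiU (i : Fin (t + 1)) (hk : 0 < k) : D.Hyp (G.comap (psiU i)) := by
  refine ⟨fun Y hY => ?_, fun Y hY => hG.mem ⟨psiU_mem_mst i hY.1, D.psiU_mem_omV i hY.2⟩⟩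
  have h := D.mem_isoV.1 (hG.le hY)
  rw [psiU_val, adT_psi, ← map_mul, ← map_one (psi i)] at h
  exact D.mem_isoV.2 (psi_injective hk i h)

end Hyp

variable {D}

/-- The conjugate of the group by an element of the stabiliser. -/
theorem Hyp.conj {G : Subgroup (GL (Idx k t) F)} (hG : D.Hyp G) {h : GL (Idx k t) F} (hm : h ∈ mst k t F)
    (hi : h ∈ D.isoV t) : D.Hyp (G.map (MulAut.conj h).toMonoidHom) := by
  refine ⟨?_, fun w hw => ⟨h⁻¹ * w * h, hG.mem ⟨(mst k t F).mul_mem ((mst k t F).mul_mem ((mst k t F).inv_mem hm) hw.1) hm, ?_⟩, by simp [mul_assoc]⟩⟩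
  · rintro _ ⟨g, hg, rfl⟩
    exact D.conj_iso hi (hG.le hg)
  · have := D.conj_omV (g := h⁻¹) (fun x hx => D.conj_iso (inv_mem hi) hx) hw.2
    simpa using this

end Dia

end Cfsg.Lib.Linear.OTWreath
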