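import Cfsg.Agent.Lib.Linear.OTWreath.Free
import Cfsg.Agent.Lib.Linear.OTPow.Orbit

/-!
# A group without long elements lies in the stabiliser

The sum of the translates of the invariant form of degree four, other than itself, is symmetric and
skew in the first two arguments, hence zero; so the form is invariant.
-/

set_option autoImplicit false
set_option linter.unusedSectionVars false
set_option linter.unusedSimpArgs false
set_option linter.unusedVariables false
set_option linter.style.haveILetI false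
set_option maxSynthPendingDepth 3

namespace Cfsg.Lib.Linear.OTWreath

open Module Cfsg.Geo Cfsg.Lib.Linear.AschGen Cfsg.Lib.Linear.TWreath
open Cfsg.Lib.Linear.OWreath (tens tens_apply)
open Cfsg.Lib.Linear.OOTensor (qf Ten)
open Cfsg.Lib.Linear.OOTensor.Square (Four4 pull pull_apply pull_mul pull_one four_ext)
open Cfsg.Lib.Linear.Orth (sGL perp2 mem_perp2)
open Cfsg.Lib.Linear.OTPow (Fm bT qT tau wd rk Sk pop phi4 orb rest mem_orb rest_apply Cls cls_ext pv pv_split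
  PolyLe PolyVec)
open scoped Matrix MatrixGroups

variable {F : Type*} [Field F] {k m t : ℕ}

namespace Dia

variable {D : Dia k F}

theorem fm (D : Dia k F) : Fm D.formW 1 := ⟨D.h2, D.formW_symm, D.formW_nondeg, one_ne_zero⟩

theorem bT_eq (D : Dia k F) (n : ℕ) : bT D.formW 1 n = D.formT n := by
  classical
  refine LinearMap.ext fun v => LinearMap.ext fun w => ?_
  rw [OTPow.bT_apply, one_mul, formT_apply]
  refine Finset.sum_congr rfl fun a _ => ?_
  rw [Finset.sum_eq_single a]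
  · have e : ∀ l, OTPow.gram D.formW (a l) (a l) = D.d (a l) := fun l => by
      rw [OTPow.gram_apply, formW_single, Pi.single_eq_same, mul_one]
    simp only [e, dT]
    ring
  · intro b _ hb
    obtain ⟨l, hl⟩ := Function.ne_iff.1 hb
    rw [Finset.prod_eq_zero (Finset.mem_univ l) (by
      rw [OTPow.gram_apply, formW_single, Pi.single_eq_of_ne (Ne.symm hl), mul_zero]), mul_zero, zero_mul]
  · exact fun h => absurd (Finset.mem_univ _) h

theorem qT_eq (D : Dia k F) (n : ℕ) : qT D.formW 1 n = D.quadT n := by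
  show qf (bT D.formW 1 n) = qf (D.formT n)
  rw [bT_eq]

theorem iso_qT {n : ℕ} {g : GL (Idx k n) F} (h : g ∈ D.isoV n) :
    g ∈ isometryGroup F (qT D.formW 1 n) := by
  rw [qT_eq]; exact h

theorem wd_eq (D : Dia k F) (x a : Fin k → F) : wd D.formW x a = D.nW x a := Orth.mat_ext fun v => by
  rw [OTPow.wd_mulVec, nW_mulVec]

/-- A nilpotent skew map moves at least a plane. -/
theorem skew_ker_bound (hD : D.Good) {S : Matrix (Fin k) (Fin k) F} (hS : Sk D.formW S) (hA : IsNilpotent S)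
    (h0 : S ≠ 0) :
    finrank F (LinearMap.ker (Matrix.mulVecLin S)) + 2 ≤ k ∧
      (finrank F (LinearMap.ker (Matrix.mulVecLin S)) + 2 = k →
        ¬ LinearMap.ker (Matrix.mulVecLin S) ≤ LinearMap.range (Matrix.mulVecLin S)) := by
  have C := D.spaceW
  set L := Matrix.mulVecLin S with hL
  have hLv : ∀ v, L v = S *ᵥ v := fun v => rfl
  have hrk := L.finrank_range_add_finrank_ker
  rw [finrank_fintype_fun_eq_card, Fintype.card_fin] at hrk
  have hperp : ∀ v w, L w = 0 → D.formW (L v) w = 0 := fun v w hw => by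
    rw [hLv] at hw
    rw [hLv, hS v w, hw, map_zero, neg_zero]
  refine ⟨?_, ?_⟩
  · by_contra hgt
    obtain ⟨v₀, hv₀⟩ : ∃ v, L v ≠ 0 := by
      by_contra h
      push Not at h
      exact h0 (Orth.mat_ext fun v => by rw [Matrix.zero_mulVec, ← hLv]; exact h v)
    have h1 : finrank F (LinearMap.range L) ≤ 1 := by omega
    have hline : ∀ v, ∃ c : F, c • L v₀ = L v := fun v => by
      have hspan : LinearMap.range L = Submodule.span F {L v₀} :=
        (Submodule.eq_of_le_of_finrank_le (Submodule.span_le.2 (by simp))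
          (by rw [finrank_span_singleton hv₀]; exact h1)).symm
      exact Submodule.mem_span_singleton.1 (hspan ▸ LinearMap.mem_range_self L v)
    choose c hc using hline
    set u := L v₀ with hu
    have hLu : L u = 0 := by
      obtain ⟨j, hj⟩ := hA
      have hpow : ∀ n : ℕ, (S ^ n) *ᵥ u = c u ^ n • u := by
        intro n
        induction n with
        | zero => simp
        | succ n ih =>
          rw [pow_succ', ← Matrix.mulVec_mulVec, ih, Matrix.mulVec_smul, pow_succ, ← smul_smul]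
          congr 1
          exact (hc u).symm
      have h2 := hpow j
      rw [hj, Matrix.zero_mulVec, eq_comm, smul_eq_zero] at h2
      rw [← hc u, (pow_eq_zero_iff').1 (h2.resolve_right hv₀) |>.1, zero_smul]
    have hsk : ∀ v w, c v * D.formW u w + c w * D.formW v u = 0 := fun v w => by
      have h1 := hS v w
      rw [← hLv, ← hLv, ← hc v, ← hc w] at h1
      simp only [map_smul, LinearMap.smul_apply, smul_eq_mul] at h1
      linear_combination h1
    obtain ⟨y, hy⟩ := C.exists_pair hv₀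
    have hyy := hsk y y
    rw [hy, D.formW_symm y u, hy] at hyy
    have hcy : c y = 0 := (mul_eq_zero.1 (show (2 : F) * c y = 0 by linear_combination hyy)).resolve_left D.h2
    have h3 := hsk v₀ y
    rw [hy, hcy, zero_mul, add_zero, mul_one] at h3
    exact hv₀ ((hc v₀).symm.trans (by rw [h3, zero_smul]))
  · intro heq hle
    have h2 : k ≤ 4 := by
      have := Submodule.finrank_mono hle
      omega
    have hnp := hD.np.resolve_left (by omega)
    have hkk : ∀ v w, v ∈ LinearMap.ker L → w ∈ LinearMap.ker L → D.formW v w = 0 := fun v w hv hw => by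
      obtain ⟨v', rfl⟩ := hle hv
      exact hperp v' w (LinearMap.mem_ker.1 hw)
    have hbot : LinearMap.ker L ≠ ⊥ := fun h => by rw [h, finrank_bot] at heq; have := hD.hk; omega
    obtain ⟨v, hv, hv0⟩ := Submodule.exists_mem_ne_zero_of_ne_bot hbot
    have h4 : LinearMap.ker L ≤ Submodule.span F {v} := fun w hw =>
      hnp v w (hkk v v hv hv) (hkk w w hw hw) (hkk v w hv hw) hv0
    have := Submodule.finrank_mono h4
    rw [finrank_span_singleton hv0] at this
    have := hD.hk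
    omega

theorem sk_pow {S : Matrix (Fin k) (Fin k) F} (hS : Sk D.formW S) {n : ℕ} (hn : Odd n) :
    Sk D.formW (S ^ n) := by
  have key : ∀ (n : ℕ) v w, D.formW ((S ^ n) *ᵥ v) w = (-1) ^ n * D.formW v ((S ^ n) *ᵥ w) := by
    intro n
    induction n with
    | zero => intro v w; simp
    | succ n ih =>
      intro v w
      rw [pow_succ, ← Matrix.mulVec_mulVec, ih, hS, Matrix.mulVec_mulVec, ← pow_succ, ← pow_succ']
      ring
  intro v w
  rw [key, hn.neg_one_pow, neg_one_mul]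

/-- A sum of skew maps of the factors vanishes only trivially. -/
theorem sum_fa_zero (hk : 0 < k) {S : Fin (t + 1) → Matrix (Fin k) (Fin k) F} (hS : ∀ l, Sk D.formW (S l))
    (h0 : ∑ l, fa l (S l) = 0) (l : Fin (t + 1)) : S l = 0 := by
  have h : ∀ A, A * S l = S l * A := fun A => sub_eq_zero.1 (fa_injective hk l (by
    rw [← OTPow.com_comm, h0, mul_zero, zero_mul, sub_zero, map_zero]))
  obtain ⟨r, hr⟩ := Matrix.mem_range_scalar_of_commute_single (M := S l) (fun p q _ => h (Matrix.single p q 1))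
  exact OTPow.Sk.scalar_zero D.fm hk (hS l) (r := r)
    (by rw [← hr, Matrix.scalar_apply, Matrix.smul_one_eq_diagonal])

theorem ctr_fa {S : Matrix (Fin k) (Fin k) F} (hS : Sk D.formW S) (l : Fin (t + 1)) (u : Fin k → F)
    (v : Idx k (t + 1) → F) : (D.ten l).ctr u (fa l S *ᵥ v) = -(D.ten l).ctr (S *ᵥ u) v := by
  refine LinearMap.congr_fun ((D.ten l).hom_ext (f := (D.ten l).ctr u ∘ₗ Matrix.mulVecLin (fa l S))
    (g := -(D.ten l).ctr (S *ᵥ u)) fun a w => ?_) v
  rw [LinearMap.comp_apply, Matrix.mulVecLin_apply, LinearMap.neg_apply, OWreath.fa_tens, (D.ten l).ctr_tau,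
    (D.ten l).ctr_tau, hS w u, neg_smul]

theorem ctr_psi (l : Fin (t + 1)) (W : Matrix (Idx k t) (Idx k t) F) (u : Fin k → F)
    (v : Idx k (t + 1) → F) : (D.ten l).ctr u (psi l W *ᵥ v) = W *ᵥ (D.ten l).ctr u v := by
  refine LinearMap.congr_fun ((D.ten l).hom_ext (f := (D.ten l).ctr u ∘ₗ Matrix.mulVecLin (psi l W))
    (g := Matrix.mulVecLin W ∘ₗ (D.ten l).ctr u) fun a w => ?_) v
  rw [LinearMap.comp_apply, LinearMap.comp_apply, Matrix.mulVecLin_apply, Matrix.mulVecLin_apply,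
    OWreath.psi_tens, (D.ten l).ctr_tau, (D.ten l).ctr_tau, Matrix.mulVec_smul]

/-- A nilpotent sum of skew maps with a small displacement has one term. -/
theorem one_term [Fintype F] (hD : D.Good) {S : Fin (t + 1) → Matrix (Fin k) (Fin k) F}
    (hS : ∀ l, Sk D.formW (S l)) (h3 : (∑ l, fa l (S l)) ^ 3 = 0)
    (hr : (∑ l, fa l (S l)).rank = k ^ t * 2) : ∃ l, ∀ m, m ≠ l → S m = 0 := by
  classical
  have hk0 : 0 < k := by have := hD.hk; omega
  haveI : Nonempty (Idx k (t + 1)) := ⟨fun _ => ⟨0, hk0⟩⟩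
  obtain ⟨p, hch⟩ := CharP.exists F
  haveI := hch
  haveI : Fact p.Prime := ⟨(CharP.char_is_prime_or_zero F p).resolve_right (CharP.char_ne_zero_of_finite F p)⟩
  haveI : CharP (Matrix (Idx k (t + 1)) (Idx k (t + 1)) F) p :=
    charP_of_injective_algebraMap (RingHom.injective (algebraMap F _)) p
  haveI : CharP (Matrix (Fin k) (Fin k) F) p := by
    haveI : Nonempty (Fin k) := ⟨⟨0, hk0⟩⟩
    exact charP_of_injective_algebraMap (RingHom.injective (algebraMap F _)) p
  have hp : 3 ≤ p := by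
    have h2 := (Fact.out (p := p.Prime)).two_le
    rcases eq_or_lt_of_le h2 with rfl | h
    · exact absurd (by exact_mod_cast CharP.cast_eq_zero F 2) D.h2
    · exact h
  have hodd : Odd p := (Fact.out (p := p.Prime)).odd_of_ne_two (by omega)
  have hfr : ∀ s : Finset (Fin (t + 1)), (∑ l ∈ s, fa l (S l)) ^ p = ∑ l ∈ s, fa l (S l ^ p) := by
    intro s
    induction s using Finset.induction_on with
    | empty => simp [zero_pow (Fact.out (p := p.Prime)).ne_zero]
    | insert a s ha ih =>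
      rw [Finset.sum_insert ha, Finset.sum_insert ha,
        add_pow_char_of_commute p (Commute.sum_right s _ _ fun l hl => fa_comm (fun e => ha (by rw [e]; exact hl)) _ _), ih,
        map_pow]
  have hnil : ∀ l, IsNilpotent (S l) := fun l => ⟨p, by
    refine sum_fa_zero hk0 (fun l => sk_pow (hS l) hodd) ?_ l
    rw [← hfr, ← Nat.sub_add_cancel hp, pow_add, h3, mul_zero]⟩
  by_contra hno
  push Not at hno
  obtain ⟨l, hl⟩ : ∃ l, S l ≠ 0 := by
    obtain ⟨m, -, hm⟩ := hno 0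
    exact ⟨m, hm⟩
  obtain ⟨m, hml, hm⟩ := hno l
  have T := D.ten l
  set Z := ∑ l, fa l (S l) with hZ
  obtain ⟨W, hW⟩ := exists_psi hk0 l (Φ := Z - fa l (S l)) (by
    intro X
    rw [hZ, ← Finset.sum_erase_eq_sub (Finset.mem_univ l)]
    exact Commute.sum_right _ _ _ fun j hj => fa_comm (Ne.symm (Finset.ne_of_mem_erase hj)) _ _)
  have hW0 : Matrix.mulVecLin W ≠ 0 := fun h => by
    have hW' : W = 0 := Orth.mat_ext fun v => by rw [Matrix.zero_mulVec]; exact LinearMap.congr_fun h v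
    rw [hW', map_zero, eq_comm, hZ, ← Finset.sum_erase_eq_sub (Finset.mem_univ l)] at hW
    refine hm ?_
    have h1 := sum_fa_zero hk0 (S := fun j => if j = l then 0 else S j) (fun j => by
      by_cases hj : j = l
      · simp only [if_pos hj]; intro v w; simp
      · simp only [if_neg hj]; exact hS j) (by
        rw [← hW, ← Finset.sum_erase_add _ _ (Finset.mem_univ l), if_pos rfl, map_zero, add_zero]
        exact Finset.sum_congr rfl fun j hj => by rw [if_neg (Finset.ne_of_mem_erase hj)]) m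
    rwa [if_neg hml] at h1
  have hWnil : IsNilpotent (Matrix.mulVecLin W) := by
    have hc : Commute (fa l (S l)) (psi l W) := com_psi l W (S l)
    have h1 : psi l W = Z - fa l (S l) := hW
    have hZn : IsNilpotent Z := ⟨3, h3⟩
    have hSn : IsNilpotent (fa l (S l) : Matrix (Idx k (t + 1)) (Idx k (t + 1)) F) := (hnil l).map _
    have hcz : Commute Z (fa l (S l)) := by
      rw [show Z = fa l (S l) + psi l W by rw [h1, add_sub_cancel]]
      exact (Commute.refl _).add_left hc.symm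
    obtain ⟨n, hn⟩ : IsNilpotent (psi l W) := h1 ▸ hcz.isNilpotent_sub hZn hSn
    have hn' : W ^ n = 0 := psi_injective hk0 l (by rw [map_pow, hn, map_zero])
    obtain ⟨n', hn''⟩ := (show IsNilpotent W from ⟨n, hn'⟩).map Matrix.toLinAlgEquiv'
    exact ⟨n', hn''⟩
  let X : (Idx k (t + 1) → F) →ₗ[F] ((Fin k → F) →ₗ[F] (Idx k t → F)) := T.ctr.flip
  have hXinj : Function.Injective X := fun v w h => T.eq_of_ctr fun z => LinearMap.congr_fun h z
  set Fx := LinearMap.ker (Matrix.mulVecLin Z)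
  have hFx : finrank F Fx + k ^ t * 2 = k * k ^ t := by
    have := (Matrix.mulVecLin Z).finrank_range_add_finrank_ker
    rw [finrank_fintype_fun_eq_card, Fintype.card_pi_const, Fintype.card_fin, pow_succ'] at this
    rw [show finrank F (LinearMap.range (Matrix.mulVecLin Z)) = k ^ t * 2 from hr] at this
    change k ^ t * 2 + finrank F Fx = _ at this
    omega
  obtain ⟨hb2, hbs⟩ := skew_ker_bound hD (hS l) (hnil l) hl
  have hlt := intertwine_lt (Matrix.mulVecLin (S l)) hWnil hW0 (r := k - 2) (by omega) (fun h => hbs (by omega))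
    (by have := hD.hk; omega) (Fx.map X) (by
      rintro _ ⟨v, hv, rfl⟩ w
      have hZv : Z *ᵥ v = 0 := LinearMap.mem_ker.1 hv
      have h1 := congrArg (T.ctr w) hZv
      rw [map_zero, show Z = fa l (S l) + psi l W by rw [hW, add_sub_cancel], Matrix.add_mulVec, map_add,
        ctr_fa (hS l), ctr_psi, neg_add_eq_zero] at h1
      exact h1)
  rw [← LinearEquiv.finrank_eq (Submodule.equivMapOfInjective X hXinj Fx), finrank_fintype_fun_eq_card,
    Fintype.card_pi_const, Fintype.card_fin, Nat.sub_mul] at hlt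
  have := mul_comm (k ^ t) 2
  omega

variable [Fintype F] {s : ℕ} {G : Subgroup (GL (Idx k (s + 2)) F)} (hG : D.Hyp G) (hD : D.Good)
  (hlose : ∀ i, D.Lose G i)
  (IH : ∀ K : Subgroup (GL (Idx k (s + 1)) F), D.Hyp K → K ≤ mst k (s + 1) F ∨ D.omV (s + 1) ≤ K)
include hG hD hlose IH

/-- An element fixing the form permutes the factors. -/
theorem Hyp.stab_phi {g : GL (Idx k (s + 2)) F} (hg : g ∈ G)
    (hfix : pull g (phi4 D.formW 1) = phi4 D.formW 1) : g ∈ mst k (s + 2) F := by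
  have hk := hD.hk
  have hk0 : 0 < k := by omega
  obtain ⟨x, hx, hx0⟩ := D.exists_sing hk
  obtain ⟨m, f, e, H, -⟩ := D.exists_frame hk hx hx0
  set b : Fin m := ⟨0, by have := H.two; omega⟩
  set a := e b
  set i : Fin (s + 2) := 0
  set N := D.nW x a with hN
  obtain ⟨a₀, ha₀, hP⟩ := OTPow.pop_pieces D.fm hk0 i
  set S : Fin (s + 2) → Matrix (Fin k) (Fin k) F := fun l =>
    (bT D.formW 1 (s + 1) a₀ a₀)⁻¹ • OTPow.jop D.formW 1 l (g.val *ᵥ tau i a₀ x) (g.val *ᵥ tau i a₀ a)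
  have hS : ∀ l, Sk D.formW (S l) := fun l => (OTPow.sk_jop D.fm l _ _).smul _
  have hSe : conjA g (fa i N) = ∑ l, fa l (S l) := by
    simp only [S, map_smul, ← Finset.smul_sum]
    rw [← OTPow.pop_apply, OTPow.pop_of_fix D.fm (iso_qT (hG.le hg)) hfix, hP, map_smul, smul_smul,
      inv_mul_cancel₀ ha₀, one_smul, wd_eq]
  have hN3 : N ^ 3 = 0 := by
    rw [pow_succ, sq, D.nW_mul H.xx (H.xe b) (H.xe b), smul_mul_assoc, D.sW_mul_nW H.xx (H.xe b), smul_zero]
  have hNr : N.rank = 2 := by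
    have hu := (rank_uW H.xx H.x0 (H.xe b) (H.qe b)).1
    rw [← hu, D.uW_val H.qx (H.xe b)]
    have e : N * (1 + (2 : F)⁻¹ • N) = D.nW x a - qf D.formW a • D.sW x := by
      rw [mul_add, mul_one, mul_smul_comm, D.nW_mul H.xx (H.xe b) (H.xe b), smul_smul, hN, qf, mul_neg,
        neg_smul, sub_eq_add_neg]
    have e' : (D.nW x a - qf D.formW a • D.sW x) * (1 - (2 : F)⁻¹ • N) = N := by
      rw [sub_mul, mul_sub, mul_sub, mul_one, mul_one, hN, mul_smul_comm, mul_smul_comm, smul_mul_assoc,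
        D.nW_mul H.xx (H.xe b) (H.xe b), D.sW_mul_nW H.xx (H.xe b), smul_zero, smul_zero, sub_zero, smul_smul,
        qf, mul_neg, neg_smul, sub_neg_eq_add, add_sub_cancel_right]
    rw [add_sub_assoc, add_sub_cancel_left]
    refine le_antisymm ?_ ?_
    · conv_lhs => rw [← e']
      exact Matrix.rank_mul_le_left _ _
    · conv_lhs => rw [← e]
      exact Matrix.rank_mul_le_left _ _
  obtain ⟨l, hl⟩ := one_term hD hS
    (by rw [← hSe, ← map_pow, ← map_pow, hN3, map_zero, map_zero])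
    (by rw [← hSe, rank_conjA, rank_fa i D, hNr])
  rw [Finset.sum_eq_single l (fun j _ hj => by rw [hl j hj, map_zero])
    (fun h => absurd (Finset.mem_univ _) h)] at hSe
  have h3 : S l ^ 3 = 0 := fa_injective hk0 l (by rw [map_pow, ← hSe, ← map_pow, ← map_pow, hN3, map_zero, map_zero, map_zero])
  set M := (2 : F)⁻¹ • (S l * S l) with hM
  have h4 : S l * (S l * S l) = 0 := by rw [← h3, pow_succ', sq]
  have hinv : (1 + S l + M) * (1 - S l + M) = 1 := by
    have h5 : S l * S l * S l = 0 := by rw [mul_assoc, h4]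
    simp only [hM, add_mul, mul_add, mul_sub, sub_mul, one_mul, mul_one, smul_mul_assoc, mul_smul_comm, h4, h5,
      show S l * S l * (S l * S l) = 0 by rw [← mul_assoc, h5, zero_mul], smul_zero, add_zero, sub_zero]
    have := D.h2
    match_scalars <;> field_simp <;> ring
  let bU : GL (Fin k) F := ⟨1 + S l + M, 1 - S l + M, hinv, mul_eq_one_comm.1 hinv⟩
  have hy : g * fu i (D.uW x a) * g⁻¹ = fu l bU := Units.ext (by
    show conjA g (fa i (D.uW x a).val) = fa l (1 + S l + M)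
    have e : (D.uW x a).val = 1 + N + (2 : F)⁻¹ • (N * N) := by
      rw [D.uW_val H.qx (H.xe b), D.nW_mul H.xx (H.xe b) (H.xe b), smul_smul, hN, qf, mul_neg, neg_smul,
        sub_eq_add_neg]
    rw [e, hM]
    simp only [map_add, map_one, map_smul, map_mul, hSe])
  have := hG.free hD hlose IH (i := i) H.xx H.x0 (H.xe b) (H.qe b) (inv_mem hg)
    (by rw [inv_inv, hy]; exact fu_mem_mst l bU)
  simpa using (mst _ _ F).inv_mem this

/-- Two vectors spanning an anisotropic plane orthogonal to a hyperbolic pair. -/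
structure Pl (D : Dia k F) (x f a₁ a₂ : Fin k → F) : Prop where
  hyp : Orth.Hyp (qf D.formW) D.formW ⊤ x f
  m1 : a₁ ∈ perp2 D.formW ⊤ x f
  m2 : a₂ ∈ perp2 D.formW ⊤ x f
  an : ∀ r : Fin 2 → F, D.qW (r 0 • a₁ + r 1 • a₂) = 0 → r = 0

omit hG hD hlose IH in
theorem Pl.flip {x f a₁ a₂ : Fin k → F} (P : Pl D x f a₁ a₂) : Pl D f x a₁ a₂ :=
  ⟨OTPow.hyp_flip D.fm P.hyp, by rw [OTPow.perp_flip D.fm]; exact P.m1,
    by rw [OTPow.perp_flip D.fm]; exact P.m2, P.an⟩

omit hlose IH hG in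
theorem exists_pl : ∃ x f a₁ a₂, Pl D x f a₁ a₂ := by
  classical
  obtain ⟨x, hx, hx0⟩ := D.exists_sing hD.hk
  obtain ⟨m, f, e, H, hm⟩ := D.exists_frame hD.hk hx hx0
  set b₀ : Fin m := ⟨0, by have := H.two; omega⟩
  obtain ⟨b₁, h01⟩ := H.other b₀
  rcases hD.np with h5 | hnp
  · obtain ⟨b₂, h20, h21⟩ := TWreath.exists_third (m := m) (by omega) b₀ b₁
    obtain ⟨ν, hν⟩ := FiniteField.exists_nonsquare (F := F) (fun h => D.h2 (by
      haveI := ringChar.charP F
      have h' : ((2 : ℕ) : F) = 0 := by rw [← h]; exact CharP.cast_eq_zero F _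
      simpa using h'))
    obtain ⟨r, s', hrs⟩ := rep_two D.h2 (H.ne b₁) (H.ne b₂) (-(ν * D.formW (e b₀) (e b₀)))
    refine ⟨x, f, e b₀, r • e b₁ + s' • e b₂, H.hyp, H.mem_perp b₀,
      add_mem (Submodule.smul_mem _ _ (H.mem_perp b₁)) (Submodule.smul_mem _ _ (H.mem_perp b₂)), fun c hc => ?_⟩
    rw [qW_zero] at hc
    simp only [map_add, map_smul, LinearMap.add_apply, LinearMap.smul_apply, smul_eq_mul,
      H.orth b₀ b₁ h01.symm, H.orth b₀ b₂ h20.symm, H.orth b₁ b₀ h01, H.orth b₂ b₀ h20,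
      H.orth b₁ b₂ h21.symm, H.orth b₂ b₁ h21, mul_zero, add_zero, zero_add] at hc
    have h1 : c 0 * c 0 = ν * (c 1 * c 1) :=
      mul_right_cancel₀ (H.ne b₀) (by linear_combination hc - (c 1 * c 1) * hrs)
    by_cases hc1 : c 1 = 0
    · rw [hc1, mul_zero, mul_zero, mul_self_eq_zero] at h1
      funext j
      fin_cases j <;> assumption
    · exact absurd ⟨c 0 / c 1, by field_simp; linear_combination -h1⟩ hν
  · refine ⟨x, f, e b₀, e b₁, H.hyp, H.mem_perp b₀, H.mem_perp b₁, fun c hc => ?_⟩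
    rw [qW_zero] at hc
    have hxw : D.formW x (c 0 • e b₀ + c 1 • e b₁) = 0 := by simp [H.xe]
    obtain ⟨r, hr⟩ := Submodule.mem_span_singleton.1 (hnp x _ H.xx hc hxw H.x0)
    have h0 := congrArg (D.formW (e b₀)) hr
    have h1 := congrArg (D.formW (e b₁)) hr
    simp [H.ex, H.orth b₀ b₁ h01.symm, H.orth b₁ b₀ h01, H.ne] at h0 h1
    funext j
    fin_cases j
    · exact h0
    · exact h1

variable {x f a₁ a₂ : Fin k → F}

/-- The parametrisation of the plane. -/
def plv (a₁ a₂ : Fin k → F) : (Fin 2 → F) →ₗ[F] (Fin k → F) :=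
  (LinearMap.proj 0).smulRight a₁ + (LinearMap.proj 1).smulRight a₂

omit hG hD hlose IH in
theorem Pl.mem (P : Pl D x f a₁ a₂) (r : Fin 2 → F) : plv a₁ a₂ r ∈ perp2 D.formW ⊤ x f :=
  add_mem (Submodule.smul_mem _ _ P.m1) (Submodule.smul_mem _ _ P.m2)

omit hG hD hlose IH in
theorem Pl.plv_ne (P : Pl D x f a₁ a₂) {r : Fin 2 → F} (hr : r ≠ 0) : D.qW (plv a₁ a₂ r) ≠ 0 :=
  fun h => hr (P.an r h)

/-- The Siegel elements of the plane act freely on the translates. -/
theorem orb_free (P : Pl D x f a₁ a₂) {i : Fin (s + 2)} {φ : Four4 (Idx k (s + 2)) F}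
    (hφ : φ ∈ orb D.formW 1 G) {r r' : Fin 2 → F}
    (h : pull (fu i (D.uW x (plv a₁ a₂ r))) φ = pull (fu i (D.uW x (plv a₁ a₂ r'))) φ) : r = r' := by
  by_contra hne
  have H := P.hyp
  have hxx : D.formW x x = 0 := D.qW_zero.1 H.singE
  have hx0 : x ≠ 0 := fun e => by simpa [e] using H.pair
  obtain ⟨hφne, X, hX, rfl⟩ := mem_orb.1 hφ
  have hm : ∀ c, D.formW x (plv a₁ a₂ c) = 0 := fun c => (mem_perp2.1 (P.mem c)).2.1
  have h1 := congrArg (pull (fu i (D.uW x (plv a₁ a₂ (-r'))))) h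
  rw [← pull_mul, ← pull_mul, ← pull_mul, ← pull_mul, ← map_mul, ← map_mul, D.uW_mul hxx (hm _) (hm _),
    D.uW_mul hxx (hm _) (hm _), ← map_add, ← map_add, add_neg_cancel, map_zero, D.uW_zero hxx, map_one, mul_one,
    ← sub_eq_add_neg] at h1
  set u := fu i (D.uW x (plv a₁ a₂ (r - r')))
  have hu : u ∈ G := hG.siegel hD i hxx (hm _)
  have hfix : pull (X * u * X⁻¹) (phi4 D.formW 1) = phi4 D.formW 1 := by
    rw [pull_mul, h1, ← pull_mul, mul_inv_cancel, pull_one]
  have hXm := hG.free hD hlose IH (i := i) hxx hx0 (hm _) (P.plv_ne (sub_ne_zero.2 hne)) (inv_mem hX)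
    (by rw [inv_inv]; exact hG.stab_phi hD hlose IH (mul_mem (mul_mem hX hu) (inv_mem hX)) hfix)
  exact hφne (OTPow.phi4_inv D.fm (by have := hD.hk; omega) (iso_qT (hG.le hX))
    (by simpa using (mst _ _ F).inv_mem hXm))

/-- A function summing to zero on every free orbit sums to zero on all translates. -/
theorem orb_sum_zero (P : Pl D x f a₁ a₂) (i : Fin (s + 2)) (E : Four4 (Idx k (s + 2)) F → F)
    (hE : ∀ φ, ∑ r : Fin 2 → F, E (pull (fu i (D.uW x (plv a₁ a₂ r))) φ) = 0) :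
    ∑ φ ∈ orb D.formW 1 G, E φ = 0 := by
  classical
  have hk0 : 0 < k := by have := hD.hk; omega
  have hxx : D.formW x x = 0 := D.qW_zero.1 P.hyp.singE
  have hm : ∀ c, D.formW x (plv a₁ a₂ c) = 0 := fun c => (mem_perp2.1 (P.mem c)).2.1
  set U : (Fin 2 → F) → GL (Idx k (s + 2)) F := fun r => fu i (D.uW x (plv a₁ a₂ r)) with hU
  have hUG : ∀ r, U r ∈ G := fun r => hG.siegel hD i hxx (hm r)
  have hUU : ∀ a b φ, pull (U b) (pull (U a) φ) = pull (U (a + b)) φ := fun a b φ => by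
    rw [← pull_mul, hU, ← map_mul, D.uW_mul hxx (hm a) (hm b), ← map_add]
  have hU0 : ∀ φ, pull (U 0) φ = φ := fun φ => by
    rw [hU]
    simp only [map_zero, D.uW_zero hxx, map_one, pull_one]
  have hfixU : ∀ a, pull (U a) (phi4 D.formW 1) = phi4 D.formW 1 := fun a =>
    OTPow.phi4_inv D.fm hk0 (iso_qT (hG.le (hUG a))) (fu_mem_mst i _)
  have hclosed : ∀ φ ∈ orb D.formW 1 G, ∀ a, pull (U a) φ ∈ orb D.formW 1 G := fun φ hφ a => by
    obtain ⟨hne, X, hX, rfl⟩ := mem_orb.1 hφ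
    refine mem_orb.2 ⟨fun h => hne ?_, X * U a, mul_mem hX (hUG a), pull_mul _ _ _⟩
    have h1 := congrArg (pull (U (-a))) h
    rwa [hUU, add_neg_cancel, hU0, hfixU] at h1
  have key : ∀ u : Finset (Four4 (Idx k (s + 2)) F), u ⊆ orb D.formW 1 G → (∀ φ ∈ u, ∀ a, pull (U a) φ ∈ u) →
      ∑ φ ∈ u, E φ = 0 := by
    intro u
    induction u using Finset.strongInductionOn with
    | _ u ih =>
      intro hsub hcl
      rcases u.eq_empty_or_nonempty with rfl | ⟨φ, hφ⟩
      · simp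
      have hinj : Function.Injective fun a : Fin 2 → F => pull (U a) φ := fun a b h =>
        orb_free hG hD hlose IH P (hsub hφ) h
      set O := (Finset.univ : Finset (Fin 2 → F)).image fun a => pull (U a) φ
      have hOs : O ⊆ u := fun ψ hψ => by
        obtain ⟨a, -, rfl⟩ := Finset.mem_image.1 hψ
        exact hcl φ hφ a
      have hlt : u \ O ⊂ u := Finset.sdiff_ssubset hOs
        ⟨φ, Finset.mem_image.2 ⟨0, Finset.mem_univ _, hU0 φ⟩⟩
      have h1 := ih _ hlt (Finset.sdiff_subset.trans hsub) fun ψ hψ a => by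
        obtain ⟨hψs, hψO⟩ := Finset.mem_sdiff.1 hψ
        refine Finset.mem_sdiff.2 ⟨hcl ψ hψs a, fun hm => hψO ?_⟩
        obtain ⟨b, -, hb⟩ := Finset.mem_image.1 hm
        refine Finset.mem_image.2 ⟨b + -a, Finset.mem_univ _, ?_⟩
        rw [← hUU, hb, hUU, add_neg_cancel, hU0]
      rw [← Finset.sum_sdiff hOs, h1, zero_add, Finset.sum_image hinj.injOn]
      exact hE φ
  exact key _ Finset.Subset.rfl hclosed

omit hG hD hlose IH in
/-- The top term of a moved vector. -/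
theorem slot_top (P : Pl D x f a₁ a₂) {d : ℕ} {w : Fin k → F} (hw : Cls D.formW x f d w) :
    ∃ (κ : (Fin 2 → F) → F) (M : (Fin 2 → F) → Fin k → F), PolyLe (Pi.basisFun F (Fin 2)) d κ ∧
      PolyVec (Pi.basisFun F (Fin 2)) (d - 1) M ∧ (d = 0 → ∀ r, M r = 0) ∧
      ∀ r, (D.uW x (plv a₁ a₂ r)).val *ᵥ w = κ r • x + M r := by
  set L := plv a₁ a₂
  have hxx : D.formW x x = 0 := D.qW_zero.1 P.hyp.singE
  have hm : ∀ c, D.formW x (L c) = 0 ∧ D.formW f (L c) = 0 := fun c => (mem_perp2.1 (P.mem c)).2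
  have act := fun c v => D.uW_mulVec hxx (hm c).1 v
  rcases hw with ⟨rfl, hwx⟩ | ⟨rfl, hw⟩ | ⟨rfl, hwf⟩
  · subst hwx
    refine ⟨fun _ => 1, fun _ => 0, PolyLe.const 1, PolyVec.const 0, fun _ _ => rfl, fun c => ?_⟩
    rw [act, hxx, D.formW_symm (L c), (hm c).1]
    simp
  · refine ⟨fun c => -D.formW w (L c), fun _ => w, (PolyLe.lin ((D.formW w) ∘ₗ L)).neg,
      PolyVec.const w, fun h => absurd h one_ne_zero, fun c => ?_⟩
    rw [act, (mem_perp2.1 hw).2.1, D.formW_symm (L c) w]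
    simp only [zero_smul, mul_zero, add_zero]
    module
  · subst hwf
    refine ⟨fun c => -D.qW (L c), fun c => w + L c, ?_, ?_, fun h => absurd h two_ne_zero, fun c => ?_⟩
    · have h1 : PolyLe (Pi.basisFun F (Fin 2)) 2 fun c => c 0 * D.formW a₁ (L c) + c 1 * D.formW a₂ (L c) :=
        ((PolyLe.lin (LinearMap.proj 0)).mul (PolyLe.lin ((D.formW a₁) ∘ₗ L))).add
          ((PolyLe.lin (LinearMap.proj 1)).mul (PolyLe.lin ((D.formW a₂) ∘ₗ L)))
      convert (h1.const_mul (2 : F)⁻¹).neg using 1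
      funext c
      rw [qW, qf]
      congr 2
      conv_lhs => arg 1; arg 2; simp [L, plv]
      simp only [map_add, map_smul, LinearMap.add_apply, LinearMap.smul_apply, smul_eq_mul]
    · exact (((PolyVec.const w).mono (Nat.zero_le 1)).add (PolyVec.lin L))
    · rw [act, P.hyp.pair, D.formW_symm (L c) w, (hm c).2]
      simp only [mul_one, zero_add, one_smul]
      module

/-- The difference of the two orders has no top term. -/
theorem swap_low (P : Pl D x f a₁ a₂) (i : Fin (s + 2)) {d₁ d₂ d₃ d₄ : ℕ} {w₁ w₂ w₃ w₄ : Fin k → F}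
    (h₁ : Cls D.formW x f d₁ w₁) (h₂ : Cls D.formW x f d₂ w₂) (h₃ : Cls D.formW x f d₃ w₃)
    (h₄ : Cls D.formW x f d₄ w₄) (hd : d₁ + d₂ + d₃ + d₄ ≤ 4) (B₁ B₂ B₃ B₄ : Idx k (s + 1) → F) :
    rest D.formW 1 G (tau i B₁ w₂) (tau i B₂ w₁) (tau i B₃ w₃) (tau i B₄ w₄) =
      rest D.formW 1 G (tau i B₁ w₁) (tau i B₂ w₂) (tau i B₃ w₃) (tau i B₄ w₄) := by
  classical
  rw [rest_apply, rest_apply, ← sub_eq_zero, ← Finset.sum_sub_distrib]
  refine orb_sum_zero hG hD hlose IH P i (fun φ => φ (tau i B₁ w₂) (tau i B₂ w₁) (tau i B₃ w₃) (tau i B₄ w₄)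
    - φ (tau i B₁ w₁) (tau i B₂ w₂) (tau i B₃ w₃) (tau i B₄ w₄)) fun φ => ?_
  simp only [pull_apply, fu_val, OTPow.fa_tau]
  refine PolyLe.sum_zero (b := Pi.basisFun F (Fin 2)) (d := 3) ?_ (by
    have h2 : 2 < Fintype.card F := by
      by_contra h
      have h1 := Fintype.one_lt_card (α := F)
      have h3 : Fintype.card F = 2 := by omega
      exact D.h2 (by simpa [h3] using FiniteField.cast_card_eq_zero F)
    omega)
  obtain ⟨κ₁, M₁, hκ₁, hM₁, z₁, a₁⟩ := slot_top P h₁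
  obtain ⟨κ₂, M₂, hκ₂, hM₂, z₂, a₂⟩ := slot_top P h₂
  obtain ⟨κ₃, M₃, hκ₃, hM₃, z₃, a₃⟩ := slot_top P h₃
  obtain ⟨κ₄, M₄, hκ₄, hM₄, z₄, a₄⟩ := slot_top P h₄
  simp only [a₁, a₂, a₃, a₄, map_add, map_smul]
  set b := Pi.basisFun F (Fin 2)
  have Z : ∀ {e : ℕ} {g : (Fin 2 → F) → F} {N : ℕ}, (e = 0 → ∀ a, g a = 0) →
      (PolyLe b N g) → (0 < e → N ≤ 3) → PolyLe b 3 g := fun {e} {g} {N} hz hp hle => by
    rcases Nat.eq_zero_or_pos e with he | he
    · rw [show g = fun _ => (0 : F) from funext (hz he)]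
      exact (PolyLe.const 0).mono (Nat.zero_le 3)
    · exact hp.mono (hle he)
  have key : ∀ (e₁ e₂ : ℕ) (μ₁ μ₂ : (Fin 2 → F) → F) (N₁ N₂ : (Fin 2 → F) → Fin k → F),
      PolyLe b e₁ μ₁ → PolyLe b e₂ μ₂ → PolyVec b (e₁ - 1) N₁ → PolyVec b (e₂ - 1) N₂ →
      (e₁ = 0 → ∀ r, N₁ r = 0) → (e₂ = 0 → ∀ r, N₂ r = 0) → e₁ + e₂ + d₃ + d₄ ≤ 4 →
      PolyLe b 3 fun r => φ (μ₁ r • tau i B₁ x + tau i B₁ (N₁ r)) (μ₂ r • tau i B₂ x + tau i B₂ (N₂ r))
          (κ₃ r • tau i B₃ x + tau i B₃ (M₃ r)) (κ₄ r • tau i B₄ x + tau i B₄ (M₄ r))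
        - μ₁ r * μ₂ r * κ₃ r * κ₄ r * φ (tau i B₁ x) (tau i B₂ x) (tau i B₃ x) (tau i B₄ x) := by
    intro e₁ e₂ μ₁ μ₂ N₁ N₂ p₁ p₂ n₁ n₂ y₁ y₂ he
    have hT : ∀ {e : ℕ} {μ : (Fin 2 → F) → F} (B : Idx k (s + 1) → F), PolyLe b e μ →
        PolyVec b e fun r => μ r • tau i B x := fun B h => PolyVec.smul (e := 0) h (PolyVec.const _)
    have hN : ∀ {e : ℕ} {N : (Fin 2 → F) → Fin k → F} (B : Idx k (s + 1) → F), PolyVec b (e - 1) N →
        PolyVec b (e - 1) fun r => tau i B (N r) := fun B h => h.map (tau i B)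
    have hV : ∀ {e : ℕ} {μ : (Fin 2 → F) → F} {N : (Fin 2 → F) → Fin k → F} (B : Idx k (s + 1) → F),
        PolyLe b e μ → PolyVec b (e - 1) N → PolyVec b e fun r => μ r • tau i B x + tau i B (N r) :=
      fun B h h' => (hT B h).add ((hN B h').mono (Nat.sub_le _ _))
    have r₁ : PolyLe b 3 fun r => φ (tau i B₁ (N₁ r)) (μ₂ r • tau i B₂ x + tau i B₂ (N₂ r))
        (κ₃ r • tau i B₃ x + tau i B₃ (M₃ r)) (κ₄ r • tau i B₄ x + tau i B₄ (M₄ r)) :=
      Z (e := e₁) (fun h r => by simp [y₁ h]) (PolyVec.four (hN _ n₁) (hV _ p₂ n₂) (hV _ hκ₃ hM₃) (hV _ hκ₄ hM₄) φ)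
        (fun _ => by omega)
    have r₂ : PolyLe b 3 fun r => φ (μ₁ r • tau i B₁ x) (tau i B₂ (N₂ r))
        (κ₃ r • tau i B₃ x + tau i B₃ (M₃ r)) (κ₄ r • tau i B₄ x + tau i B₄ (M₄ r)) :=
      Z (e := e₂) (fun h r => by simp [y₂ h]) (PolyVec.four (hT _ p₁) (hN _ n₂) (hV _ hκ₃ hM₃) (hV _ hκ₄ hM₄) φ)
        (fun _ => by omega)
    have r₃ : PolyLe b 3 fun r => φ (μ₁ r • tau i B₁ x) (μ₂ r • tau i B₂ x) (tau i B₃ (M₃ r))
        (κ₄ r • tau i B₄ x + tau i B₄ (M₄ r)) :=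
      Z (e := d₃) (fun h r => by simp [z₃ h]) (PolyVec.four (hT _ p₁) (hT _ p₂) (hN _ hM₃) (hV _ hκ₄ hM₄) φ)
        (fun _ => by omega)
    have r₄ : PolyLe b 3 fun r => φ (μ₁ r • tau i B₁ x) (μ₂ r • tau i B₂ x) (κ₃ r • tau i B₃ x)
        (tau i B₄ (M₄ r)) :=
      Z (e := d₄) (fun h r => by simp [z₄ h]) (PolyVec.four (hT _ p₁) (hT _ p₂) (hT _ hκ₃) (hN _ hM₄) φ)
        (fun _ => by omega)
    convert ((r₁.add r₂).add r₃).add r₄ using 1
    funext r
    simp only [map_add, map_smul, LinearMap.add_apply, LinearMap.smul_apply, smul_eq_mul]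
    ring
  have k₁ := key d₂ d₁ κ₂ κ₁ M₂ M₁ hκ₂ hκ₁ hM₂ hM₁ z₂ z₁ (by omega)
  have k₂ := key d₁ d₂ κ₁ κ₂ M₁ M₂ hκ₁ hκ₂ hM₁ hM₂ z₁ z₂ hd
  convert k₁.sub k₂ using 1
  funext r
  simp only [map_add, map_smul, LinearMap.add_apply, LinearMap.smul_apply, smul_eq_mul]
  ring

/-- The sum is symmetric at every factor. -/
theorem rest_sym (P : Pl D x f a₁ a₂) (i : Fin (s + 2)) (u₁ u₂ u₃ u₄ : Fin k → F)
    (B₁ B₂ B₃ B₄ : Idx k (s + 1) → F) :
    rest D.formW 1 G (tau i B₁ u₂) (tau i B₂ u₁) (tau i B₃ u₃) (tau i B₄ u₄) =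
      rest D.formW 1 G (tau i B₁ u₁) (tau i B₂ u₂) (tau i B₃ u₃) (tau i B₄ u₄) := by
  have H := P.hyp
  have hf := D.fm
  let R := rest D.formW 1 G
  refine cls_ext hf H (L := (R.flip (tau i B₂ u₁) ∘ₗ tau i B₁).flip (tau i B₃ u₃) |>.flip (tau i B₄ u₄))
    (L' := (R (tau i B₁ u₁) ∘ₗ tau i B₂).flip (tau i B₃ u₃) |>.flip (tau i B₄ u₄)) (fun d₂ w₂ c₂ => ?_) u₂
  refine cls_ext hf H (L := (R (tau i B₁ w₂) ∘ₗ tau i B₂).flip (tau i B₃ u₃) |>.flip (tau i B₄ u₄))
    (L' := (R.flip (tau i B₂ w₂) ∘ₗ tau i B₁).flip (tau i B₃ u₃) |>.flip (tau i B₄ u₄)) (fun d₁ w₁ c₁ => ?_) u₁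
  refine cls_ext hf H (L := (R (tau i B₁ w₂) (tau i B₂ w₁) ∘ₗ tau i B₃).flip (tau i B₄ u₄))
    (L' := (R (tau i B₁ w₁) (tau i B₂ w₂) ∘ₗ tau i B₃).flip (tau i B₄ u₄)) (fun d₃ w₃ c₃ => ?_) u₃
  refine cls_ext hf H (L := R (tau i B₁ w₂) (tau i B₂ w₁) (tau i B₃ w₃) ∘ₗ tau i B₄)
    (L' := R (tau i B₁ w₁) (tau i B₂ w₂) (tau i B₃ w₃) ∘ₗ tau i B₄) (fun d₄ w₄ c₄ => ?_) u₄
  by_cases hle : d₁ + d₂ + d₃ + d₄ ≤ 4
  · exact swap_low hG hD hlose IH P i c₁ c₂ c₃ c₄ hle B₁ B₂ B₃ B₄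
  · refine swap_low hG hD hlose IH P.flip i c₁.flip c₂.flip c₃.flip c₄.flip ?_ B₁ B₂ B₃ B₄
    have := c₁.le; have := c₂.le; have := c₃.le; have := c₄.le
    omega

/-- The sum of the translates vanishes. -/
theorem rest_zero (P : Pl D x f a₁ a₂) : rest D.formW 1 G = 0 := by
  classical
  set R := rest D.formW 1 G
  have hanti : ∀ v₁ v₂ v₃ v₄, R v₂ v₁ v₃ v₄ = -R v₁ v₂ v₃ v₄ := fun v₁ v₂ v₃ v₄ => by
    simp only [R, rest_apply, ← Finset.sum_neg_distrib]
    refine Finset.sum_congr rfl fun φ hφ => ?_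
    obtain ⟨-, X, -, rfl⟩ := mem_orb.1 hφ
    rw [pull_apply, pull_apply, OTPow.phi4_apply, OTPow.phi4_apply, OTPow.pop_anti D.fm (X.val *ᵥ v₁),
      Matrix.neg_mulVec, map_neg, LinearMap.neg_apply]
  have hsw : ∀ (S : Finset (Fin (s + 2))) (g₁ g₂ g₃ g₄ : Fin (s + 2) → Fin k → F),
      R (pv fun i => if i ∈ S then g₂ i else g₁ i) (pv fun i => if i ∈ S then g₁ i else g₂ i) (pv g₃) (pv g₄)
        = R (pv g₁) (pv g₂) (pv g₃) (pv g₄) := by
    intro S
    induction S using Finset.induction_on with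
    | empty => intro g₁ g₂ g₃ g₄; simp
    | insert l S hl ih =>
      intro g₁ g₂ g₃ g₄
      rw [← ih g₁ g₂ g₃ g₄, pv_split l, pv_split l, pv_split l g₃, pv_split l g₄]
      conv_rhs => rw [pv_split l, pv_split l]
      simp only [Finset.mem_insert_self, if_true, if_neg hl]
      have e1 : ∀ (a b : Fin (s + 2) → Fin k → F), (fun j => if l.succAbove j ∈ insert l S then a (l.succAbove j)
          else b (l.succAbove j)) = fun j => if l.succAbove j ∈ S then a (l.succAbove j) else b (l.succAbove j) :=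
        fun a b => funext fun j => by simp [Fin.succAbove_ne]
      rw [e1, e1]
      exact rest_sym hG hD hlose IH P l (g₁ l) (g₂ l) (g₃ l) (g₄ l) _ _ _ _
  have h0 : ∀ g₁ g₂ g₃ g₄, R (pv g₁) (pv g₂) (pv g₃) (pv g₄) = 0 := fun g₁ g₂ g₃ g₄ => by
    have h1 := hsw Finset.univ g₁ g₂ g₃ g₄
    simp only [Finset.mem_univ, if_true] at h1
    rw [hanti (pv g₁) (pv g₂)] at h1
    exact (mul_eq_zero.1 (show (2 : F) * R (pv g₁) (pv g₂) (pv g₃) (pv g₄) = 0 by
      linear_combination -h1)).resolve_left D.h2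
  have hb : ∀ z : Idx k (s + 2), (Pi.basisFun F (Idx k (s + 2))) z =
      pv fun i => Pi.single (z i) (1 : F) := fun z => funext fun w => by
    rw [Pi.basisFun_apply, pv]
    by_cases hw : w = z
    · subst hw; simp
    · obtain ⟨l, hl⟩ := Function.ne_iff.1 hw
      rw [Pi.single_eq_of_ne hw]
      exact (Finset.prod_eq_zero (Finset.mem_univ l) (Pi.single_eq_of_ne hl _)).symm
  refine (Pi.basisFun F _).ext fun z₁ => (Pi.basisFun F _).ext fun z₂ => (Pi.basisFun F _).ext fun z₃ =>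
    (Pi.basisFun F _).ext fun z₄ => ?_
  rw [hb, hb, hb, hb]
  simpa using h0 _ _ _ _

/-- **A group without long elements lies in the stabiliser.** -/
theorem Hyp.le_mst_of_lose : G ≤ mst k (s + 2) F := by
  obtain ⟨x, f, a₁, a₂, P⟩ := exists_pl (D := D) hD
  have hzero := rest_zero hG hD hlose IH P
  intro g hg
  refine hG.stab_phi hD hlose IH hg ?_
  classical
  let O : Finset (Four4 (Idx k (s + 2)) F) := insert (phi4 D.formW 1) (orb D.formW 1 G)
  have hmem : ∀ h ∈ G, ∀ φ ∈ O, pull h φ ∈ O := by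
    intro h hh φ hφ
    obtain ⟨X, hX, rfl⟩ : ∃ X ∈ G, pull X (phi4 D.formW 1) = φ := by
      rcases Finset.mem_insert.1 hφ with rfl | hφ
      · exact ⟨1, one_mem _, pull_one _⟩
      · exact (mem_orb.1 hφ).2
    rw [← pull_mul]
    by_cases e : pull (X * h) (phi4 D.formW 1) = phi4 D.formW 1
    · exact Finset.mem_insert.2 (Or.inl e)
    · exact Finset.mem_insert.2 (Or.inr (mem_orb.2 ⟨e, _, mul_mem hX hh, rfl⟩))
  have hsum : ∑ φ ∈ O, φ = phi4 D.formW 1 := by
    rw [Finset.sum_insert (fun h => (mem_orb.1 h).1 rfl),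
      show ∑ φ ∈ orb D.formW 1 G, φ = rest D.formW 1 G from rfl, hzero, add_zero]
  refine four_ext fun v₁ v₂ v₃ v₄ => ?_
  rw [pull_apply]
  conv_lhs => rw [← hsum]
  conv_rhs => rw [← hsum]
  simp only [LinearMap.sum_apply]
  exact Finset.sum_bij' (fun φ _ => pull g φ) (fun φ _ => pull g⁻¹ φ)
    (fun φ hφ => hmem g hg φ hφ) (fun φ hφ => hmem g⁻¹ (inv_mem hg) φ hφ)
    (fun φ _ => by rw [← pull_mul, mul_inv_cancel, pull_one])
    (fun φ _ => by rw [← pull_mul, inv_mul_cancel, pull_one]) fun φ _ => rfl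

end Dia

end Cfsg.Lib.Linear.OTWreath
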