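import Cfsg.Agent.Lib.Linear.OTWreath.Rich
import Cfsg.Agent.Lib.Linear.OOTensor.Unip

/-!
# The unipotent radical of the stabiliser of a singular point of one factor
-/

set_option autoImplicit false
set_option linter.unusedSectionVars false
set_option linter.unusedSimpArgs false
set_option linter.unusedVariables false
set_option linter.style.haveILetI false

namespace Cfsg.Lib.Linear.OTWreath

open Cfsg.Geo Cfsg.Lib.Linear.AschGen Cfsg.Lib.Linear.TWreath
open Cfsg.Lib.Linear.OWreath (tens fa_tens psi_tens)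
open Cfsg.Lib.Linear.OOTensor (qf Unip)
open Cfsg.Lib.Linear.Orth (perp2 mem_perp2)
open scoped Matrix MatrixGroups

variable {F : Type*} [Field F] {k m t : ℕ}

namespace Dia

variable {D : Dia k F}

/-- No non-trivial long element at the factor lies in the group. -/
def Lose (D : Dia k F) (G : Subgroup (GL (Idx k (t + 1)) F)) (i : Fin (t + 1)) : Prop :=
  ∀ z φ, D.formW z z = 0 → z ≠ 0 → InM G (1 + D.LMat i z φ) → φ = 0

theorem Frame.hyp {x f : Fin k → F} {e : Fin m → Fin k → F} (H : D.Frame x f e) :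
    Orth.Hyp (qf D.formW) D.formW ⊤ x f :=
  ⟨trivial, trivial, H.qx, H.qfz, H.xf⟩

theorem Frame.mem_perp {x f : Fin k → F} {e : Fin m → Fin k → F} (H : D.Frame x f e) (b : Fin m) :
    e b ∈ perp2 D.formW ⊤ x f :=
  mem_perp2.2 ⟨trivial, H.xe b, H.fe b⟩

theorem Frame.perp_eq {x f : Fin k → F} {e : Fin m → Fin k → F} (H : D.Frame x f e) {r : Fin k → F}
    (hr : r ∈ perp2 D.formW ⊤ x f) : r = ∑ b, (D.formW (e b) r / D.formW (e b) (e b)) • e b := by
  obtain ⟨-, h1, h2⟩ := mem_perp2.1 hr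
  conv_lhs => rw [H.dec r, h1, h2, zero_smul, zero_smul, zero_add, zero_add]

/-- Two elements of the radical with equal coefficients are equal. -/
theorem Hyp.unip_ext {G : Subgroup (GL (Idx k (t + 1)) F)} (hG : D.Hyp G) {i : Fin (t + 1)}
    (hlose : D.Lose G i) {x f : Fin k → F} {e : Fin m → Fin k → F} (H : D.Frame x f e)
    {g g' : GL (Idx k (t + 1)) F} (hg : g ∈ G) (hg' : g' ∈ G) (hu : Unip (D.ten i) x g)
    (hu' : Unip (D.ten i) x g')
    (h : ∀ b, (D.ten i).cof f g (e b) = (D.ten i).cof f g' (e b)) : g = g' := by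
  have T := D.ten i
  have hh := hu'.inv T |>.mul T hu
  have hfix : ∀ u w, D.formW x w = 0 → (g'⁻¹ * g).val *ᵥ tens i u w = tens i u w := by
    intro u w hw
    obtain ⟨r, hr, ew⟩ := OOTensor.exists_split T.SW H.hyp w
    have hrx := (mem_perp2.1 hr).2.1
    have hrr : (D.ten i).cof f g r = (D.ten i).cof f g' r := by
      rw [H.perp_eq hr, map_sum, map_sum]
      exact Finset.sum_congr rfl fun b _ => by rw [map_smul, map_smul, h]
    rw [ew, hw, zero_smul, add_zero, map_add, map_smul, Matrix.mulVec_add, Matrix.mulVec_smul, hh.1,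
      hh.act T H.hyp hrx, Unip.cof_mul T H.hyp (hu'.inv T) hu hrx, Unip.cof_inv T H.hyp hu' hrx, hrr]
    simp
  obtain ⟨φ, hφ⟩ := OOTensor.long_of_fix T H.hyp (mul_mem (inv_mem (hG.le hg')) (hG.le hg)) hfix
  have h0 : LinearMap.toMatrix' φ = 0 := hlose x _ H.xx H.x0
    (D.inM_of_inA i x φ ⟨_, mul_mem (inv_mem hg') hg, hφ⟩)
  refine (inv_mul_eq_one.1 (Orth.gl_ext fun v => ?_)).symm
  rw [hφ, D.long_eq, h0, map_zero, mul_zero, Matrix.zero_mulVec, add_zero, Units.val_one, Matrix.one_mulVec]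

theorem Hyp.unip_comm {G : Subgroup (GL (Idx k (t + 1)) F)} (hG : D.Hyp G) {i : Fin (t + 1)}
    (hlose : D.Lose G i) {x f : Fin k → F} {e : Fin m → Fin k → F} (H : D.Frame x f e)
    {g g' : GL (Idx k (t + 1)) F} (hg : g ∈ G) (hg' : g' ∈ G) (hu : Unip (D.ten i) x g)
    (hu' : Unip (D.ten i) x g') : g * g' = g' * g :=
  hG.unip_ext hlose H (mul_mem hg hg') (mul_mem hg' hg) (hu.mul _ hu') (hu'.mul _ hu) fun b => by
    rw [Unip.cof_mul _ H.hyp hu hu' (H.xe b), Unip.cof_mul _ H.hyp hu' hu (H.xe b), add_comm]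

/-- The tuples of coefficient matrices. -/
def coefSet (D : Dia k F) (G : Subgroup (GL (Idx k (t + 1)) F)) (i : Fin (t + 1)) (x f : Fin k → F)
    (e : Fin m → Fin k → F) : Set (Fin m → Matrix (Idx k t) (Idx k t) F) :=
  {C | ∃ g ∈ G, Unip (D.ten i) x g ∧ ∀ b, C b = LinearMap.toMatrix' ((D.ten i).cof f g (e b))}

theorem conj_right {G : Subgroup (GL (Idx k (t + 1)) F)} (hG : D.Hyp G) {i : Fin (t + 1)} {x f : Fin k → F}
    {e : Fin m → Fin k → F} (H : D.Frame x f e) {p : GL (Fin k) F} (hp : fu i p ∈ G) {s : F}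
    (hps : p.val *ᵥ x = s • x) {g : GL (Idx k (t + 1)) F} (hg : g ∈ G) (hu : Unip (D.ten i) x g) :
    fu i p * g * (fu i p)⁻¹ ∈ G ∧ Unip (D.ten i) x (fu i p * g * (fu i p)⁻¹) ∧
      ∀ w, D.formW x w = 0 → (D.ten i).cof f (fu i p * g * (fu i p)⁻¹) (p.val *ᵥ w) = s • (D.ten i).cof f g w := by
  have hact : ∀ u w, (fu i p).val *ᵥ tens i u w = tens i u (p.val *ᵥ w) := fun u w => by rw [fu_val, fa_tens]
  refine ⟨mul_mem (mul_mem hp hg) (inv_mem hp), Unip.conj (D.ten i) H.hyp (hG.le hp)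
    (fun u => ⟨s • u, by rw [hact, hps, map_smul, map_smul, LinearMap.smul_apply]⟩) hu,
    fun w hw => Unip.cof_eq (D.ten i) H.hyp fun u => ?_⟩
  rw [← hact, Orth.mul_act, Orth.mul_act, Orth.inv_act, hu.act _ H.hyp hw, Matrix.mulVec_add, hact, hact, hps]
  simp only [map_smul, LinearMap.smul_apply]

theorem conj_left {G : Subgroup (GL (Idx k (t + 1)) F)} (hG : D.Hyp G) {i : Fin (t + 1)} {x f : Fin k → F}
    {e : Fin m → Fin k → F} (H : D.Frame x f e) {q : GL (Idx k t) F} (hq : psiU i q ∈ G)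
    {C : Fin m → Matrix (Idx k t) (Idx k t) F} (hC : C ∈ coefSet D G i x f e) :
    (fun b => conjA q (C b)) ∈ coefSet D G i x f e := by
  obtain ⟨g, hg, hu, hc⟩ := hC
  have hact : ∀ (q : GL (Idx k t) F) u w, (psiU i q).val *ᵥ tens i u w = tens i (q.val *ᵥ u) w :=
    fun q u w => by rw [psiU_val, psi_tens]
  refine ⟨_, mul_mem (mul_mem hq hg) (inv_mem hq), Unip.conj (D.ten i) H.hyp (hG.le hq)
    (fun u => ⟨_, hact q u x⟩) hu, fun b => ?_⟩
  show conjA q (C b) = _
  rw [← LinearMap.toMatrix'_toLin' (conjA q (C b))]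
  congr 1
  refine (Unip.cof_eq (D.ten i) H.hyp fun u => ?_).symm
  rw [Orth.mul_act, Orth.mul_act, ← map_inv, hact, hu.act _ H.hyp (H.xe b), Matrix.mulVec_add, hact, hact,
    Orth.act_inv, Matrix.toLin'_apply, conjA_apply, ← Matrix.mulVec_mulVec, ← Matrix.mulVec_mulVec, hc,
    LinearMap.toMatrix'_mulVec]

/-- The torus of the hyperbolic plane. -/
theorem Frame.exists_torus {x f : Fin k → F} {e : Fin m → Fin k → F} (H : D.Frame x f e) {s : F}
    (hs : s ≠ 0) : ∃ g, D.SG g ∧ g.val *ᵥ x = s • x ∧ ∀ b, g.val *ᵥ e b = e b := by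
  have C := D.spaceW
  have hv : ∀ r : F, D.qW (x - r • f) = -r := fun r => by
    rw [qW_eq]; simp [H.xx, H.ff, H.xf, H.fx]; field_simp [D.h2]; ring
  have h1 : D.qW (x - (1 : F) • f) ≠ 0 := by rw [hv]; simp
  have h2 : D.qW (x - s • f) ≠ 0 := by rw [hv]; simpa using hs
  refine ⟨_, Or.inr ⟨_, _, h1, h2, rfl⟩, ?_, fun b => ?_⟩
  · have q1 := hv 1
    have q2 := hv s
    simp only [qW] at q1 q2
    rw [Orth.mul_act, Orth.rGL_act C h2, q2, Orth.rGL_act C h1, q1]
    simp only [map_sub, map_smul, LinearMap.sub_apply, LinearMap.smul_apply, smul_eq_mul, H.xx, H.fx, H.xf, H.ff,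
      mul_one, mul_zero, zero_sub, sub_zero]
    match_scalars <;> field_simp <;> ring
  · rw [Orth.mul_act, Orth.rGL_fix C h2 (by simp [H.xe, H.fe]), Orth.rGL_fix C h1 (by simp [H.xe, H.fe])]

theorem coef_smul [Fintype F] {G : Subgroup (GL (Idx k (t + 1)) F)} (hG : D.Hyp G) (hD : D.Good) (ht : 1 ≤ t)
    {i : Fin (t + 1)} {x f : Fin k → F} {e : Fin m → Fin k → F} (H : D.Frame x f e) {s : F} (hs : s ≠ 0)
    {C : Fin m → Matrix (Idx k t) (Idx k t) F} (hC : C ∈ coefSet D G i x f e) :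
    s • C ∈ coefSet D G i x f e := by
  obtain ⟨g, hg, hu, hc⟩ := hC
  obtain ⟨p, hp, hpx, hpe⟩ := H.exists_torus hs
  obtain ⟨a1, a2, a3⟩ := conj_right hG H (hG.sg hD ht i hp) hpx hg hu
  refine ⟨_, a1, a2, fun b => ?_⟩
  conv_rhs => rw [← hpe b, a3 _ (H.xe b)]
  rw [map_smul, Pi.smul_apply, hc]

/-- The coefficient tuples as a subspace. -/
def coefSp [Fintype F] {G : Subgroup (GL (Idx k (t + 1)) F)} (hG : D.Hyp G) (hD : D.Good) (ht : 1 ≤ t)
    (i : Fin (t + 1)) {x f : Fin k → F} {e : Fin m → Fin k → F} (H : D.Frame x f e) :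
    Submodule F (Fin m → Matrix (Idx k t) (Idx k t) F) where
  carrier := coefSet D G i x f e
  add_mem' := by
    rintro C C' ⟨g, hg, hu, hc⟩ ⟨g', hg', hu', hc'⟩
    exact ⟨g * g', mul_mem hg hg', hu.mul _ hu', fun b => by
      rw [Unip.cof_mul _ H.hyp hu hu' (H.xe b), map_add, Pi.add_apply, hc, hc']⟩
  zero_mem' := ⟨1, one_mem _, OOTensor.unip_one _ _, fun b => by
    rw [show (D.ten i).cof f 1 (e b) = 0 from Unip.cof_eq _ H.hyp fun u => by simp, map_zero, Pi.zero_apply]⟩
  smul_mem' s C hC := by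
    rcases eq_or_ne s 0 with rfl | hs
    · rw [zero_smul]
      exact ⟨1, one_mem _, OOTensor.unip_one _ _, fun b => by
        rw [show (D.ten i).cof f 1 (e b) = 0 from Unip.cof_eq _ H.hyp fun u => by simp, map_zero, Pi.zero_apply]⟩
    · exact coef_smul hG hD ht H hs hC

variable [Fintype F] {G : Subgroup (GL (Idx k (t + 1)) F)} (hG : D.Hyp G) (hD : D.Good) (ht : 1 ≤ t)
  {i : Fin (t + 1)} (hlose : D.Lose G i) {x f : Fin k → F} {e : Fin m → Fin k → F} (H : D.Frame x f e)
include hG hD ht hlose H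

theorem siegel_unip (b : Fin m) : fu i (D.uW x (e b)) ∈ G ∧ Unip (D.ten i) x (fu i (D.uW x (e b))) := by
  refine ⟨hG.siegel hD i H.xx (H.xe b), ?_⟩
  rw [← D.liftR_eq]
  exact OOTensor.unip_siegel _ H.hyp (H.xe b)

theorem coef_self {C : Fin m → Matrix (Idx k t) (Idx k t) F} (hC : C ∈ coefSet D G i x f e) (b : Fin m) :
    D.adT (C b) = C b := by
  obtain ⟨g, hg, hu, hc⟩ := hC
  obtain ⟨hs, hsu⟩ := siegel_unip hG hD ht hlose H b
  have hcomm : g * (D.ten i).liftR (D.uW x (e b)) = (D.ten i).liftR (D.uW x (e b)) * g := by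
    rw [D.liftR_eq]; exact hG.unip_comm hlose H hg hs hu hsu
  have hsa := Unip.self_adjoint (D.ten i) H.hyp (hG.le hg) hu hcomm (H.mem_perp b)
  refine Orth.mat_ext fun c => sub_eq_zero.1 (D.formT_nondeg _ fun u => ?_)
  rw [map_sub, LinearMap.sub_apply, D.formT_symm _ u, ← D.formT_adj, hc, LinearMap.toMatrix'_mulVec, hsa,
    D.formT_symm u, sub_eq_zero]
  rw [LinearMap.toMatrix'_mulVec, D.formT_symm]

/-- The bracket of two tuples vanishes. -/
theorem coef_bracket {C C' : Fin m → Matrix (Idx k t) (Idx k t) F} (hC : C ∈ coefSet D G i x f e)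
    (hC' : C' ∈ coefSet D G i x f e) :
    ∑ b, (D.formW (e b) (e b))⁻¹ • (C b * C' b - C' b * C b) = 0 := by
  have T := D.ten i
  have hact : ∀ {C : Fin m → Matrix (Idx k t) (Idx k t) F}, C ∈ coefSet D G i x f e →
      ∀ {g : GL (Idx k (t + 1)) F}, g ∈ G → Unip (D.ten i) x g →
      (∀ b, C b = LinearMap.toMatrix' ((D.ten i).cof f g (e b))) → ∀ u, g.val *ᵥ tens i u f =
        tens i u f + tens i ((D.ten i).ctr f (g.val *ᵥ tens i u f)) x -
          ∑ b, (D.formW (e b) (e b))⁻¹ • tens i (C b *ᵥ u) (e b) := by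
    intro C hC g hg hu hc u
    refine T.ext3 H.hyp ?_ ?_ fun r hr => ?_
    · simp [Unip.ctr_x T H.hyp (hG.le hg) hu, T.ctr_tau, H.fx, H.xx, H.ex]
    · simp [T.ctr_tau, H.ff, H.xf, H.ef]
    · obtain ⟨-, r1, r2⟩ := mem_perp2.1 hr
      have hcof : ∀ w, (D.ten i).cof f g r w = ∑ b, (D.formW (e b) r / D.formW (e b) (e b)) • (C b *ᵥ w) := by
        intro w
        conv_lhs => rw [H.perp_eq hr]
        simp only [map_sum, map_smul, LinearMap.sum_apply, LinearMap.smul_apply, hc, LinearMap.toMatrix'_mulVec]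
      have e1 : T.ctr r (g.val *ᵥ tens i u f) = -((D.ten i).cof f g r u) := T.α_ext fun c => by
        rw [Unip.ctr_perp T H.hyp (hG.le hg) hu hr, map_neg, LinearMap.neg_apply, hcof, hcof]
        simp only [map_sum, map_smul, LinearMap.sum_apply, LinearMap.smul_apply, D.formT_adj,
          coef_self hG hD ht hlose H hC]
      rw [e1, hcof]
      simp only [map_sub, map_add, map_sum, map_smul, T.ctr_tau, r1, r2, zero_smul, zero_add, smul_smul,
        zero_sub, neg_inj]
      exact Finset.sum_congr rfl fun b _ => by rw [div_eq_inv_mul]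
  obtain ⟨g, hg, hu, hc⟩ := id hC
  obtain ⟨g', hg', hu', hc'⟩ := id hC'
  refine Orth.mat_ext fun u => ?_
  have key : ∀ {g g' : GL (Idx k (t + 1)) F} {C C' : Fin m → Matrix (Idx k t) (Idx k t) F},
      C ∈ coefSet D G i x f e → C' ∈ coefSet D G i x f e → g ∈ G → g' ∈ G →
      Unip (D.ten i) x g → Unip (D.ten i) x g' →
      (∀ b, C b = LinearMap.toMatrix' ((D.ten i).cof f g (e b))) →
      (∀ b, C' b = LinearMap.toMatrix' ((D.ten i).cof f g' (e b))) →
      T.ctr f ((g * g').val *ᵥ tens i u f) = T.ctr f (g.val *ᵥ tens i u f) + T.ctr f (g'.val *ᵥ tens i u f) -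
        ∑ b, (D.formW (e b) (e b))⁻¹ • (C b *ᵥ (C' b *ᵥ u)) := by
    intro g g' C C' hC hC' hg hg' hu hu' hc hc'
    rw [Orth.mul_act, hact hC' hg' hu' hc' u, Matrix.mulVec_sub, Matrix.mulVec_add, Matrix.mulVec_sum]
    simp only [Matrix.mulVec_smul, hu.1, hu.act T H.hyp (H.xe _), map_sub, map_add, map_sum, map_smul,
      T.ctr_tau, H.ef, H.xf, zero_smul, zero_add, one_smul, hc, LinearMap.toMatrix'_mulVec, H.ff, smul_zero,
      Finset.sum_const_zero, sub_zero]
  have h1 := key hC hC' hg hg' hu hu' hc hc'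
  have h2 := key hC' hC hg' hg hu' hu hc' hc
  rw [hG.unip_comm hlose H hg hg' hu hu', h2] at h1
  rw [Matrix.zero_mulVec, Matrix.sum_mulVec]
  simp only [Matrix.smul_mulVec, Matrix.sub_mulVec, ← Matrix.mulVec_mulVec, smul_sub, Finset.sum_sub_distrib]
  linear_combination (norm := module) h1

/-- The coefficients are scalars. -/
theorem coef_scalar (hm : k ≤ m + 2) {C : Fin m → Matrix (Idx k t) (Idx k t) F}
    (hC : C ∈ coefSet D G i x f e) (b : Fin m) : ∃ c : F, C b = c • 1 := by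
  classical
  let Ψ := coefSp hG hD ht i H
  have hmem : ∀ {C}, C ∈ Ψ ↔ C ∈ coefSet D G i x f e := Iff.rfl
  have hflip : ∀ (p : GL (Fin k) F) (ε : Fin m → F), fu i p ∈ G → p.val *ᵥ x = x →
      (∀ c, p.val *ᵥ e c = ε c • e c) → (∀ c, ε c * ε c = 1) →
      ∀ {C}, C ∈ Ψ → (fun c => ε c • C c) ∈ Ψ := by
    intro p ε hp hpx hpe hε C hC
    obtain ⟨g, hg, hu, hc⟩ := hmem.1 hC
    obtain ⟨a1, a2, a3⟩ := conj_right hG H hp (s := 1) (by rw [hpx, one_smul]) hg hu
    refine hmem.2 ⟨_, a1, a2, fun c => ?_⟩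
    have h1 := a3 (e c) (H.xe c)
    rw [hpe, map_smul, one_smul] at h1
    show ε c • C c = _
    rw [hc, ← map_smul]
    congr 1
    rw [← h1, smul_smul, hε, one_smul]
  have hrfix : ∀ b c, c ≠ b → (D.rW (e b)).val *ᵥ e c = e c := fun b c h =>
    rW_fix (H.qe b) (H.orth b c h.symm)
  have hrneg : ∀ b, (D.rW (e b)).val *ᵥ e b = -e b := fun b => Orth.rGL_self D.spaceW (H.qe b)
  have hrx : ∀ b, (D.rW (e b)).val *ᵥ x = x := fun b => rW_fix (H.qe b) (H.ex b)
  by_cases hsingle : ∀ C ∈ Ψ, ∀ b, Pi.single b (C b) ∈ Ψ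
  · let 𝒦 : Submodule F (Matrix (Idx k t) (Idx k t) F) := Ψ.comap (LinearMap.single F (fun _ : Fin m => Matrix (Idx k t) (Idx k t) F) b)
    have hK : ∀ {K}, K ∈ 𝒦 ↔ Pi.single b K ∈ Ψ := fun {K} => Iff.rfl
    have hcomm : ∀ K ∈ 𝒦, ∀ K' ∈ 𝒦, Commute K K' := fun K hK1 K' hK2 => by
      have h1 := coef_bracket hG hD ht hlose H (hmem.1 (hK.1 hK1)) (hmem.1 (hK.1 hK2))
      rw [Finset.sum_eq_single b (fun c _ hc => by simp [Pi.single_eq_of_ne hc])
        (fun h => absurd (Finset.mem_univ _) h), Pi.single_eq_same, Pi.single_eq_same, smul_eq_zero] at h1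
      exact sub_eq_zero.1 (h1.resolve_left (inv_ne_zero (H.ne b)))
    obtain ⟨t, rfl⟩ : ∃ t', t = t' + 1 := ⟨t - 1, by omega⟩
    refine D.scalar_of_inv hD.hk (Algebra.adjoin F (𝒦 : Set (Matrix (Idx k (t + 1)) (Idx k (t + 1)) F)))
      (fun X hX Y hY => ?_) (fun l g hg X hX => ?_) (Algebra.subset_adjoin (hK.2 (hsingle C (hmem.2 hC) b)))
    · exact (Algebra.commute_of_mem_adjoin_of_forall_mem_commute hY fun A hA =>
        (Algebra.commute_of_mem_adjoin_of_forall_mem_commute hX fun B hB => (hcomm A hA B hB)).symm)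
    · have hle : Algebra.adjoin F (𝒦 : Set (Matrix (Idx k (t + 1)) (Idx k (t + 1)) F)) ≤
          (Algebra.adjoin F (𝒦 : Set (Matrix (Idx k (t + 1)) (Idx k (t + 1)) F))).comap
            (conjA (fu l g)).toAlgHom :=
        Algebra.adjoin_le fun A hA => Algebra.subset_adjoin (hK.2 (by
          have h1 := hmem.2 (conj_left hG H (q := fu l g) (by rw [psiU_fu]; exact hG.sg hD (by omega) _ hg)
            (hmem.1 (hK.1 hA)))
          convert h1 using 1
          funext c
          rcases eq_or_ne c b with rfl | hc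
          · simp
          · simp [Pi.single_eq_of_ne hc]))
      exact hle hX
  -- the remaining case: two factors of dimension four
  exfalso
  apply hsingle
  intro C hC b
  by_cases h2t : 2 ≤ t
  · have h1 := Ψ.sub_mem hC (hflip (D.rW (e b)) (fun c => if c = b then -1 else 1) (hG.refl hD h2t i (H.qe b))
      (hrx b) (fun c => by
        rcases eq_or_ne c b with rfl | hc
        · rw [if_pos rfl, hrneg, neg_one_smul]
        · rw [if_neg hc, hrfix b c hc, one_smul]) (fun c => by split_ifs <;> ring) hC)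
    rw [show C - (fun c => (if c = b then (-1 : F) else 1) • C c) = (2 : F) • Pi.single b (C b) from funext fun c => by
      rcases eq_or_ne c b with rfl | hc
      · simp; module
      · simp [hc, Pi.single_eq_of_ne hc], Ψ.smul_mem_iff D.h2] at h1
    exact h1
  have hpair : ∀ b c, b ≠ c → ∀ {C}, C ∈ Ψ → (fun a => (if a = b ∨ a = c then (-1 : F) else 1) • C a) ∈ Ψ :=
    fun b c hbc C hC => hflip (D.rW (e b) * D.rW (e c)) _ (hG.refl2 hD ht i (H.qe b) (H.qe c))
      (by rw [Orth.mul_act, hrx, hrx]) (fun a => by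
        rw [Orth.mul_act]
        rcases eq_or_ne a b with rfl | hab
        · rw [hrfix c a hbc, if_pos (Or.inl rfl), hrneg, neg_one_smul]
        rcases eq_or_ne a c with rfl | hac
        · rw [hrneg, Matrix.mulVec_neg, hrfix b a hab, if_pos (Or.inr rfl), neg_one_smul]
        · rw [hrfix c a hac, hrfix b a hab, if_neg (by simp [hab, hac]), one_smul])
      (fun a => by split_ifs <;> ring) hC
  by_cases hk6 : 5 ≤ k
  · obtain ⟨c, hcb⟩ := H.other b
    obtain ⟨d, hdb, hdc⟩ := TWreath.exists_third (m := m) (by omega) b c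
    have h1 := Ψ.sub_mem hC (hpair b c hcb.symm hC)
    have h3 := Ψ.sub_mem h1 (hpair b d hdb.symm h1)
    have e1 : (C - (fun a => (if a = b ∨ a = c then (-1 : F) else 1) • C a)) -
        (fun a => (if a = b ∨ a = d then (-1 : F) else 1) •
          (C - (fun a => (if a = b ∨ a = c then (-1 : F) else 1) • C a)) a) = (4 : F) • Pi.single b (C b) := by
      funext a
      rcases eq_or_ne a b with rfl | hab
      · simp; module
      rcases eq_or_ne a c with rfl | hac
      · simp [hab, hdc.symm, Pi.single_eq_of_ne hab]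
      · simp [hab, hac, Pi.single_eq_of_ne hab]
    rw [e1, Ψ.smul_mem_iff (by rw [show (4 : F) = 2 * 2 by norm_num]; exact mul_ne_zero D.h2 D.h2)] at h3
    exact h3
  -- the coefficients are scalars directly
  obtain rfl : t = 1 := by omega
  have hscal : ∀ r : Fin m → F, (fun c => r c • (1 : Matrix (Idx k 1) (Idx k 1) F)) ∈ Ψ := fun r => by
    set a := ∑ c, (-(r c) / D.formW (e c) (e c)) • e c with ha
    have hxa : D.formW x a = 0 := by simp [ha, H.xe]
    refine hmem.2 ⟨_, hG.siegel hD i H.xx hxa, ?_, fun c => ?_⟩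
    · rw [← D.liftR_eq]; exact OOTensor.unip_siegel _ H.hyp hxa
    · have e1 : -D.formW a (e c) = r c := by
        rw [ha, map_sum, LinearMap.sum_apply, Finset.sum_eq_single c (fun b _ hb => by
          rw [map_smul, LinearMap.smul_apply, H.orth b c hb, smul_zero]) (fun h => absurd (Finset.mem_univ _) h),
          map_smul, LinearMap.smul_apply, smul_eq_mul]
        field_simp [H.ne c]
      rw [← D.liftR_eq, OOTensor.cof_siegel _ H.hyp hxa (H.xe c), map_smul, e1, Module.End.one_eq_id,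
        LinearMap.toMatrix'_id]
  suffices hall : ∀ C ∈ Ψ, ∀ c, ∃ r : F, C c = r • (1 : Matrix (Idx k 1) (Idx k 1) F) by
    obtain ⟨r, hr⟩ := hall C hC b
    rw [hr]
    convert hscal (Pi.single b r) using 1
    funext c
    rcases eq_or_ne c b with rfl | hc
    · simp
    · simp [Pi.single_eq_of_ne hc]
  by_contra hns
  push Not at hns
  obtain ⟨C₁, hC₁, c₁, hC₁'⟩ := hns
  let S₀ : Submodule F (Fin m → Matrix (Idx k 1) (Idx k 1) F) :=
    { carrier := {C | ∀ c, Com (0 : Fin 1) (C c)}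
      add_mem' := fun ha hb c => (ha c).add (hb c)
      zero_mem' := fun c _ => Commute.zero_right _
      smul_mem' := fun s C h c => (h c).smul s }
  have hsc : ∀ {M : Matrix (Idx k 1) (Idx k 1) F}, Com (0 : Fin 1) M → ∃ r : F, M = r • 1 := fun {M} h =>
    scalar_of_com (by have := hD.hk; omega) fun l => by rwa [Subsingleton.elim l 0]
  let L : Fin m → Module.End F (Fin m → Matrix (Idx k 1) (Idx k 1) F) := fun b =>
    LinearMap.pi fun c => ((conjA (fu (0 : Fin 1) (D.uW x (e b)))).toLinearMap - 1) ∘ₗ LinearMap.proj c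
  have hconjΨ : ∀ (g : GL (Fin k) F), D.SG g → ∀ C ∈ Ψ, (fun c => conjA (fu (0 : Fin 1) g) (C c)) ∈ Ψ :=
    fun g hg C hC => hmem.2 (conj_left hG H (by rw [psiU_fu]; exact hG.sg hD le_rfl _ hg) (hmem.1 hC))
  obtain ⟨C₂, hC₂, hC₂0, hfix⟩ := OOTensor.exists_fixed_mod (I := Fin m) L (fun b => by
      obtain ⟨j, hj⟩ := H.conj_nilpotent (0 : Fin 1) b
      refine ⟨j, LinearMap.ext fun C => funext fun c => ?_⟩
      have : ∀ (j : ℕ) (C : Fin m → Matrix (Idx k 1) (Idx k 1) F) (c : Fin m), ((L b) ^ j) C c =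
          (((conjA (fu (0 : Fin 1) (D.uW x (e b)))).toLinearMap - 1) ^ j) (C c) := by
        intro j
        induction j with
        | zero => intro C c; rfl
        | succ j ih => intro C c; rw [pow_succ, pow_succ, Module.End.mul_apply, Module.End.mul_apply, ih]; rfl
      rw [this, hj]
      rfl)
    (fun b b' => LinearMap.ext fun C => funext fun c => by
      show conjA _ (conjA _ (C c) - C c) - (conjA _ (C c) - C c) =
        conjA _ (conjA _ (C c) - C c) - (conjA _ (C c) - C c)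
      rw [map_sub, map_sub, ← conjA_mul, ← conjA_mul, ← map_mul, ← map_mul, D.uW_mul H.xx (H.xe b) (H.xe b'),
        D.uW_mul H.xx (H.xe b') (H.xe b), add_comm (e b') (e b)]
      abel)
    S₀ Ψ (fun b C hC c => by
      show Com _ (conjA _ (C c) - C c)
      rw [conjA_fu_com (hC c), sub_self]
      exact fun _ => Commute.zero_right _)
    (fun b C hC => Ψ.sub_mem (hconjΨ _ (H.sg_uW b) C hC) hC)
    ⟨C₁, hC₁, fun h => by obtain ⟨r, hr⟩ := hsc (h c₁); exact hC₁' r hr⟩
  have hshape : ∀ c, ∃ r d : F, C₂ c = r • 1 + fa (0 : Fin 1) (d • D.sW x) := by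
    intro c
    obtain ⟨C', E', B', hC', hE', hB', hform, -, -, -⟩ := H.decomp (i := (0 : Fin (0 + 1))) (Z := ⊤)
      (X := C₂ c) (fun _ _ _ _ => trivial) trivial (fun b => hfix b c)
    obtain ⟨r, rfl⟩ := hsc hC'
    obtain ⟨d, rfl⟩ := hsc hE'
    refine ⟨r, d, ?_⟩
    have hN : D.adT (∑ b, fa (0 : Fin (0 + 1)) (D.nW x (e b)) * B' b) =
        -∑ b, fa (0 : Fin (0 + 1)) (D.nW x (e b)) * B' b := by
      have h0 : ∀ b, ∃ s : F, B' b = s • 1 := fun b => hsc (hB' b)
      choose s hs using h0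
      simp only [hs, mul_smul_comm, mul_one, ← map_smul, ← map_sum, adT_fa]
      rw [← map_neg]
      congr 1
      ext p q
      simp only [ad, Matrix.of_apply, Matrix.sum_apply, Matrix.smul_apply, smul_eq_mul, Matrix.neg_apply,
        Finset.mul_sum, Finset.sum_mul, ← Finset.sum_neg_distrib]
      refine Finset.sum_congr rfl fun b _ => ?_
      have := congrFun (congrFun (D.ad_nW x (e b)) p) q
      simp only [ad, Matrix.of_apply, Matrix.neg_apply] at this
      linear_combination (s b) * this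
    have hself := coef_self hG hD ht hlose H (hmem.1 hC₂) c
    rw [hform, adT_add, adT_add, D.adT_smul, D.adT_one, hN, mul_smul_comm, mul_one, D.adT_smul, adT_fa, ad_sW] at hself
    have hN0 : (∑ b, fa (0 : Fin (0 + 1)) (D.nW x (e b)) * B' b) = 0 := by
      have : (2 : F) • ∑ b, fa (0 : Fin (0 + 1)) (D.nW x (e b)) * B' b = 0 := by
        linear_combination (norm := module) -hself
      exact (smul_eq_zero.1 this).resolve_left D.h2
    rw [hform, hN0, add_zero, mul_smul_comm, mul_one, map_smul]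
  choose r d hrd using hshape
  have hd : (fun c => fa (0 : Fin 1) (d c • D.sW x)) ∈ Ψ := by
    convert Ψ.sub_mem hC₂ (hscal r) using 1
    funext c
    rw [Pi.sub_apply, hrd, add_sub_cancel_left]
  obtain ⟨g, hg, gx, gf⟩ := H.exists_exch
  have hd' := hconjΨ g hg _ hd
  have h1 := coef_bracket hG hD ht hlose H (hmem.1 hd) (hmem.1 hd')
  simp only [acts_fu (0 : Fin 1) g _, map_smul, D.conj_sW hg.iso, gx] at h1
  set N := fa (0 : Fin 1) (D.sW x) * fa (0 : Fin 1) (D.sW f) - fa (0 : Fin 1) (D.sW f) * fa (0 : Fin 1) (D.sW x)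
    with hNdef
  have h3 : (∑ c, d c * d c / D.formW (e c) (e c)) • N = 0 := by
    rw [Finset.sum_smul]
    refine Eq.trans (Finset.sum_congr rfl fun c _ => ?_) h1
    simp only [hNdef, smul_mul_assoc, mul_smul_comm, smul_smul, ← smul_sub]
    congr 1
    ring
  have hN0 : N ≠ 0 := fun h => by
    rw [hNdef, ← map_mul, ← map_mul, ← map_sub, ← map_zero (fa (F := F) (m := k) (0 : Fin 1))] at h
    have h4 := congrArg (· *ᵥ f) (fa_injective (by have := hD.hk; omega) _ h)
    simp [Matrix.sub_mulVec, ← Matrix.mulVec_mulVec, sW_mulVec, H.xf, H.fx, H.ff, H.f0, H.x0] at h4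
  have hq := (smul_eq_zero.1 h3).resolve_right hN0
  set v := ∑ c, (d c / D.formW (e c) (e c)) • e c with hv
  have hve : ∀ c, D.formW v (e c) = d c := fun c => by
    rw [D.formW_symm, hv, map_sum, Finset.sum_eq_single c (fun b _ hb => by
      rw [map_smul, H.orth c b hb.symm, smul_zero]) (fun h => absurd (Finset.mem_univ _) h), map_smul, smul_eq_mul,
      div_mul_cancel₀ _ (H.ne c)]
  have hvv : D.formW v v = 0 := by
    rw [← hq]
    conv_lhs => arg 2; rw [hv]
    rw [map_sum]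
    exact Finset.sum_congr rfl fun c _ => by rw [map_smul, hve, smul_eq_mul]; ring
  have hmemv := (hD.np.resolve_left hk6) x v H.xx hvv (by simp [hv, H.xe]) H.x0
  obtain ⟨s, hs⟩ := Submodule.mem_span_singleton.1 hmemv
  refine hC₂0 fun c => ?_
  have h5 := congrArg (D.formW (e c)) hs
  rw [map_smul, H.ex, smul_zero, hv, map_sum, Finset.sum_eq_single c (fun b _ hb => by
    rw [map_smul, H.orth c b hb.symm, smul_zero]) (fun h => absurd (Finset.mem_univ _) h), map_smul, smul_eq_mul,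
    div_mul_cancel₀ _ (H.ne c)] at h5
  rw [hrd, ← h5, zero_smul, map_zero, add_zero]
  exact com_scalar _ _

/-- The radical consists of Siegel elements of the factor. -/
theorem radical (hm : k ≤ m + 2) {g : GL (Idx k (t + 1)) F} (hg : g ∈ G) (hu : Unip (D.ten i) x g) :
    ∃ a, D.formW x a = 0 ∧ g = fu i (D.uW x a) := by
  have hall : ∀ w ∈ perp2 D.formW ⊤ x f,
      (D.ten i).cof f g w ∈ Submodule.span F {(1 : Module.End F (Idx k t → F))} := fun w hw => by
    rw [H.perp_eq hw, map_sum]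
    refine Submodule.sum_mem _ fun b _ => ?_
    rw [map_smul]
    refine Submodule.smul_mem _ _ (Submodule.mem_span_singleton.2 ?_)
    obtain ⟨c, hc⟩ := coef_scalar hG hD ht hlose H hm
      (C := fun b => LinearMap.toMatrix' ((D.ten i).cof f g (e b))) ⟨g, hg, hu, fun _ => rfl⟩ b
    exact ⟨c, LinearMap.toMatrix'.injective (by rw [map_smul, hc, Module.End.one_eq_id, LinearMap.toMatrix'_id])⟩
  obtain ⟨a, ha, he⟩ := OOTensor.exists_siegel_cof (D.ten i) H.hyp (by
    rw [Fintype.card_pi_const, Fintype.card_fin]; exact Nat.pow_pos (by have := hD.hk; omega)) hall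
  refine ⟨a, (mem_perp2.1 ha).2.1, ?_⟩
  rw [← D.liftR_eq]
  refine hG.unip_ext hlose H hg (by rw [D.liftR_eq]; exact hG.siegel hD i H.xx (mem_perp2.1 ha).2.1) hu
    (OOTensor.unip_siegel _ H.hyp (mem_perp2.1 ha).2.1) fun b => he _ (H.mem_perp b)

end Dia

end Cfsg.Lib.Linear.OTWreath
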