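import Cfsg.Agent.Lib.Linear.OTWreath.Core
import Cfsg.Agent.Lib.Linear.TWreath.Rich

/-!
# A long element gives the derived group
-/

set_option autoImplicit false
set_option linter.unusedSectionVars false
set_option linter.unusedSimpArgs false
set_option linter.unusedVariables false

namespace Cfsg.Lib.Linear.OTWreath

open Cfsg.Geo Cfsg.Lib.Linear.AschGen Cfsg.Lib.Linear.TWreath
open Cfsg.Lib.Linear.OOTensor (qf)
open Cfsg.Lib.Linear.SpTensor (InA)
open scoped Matrix MatrixGroups commutatorElement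

variable {F : Type*} [Field F] {k m t : ℕ}

theorem mst_one (hk : 0 < k) : mst k 1 F = ⊤ := by
  refine eq_top_iff.2 fun g _ => ⟨1, fun i => ?_⟩
  refine exists_acts hk fun X => ?_
  obtain ⟨Y, hY⟩ := mem_range_of_commute hk (i := i) (a := conjA g (fa i X)) fun Φ hΦ => by
    obtain ⟨c, rfl⟩ := scalar_of_com hk (Φ := Φ) fun l => by rwa [Subsingleton.elim l i]
    exact (Commute.one_left _).smul_left c
  exact ⟨Y, hY.symm⟩

namespace Dia

variable (D : Dia k F)

/-- The long matrix at a vector of one factor. -/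
def LMat (i : Fin (t + 1)) (z : Fin k → F) (φ : Matrix (Idx k t) (Idx k t) F) :
    Matrix (Idx k (t + 1)) (Idx k (t + 1)) F :=
  fa i (D.sW z) * psi i φ

/-- All long elements with the coefficient lie in the group. -/
def Long (G : Subgroup (GL (Idx k (t + 1)) F)) (i : Fin (t + 1)) (φ : Matrix (Idx k t) (Idx k t) F) : Prop :=
  ∀ z, D.formW z z = 0 → InM G (1 + D.LMat i z φ)

theorem LMat_mul {i : Fin (t + 1)} {z : Fin k → F} (hz : D.formW z z = 0) (φ ψ : Matrix (Idx k t) (Idx k t) F) :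
    D.LMat i z φ * D.LMat i z ψ = 0 := by
  rw [LMat, LMat, mul_assoc, ← mul_assoc (psi i φ), ← (com_psi i φ _).eq, ← mul_assoc, ← mul_assoc,
    ← map_mul, D.sW_sq hz, map_zero, zero_mul, zero_mul]

theorem conj_LMat (i : Fin (t + 1)) (g : GL (Fin k) F) (hg : g ∈ isometryGroup F (qf D.formW)) (z : Fin k → F)
    (φ : Matrix (Idx k t) (Idx k t) F) : conjA (fu i g) (D.LMat i z φ) = D.LMat i (g.val *ᵥ z) φ := by
  rw [LMat, conj_fa_mul (com_psi _ _), D.conj_sW hg]
  rfl

theorem conj_LMat_other (i : Fin (t + 1)) (l : Fin t) (g : GL (Fin k) F) (z : Fin k → F)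
    (φ : Matrix (Idx k t) (Idx k t) F) :
    conjA (fu (i.succAbove l) g) (D.LMat i z φ) = D.LMat i z (conjA (fu l g) φ) := by
  rw [LMat, map_mul, conjA_fu_com (com_fa (Fin.succAbove_ne i l) _), ← psiU_fu, conjA_psiU]
  rfl

theorem inA_of_inM {G : Subgroup (GL (Idx k (t + 1)) F)} (i : Fin (t + 1)) (z : Fin k → F)
    (φ : (Idx k t → F) →ₗ[F] (Idx k t → F)) (h : InM G (1 + D.LMat i z (LinearMap.toMatrix' φ))) :
    InA G ((D.ten i).long z φ) := by
  obtain ⟨g, hg, hgv⟩ := h
  exact ⟨g, hg, fun v => by rw [hgv, Matrix.add_mulVec, Matrix.one_mulVec, D.long_eq]; rfl⟩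

theorem inM_of_inA {G : Subgroup (GL (Idx k (t + 1)) F)} (i : Fin (t + 1)) (z : Fin k → F)
    (φ : (Idx k t → F) →ₗ[F] (Idx k t → F)) (h : InA G ((D.ten i).long z φ)) :
    InM G (1 + D.LMat i z (LinearMap.toMatrix' φ)) := by
  obtain ⟨g, hg, hgv⟩ := h
  exact ⟨g, hg, Orth.mat_ext fun v => by rw [hgv, Matrix.add_mulVec, Matrix.one_mulVec, D.long_eq]; rfl⟩

theorem sW_smul (c : F) (z : Fin k → F) : D.sW (c • z) = (c * c) • D.sW z := Orth.mat_ext fun w => by
  simp [sW_mulVec, Matrix.smul_mulVec, smul_smul]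
  module

theorem sW_zero : D.sW (0 : Fin k → F) = 0 := Orth.mat_ext fun w => by simp [sW_mulVec]

variable {D} {G : Subgroup (GL (Idx k (t + 1)) F)}

theorem Hyp.long_skew (hG : D.Hyp G) (hk : 0 < k) {i : Fin (t + 1)} {z : Fin k → F} (hz : D.formW z z = 0)
    (hz0 : z ≠ 0) {φ : Matrix (Idx k t) (Idx k t) F} (h : InM G (1 + D.LMat i z φ)) : D.adT φ = -φ := by
  obtain ⟨g, hg, hgv⟩ := h
  have h1 := D.mem_isoV.1 (hG.le hg)
  have hn : D.adT (D.LMat i z φ) = D.LMat i z (D.adT φ) := by
    rw [LMat, D.adT_mul, adT_psi, adT_fa, ad_sW, ← (com_psi i _ _).eq]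
    rfl
  rw [hgv, adT_add, D.adT_one, hn, mul_add, add_mul, add_mul, one_mul, one_mul, mul_one, D.LMat_mul hz,
    add_zero, add_assoc, add_eq_left] at h1
  rw [LMat, LMat, ← mul_add, ← map_add] at h1
  have hs : D.sW z ≠ 0 := fun h => by
    obtain ⟨w, -, hw⟩ := D.exists_partner hz hz0
    exact hz0 (by simpa [sW_mulVec, hw] using congrArg (· *ᵥ w) h)
  have h2 := eq_zero_of_fa_mul hs (com_psi i _) h1
  rw [← map_zero (psi (F := F) (m := k) i)] at h2
  exact eq_neg_of_add_eq_zero_left (psi_injective hk i h2)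

theorem Hyp.long_of_one [Fintype F] (hG : D.Hyp G) (hD : D.Good) {i : Fin (t + 1)} {z₀ : Fin k → F}
    (hz : D.formW z₀ z₀ = 0) (hz0 : z₀ ≠ 0) {φ : Matrix (Idx k t) (Idx k t) F}
    (h : InM G (1 + D.LMat i z₀ φ)) : D.Long G i φ := fun z hzz => by
  rcases eq_or_ne z 0 with rfl | hne
  · exact ⟨1, one_mem _, by rw [LMat, sW_zero, map_zero, zero_mul, add_zero, Units.val_one]⟩
  obtain ⟨g, hg, hgz⟩ := D.root_trans hD.hk z₀ z (D.qW_zero.2 hz) hz0 (D.qW_zero.2 hzz) hne
  have h1 := h.conj (hG.root hD i hg)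
  rwa [map_add, map_one, D.conj_LMat i g (Orth.root_le_iso D.spaceW ⊤ hg), hgz] at h1

theorem Long.add {i : Fin (t + 1)} {φ ψ : Matrix (Idx k t) (Idx k t) F} (h : D.Long G i φ)
    (h' : D.Long G i ψ) : D.Long G i (φ + ψ) := fun z hz => by
  have h1 := (h z hz).mul (h' z hz)
  rw [add_mul, mul_add, mul_add, one_mul, one_mul, mul_one, D.LMat_mul hz, add_zero] at h1
  rw [LMat, map_add, mul_add]
  convert h1 using 1
  simp only [LMat]
  abel

theorem Long.sq {i : Fin (t + 1)} {φ : Matrix (Idx k t) (Idx k t) F} (h : D.Long G i φ) (c : F) :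
    D.Long G i ((c * c) • φ) := fun z hz => by
  have h1 := h (c • z) (by simp [hz])
  have e : D.LMat i (c • z) φ = D.LMat i z ((c * c) • φ) := by
    rw [LMat, LMat, sW_smul, map_smul, map_smul, smul_mul_assoc, mul_smul_comm]
  rwa [e] at h1

theorem Long.neg {i : Fin (t + 1)} {φ : Matrix (Idx k t) (Idx k t) F} (h : D.Long G i φ) :
    D.Long G i (-φ) := fun z hz => by
  have h1 := (h z hz).neg (D.LMat_mul hz φ φ)
  rwa [LMat, map_neg, mul_neg, ← sub_eq_add_neg]

variable (D) in
/-- The coefficients of the long elements in the group. -/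
def longSp (G : Subgroup (GL (Idx k (t + 1)) F)) (i : Fin (t + 1)) :
    Submodule F (Matrix (Idx k t) (Idx k t) F) where
  carrier := {φ | D.Long G i φ}
  add_mem' h h' := h.add h'
  zero_mem' z _ := ⟨1, one_mem _, by rw [LMat, map_zero, mul_zero, add_zero, Units.val_one]⟩
  smul_mem' c φ h := by
    have e : c • φ = (((c + 1) / 2) * ((c + 1) / 2)) • φ + -((((c - 1) / 2) * ((c - 1) / 2)) • φ) := by
      have ec : ((c + 1) / 2) * ((c + 1) / 2) - ((c - 1) / 2) * ((c - 1) / 2) = c := by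
        field_simp [D.h2]
        ring
      conv_lhs => rw [← ec]
      module
    show D.Long G i (c • φ)
    rw [e]
    exact (h.sq _).add (h.sq _).neg

theorem mem_longSp {i : Fin (t + 1)} {φ : Matrix (Idx k t) (Idx k t) F} :
    φ ∈ D.longSp G i ↔ D.Long G i φ := Iff.rfl



/-- Symmetric matrices from singular points. -/
theorem Frame.cW_eq {x f : Fin k → F} {e : Fin m → Fin k → F} (H : D.Frame x f e) {a b : Fin k → F}
    (hab : D.formW a b = 0) :
    (D.sW (x + (a + b) - D.qW (a + b) • f) - D.sW (x - (a + b) - D.qW (a + b) • f)) +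
      (D.sW (x + (a - b) - D.qW (a - b) • f) - D.sW (x - (a - b) - D.qW (a - b) • f)) -
      (2 : F) • (D.sW (x + a - D.qW a • f) - D.sW (x - a - D.qW a • f)) =
      (-(4 * D.qW b)) • D.cW f a := by
  have h1 : D.qW (a + b) = D.qW a + D.qW b := by
    simp only [qW, D.spaceW.add, hab, add_zero]
  have h2 : D.qW (a - b) = D.qW a + D.qW b := by
    simp only [qW, sub_eq_add_neg, D.spaceW.add, D.spaceW.neg, map_neg, hab, neg_zero, add_zero]
  refine Orth.mat_ext fun w => ?_
  simp only [h1, h2, Matrix.sub_mulVec, Matrix.add_mulVec, Matrix.smul_mulVec, sW_mulVec, cW_mulVec, map_add,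
    map_sub, map_smul, LinearMap.add_apply, LinearMap.sub_apply, LinearMap.smul_apply, smul_eq_mul]
  module

theorem Frame.sing_pt {x f : Fin k → F} {e : Fin m → Fin k → F} (H : D.Frame x f e) {a : Fin k → F}
    (hxa : D.formW x a = 0) (hfa : D.formW f a = 0) :
    D.formW (x + a - D.qW a • f) (x + a - D.qW a • f) = 0 := by
  have hax : D.formW a x = 0 := by rw [D.formW_symm]; exact hxa
  have haf : D.formW a f = 0 := by rw [D.formW_symm]; exact hfa
  simp only [map_sub, map_add, map_smul, LinearMap.sub_apply, LinearMap.add_apply, LinearMap.smul_apply,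
    smul_eq_mul, H.xx, H.xf, H.fx, H.ff, hxa, hfa, hax, haf, D.qW_eq]
  field_simp [D.h2]
  ring

theorem Hyp.long_lie [Fintype F] {s : ℕ} {G : Subgroup (GL (Idx k (s + 2)) F)} (hG : D.Hyp G) (hD : D.Good)
    (hs : 1 ≤ s) (i : Fin (s + 2)) : D.Lie (D.longSp G i) := by
  refine ⟨fun l g hg φ hφ z hz => ?_, fun l u hu φ hφ z hz => ?_, fun φ ψ hφ hψ hφ2 hψ2 => ?_⟩
  · have h1 := (hφ z hz).conj (hG.sg hD (by omega) (i.succAbove l) hg)
    rwa [map_add, map_one, D.conj_LMat_other] at h1
  · have h1 := (hφ z hz).conj (hG.refl hD (by omega) (i.succAbove l) hu)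
    rwa [map_add, map_one, D.conj_LMat_other] at h1
  obtain ⟨x, hx, hx0⟩ := D.exists_sing hD.hk
  obtain ⟨m, f, e, H, -⟩ := D.exists_frame hD.hk hx hx0
  set b : Fin m := ⟨0, by have := H.two; omega⟩
  obtain ⟨c, hcb⟩ := H.other b
  set X := D.cW f (e b) with hX
  -- the radical elements
  have hrad : ∀ {φ}, φ ∈ D.longSp G i → φ * φ = 0 → InM G (1 + fa i X * psi i φ) := by
    intro φ hφ hφ2
    let P : Submodule F (Matrix (Fin k) (Fin k) F) :=
      { carrier := {M | ∀ r : F, InM G (1 + fa i M * psi i (r • φ))}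
        add_mem' := fun {M N} hM hN r => by
          have h1 := (hM r).mul (hN r)
          rw [add_mul, mul_add, mul_add, one_mul, one_mul, mul_one, mul_assoc (fa i M),
            ← mul_assoc (psi i _) (fa i N), ← (com_psi i _ N).eq, mul_assoc (fa i N), ← map_mul (psi i),
            smul_mul_smul_comm, hφ2, smul_zero, map_zero, mul_zero, mul_zero, add_zero] at h1
          rw [map_add, add_mul]
          convert h1 using 1
          abel
        zero_mem' := fun r => ⟨1, one_mem _, by rw [map_zero, zero_mul, add_zero, Units.val_one]⟩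
        smul_mem' := fun a M hM r => by
          have h1 := hM (a * r)
          rwa [mul_smul, map_smul (psi i) a, mul_smul_comm, ← smul_mul_assoc, ← map_smul] at h1 }
    have hP : ∀ z, D.formW z z = 0 → D.sW z ∈ P := fun z hz r => (D.longSp G i).smul_mem r hφ z hz
    have hdiff : ∀ a, D.formW x a = 0 → D.formW f a = 0 →
        D.sW (x + a - D.qW a • f) - D.sW (x - a - D.qW a • f) ∈ P := fun a hxa hfa => by
      refine P.sub_mem (hP _ (H.sing_pt hxa hfa)) (hP _ ?_)
      have h1 := H.sing_pt (a := -a) (by simp [hxa]) (by simp [hfa])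
      rwa [show D.qW (-a) = D.qW a from D.spaceW.neg a, ← sub_eq_add_neg] at h1
    have hmem : X ∈ P := by
      have h1 := P.sub_mem (P.add_mem (hdiff (e b + e c) (by simp [H.xe]) (by simp [H.fe]))
        (hdiff (e b - e c) (by simp [H.xe]) (by simp [H.fe]))) (P.smul_mem (2 : F) (hdiff (e b) (H.xe b) (H.fe b)))
      rw [H.cW_eq (H.orth b c hcb.symm), P.smul_mem_iff (neg_ne_zero.2 (mul_ne_zero (by
        rw [show (4 : F) = 2 * 2 by norm_num]; exact mul_ne_zero D.h2 D.h2) (H.qe c)))] at h1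
      exact h1
    have h1 := hmem 1
    rwa [one_smul] at h1
  have hXX : X * X = D.formW (e b) (e b) • D.sW f := Orth.mat_ext fun w => by
    rw [hX, ← Matrix.mulVec_mulVec, cW_mulVec, cW_mulVec, Matrix.smul_mulVec, sW_mulVec, map_add, map_smul,
      map_smul, map_add, map_smul, map_smul, H.ef, H.ff, H.fe]
    simp only [smul_eq_mul, mul_zero, add_zero, zero_add]
    module
  have hfX : D.sW f * X = 0 := Orth.mat_ext fun w => by
    rw [hX, ← Matrix.mulVec_mulVec, cW_mulVec, sW_mulVec, map_add, map_smul, map_smul, H.ff, H.fe]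
    simp
  have h1 := hrad hφ hφ2
  have h2 := hrad hψ hψ2
  set A := fa i X * psi i φ with hA
  set B := fa i X * psi i ψ with hB
  have hmm : ∀ φ ψ, fa i X * psi i φ * (fa i X * psi i ψ) = fa i (X * X) * psi i (φ * ψ) := fun φ ψ => by
    rw [map_mul, map_mul, mul_assoc, mul_assoc, ← mul_assoc (psi i φ), ← (com_psi i φ X).eq, mul_assoc]
  have h3 : ∀ φ ψ χ, fa i X * psi i φ * (fa i X * psi i ψ) * (fa i X * psi i χ) = 0 := fun φ ψ χ => by
    rw [hmm, mul_assoc, ← mul_assoc (psi i _), ← (com_psi i _ X).eq, ← mul_assoc, ← mul_assoc, ← map_mul, hXX,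
      smul_mul_assoc, hfX, smul_zero, map_zero, zero_mul, zero_mul]
  have hAA : A * A = 0 := by rw [hA, hmm, hφ2, map_zero, mul_zero]
  have hBB : B * B = 0 := by rw [hB, hmm, hψ2, map_zero, mul_zero]
  have h4 := ((h1.mul h2).mul (h1.neg hAA)).mul (h2.neg hBB)
  have hz : ∀ u v w, (u = A ∨ u = B) → (v = A ∨ v = B) → (w = A ∨ w = B) → u * (v * w) = 0 := by
    rintro u v w (rfl | rfl) (rfl | rfl) (rfl | rfl) <;> rw [← mul_assoc] <;> exact h3 _ _ _
  have e4 : (1 + A) * (1 + B) * (1 - A) * (1 - B) = 1 + (A * B - B * A) := by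
    simp only [add_mul, mul_add, mul_sub, sub_mul, one_mul, mul_one, mul_assoc, hAA, hBB,
      hz A B A (Or.inl rfl) (Or.inr rfl) (Or.inl rfl), hz A B B (Or.inl rfl) (Or.inr rfl) (Or.inr rfl),
      hz A A B (Or.inl rfl) (Or.inl rfl) (Or.inr rfl), hz B A B (Or.inr rfl) (Or.inl rfl) (Or.inr rfl),
      mul_zero, zero_mul, sub_zero, add_zero, zero_add, sub_self]
    abel
  rw [e4, hA, hB, hmm, hmm, ← mul_sub, ← map_sub, hXX] at h4
  rw [map_smul, smul_mul_assoc, ← mul_smul_comm, ← map_smul] at h4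
  have h5 := hG.long_of_one hD H.ff H.f0 (φ := D.formW (e b) (e b) • (φ * ψ - ψ * φ)) h4
  exact ((D.longSp G i).smul_mem_iff (H.ne b)).1 h5

theorem long_not_mst (hk : 4 ≤ k) {i : Fin (t + 1)} {z : Fin k → F}
    (hz : D.formW z z = 0) (hz0 : z ≠ 0) {φ : Matrix (Idx k t) (Idx k t) F} (hskew : D.adT φ = -φ)
    {g : GL (Idx k (t + 1)) F} (hgv : g.val = 1 + D.LMat i z φ) (hg : g ∈ mst k (t + 1) F) : φ = 0 := by
  obtain ⟨m, f, e, H, -⟩ := D.exists_frame hk hz hz0
  set b : Fin m := ⟨0, by have := H.two; omega⟩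
  have hgi : (g⁻¹).val = 1 - D.LMat i z φ := left_inv_eq_right_inv (Units.inv_mul g) (by
    rw [hgv, show (1 + D.LMat i z φ) * (1 - D.LMat i z φ) = 1 - D.LMat i z φ * D.LMat i z φ by noncomm_ring,
      D.LMat_mul hz, sub_zero])
  obtain ⟨σ, hσ⟩ := hg
  obtain ⟨w⟩ : Nonempty (Idx k t) := ⟨fun _ => ⟨0, by omega⟩⟩
  have hcom : ∀ l : Fin t, Com l φ := fun l X => by
    obtain ⟨a, ha⟩ := hσ (i.succAbove l)
    have hconj : ∀ Y, fa (σ (i.succAbove l)) (conjA a Y) =
        fa (i.succAbove l) Y + fa i (D.sW z) * psi i (φ * fa l Y - fa l Y * φ) := fun Y => by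
      rw [← ha Y, conjA_apply, hgv, hgi, ← psi_fa]
      have hc : ∀ (M : Matrix (Idx k t) (Idx k t) F) (N : Matrix (Fin k) (Fin k) F), psi i M * fa i N = fa i N * psi i M := fun M N => ((com_psi i M N).eq).symm
      simp only [LMat, mul_sub, add_mul, sub_mul, one_mul, mul_one, map_sub, map_mul, mul_assoc]
      simp only [← mul_assoc (psi i _) (fa i _), hc, mul_assoc]
      try simp only [← mul_assoc (psi i _) (fa i _), hc, mul_assoc]
      simp only [← mul_assoc (fa i _) (fa i _), ← map_mul, D.sW_sq hz, map_zero, zero_mul, sub_zero]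
      abel
    set j := σ (i.succAbove l)
    by_cases hji : j = i
    · exfalso
      have h1 := congrArg (sl i w w) (hconj (conjA a⁻¹ (Matrix.vecMulVec f (D.dual (e b)))))
      rw [← conjA_mul, mul_inv_cancel, conjA_one, hji, map_add, ← psi_fa, sl_psi, sl_fa_psi] at h1
      have e2 : sl i w w (fa i (Matrix.vecMulVec f (D.dual (e b)))) = Matrix.vecMulVec f (D.dual (e b)) := by
        have := sl_fa_psi i w w (Matrix.vecMulVec f (D.dual (e b))) 1
        simpa using this
      rw [e2] at h1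
      have h2 := congrArg (fun M => D.formW z (M *ᵥ e b)) h1
      simp [Matrix.add_mulVec, Matrix.smul_mulVec, vmv_mulVec, sW_mulVec, H.xf, H.xe, H.xx] at h2
      exact H.ne b h2
    · have h1 : Com i (fa i (D.sW z) * psi i (φ * fa l X - fa l X * φ)) := by
        rw [show fa i (D.sW z) * psi i (φ * fa l X - fa l X * φ) =
            fa j (conjA a X) - fa (i.succAbove l) X by rw [hconj X, add_sub_cancel_left]]
        exact (com_fa (Ne.symm hji) _).sub (com_fa (Fin.succAbove_ne i l).symm _)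
      have h2 : fa i (Matrix.vecMulVec f (D.dual f) * D.sW z - D.sW z * Matrix.vecMulVec f (D.dual f)) *
          psi i (φ * fa l X - fa l X * φ) = 0 := by
        rw [map_sub, map_mul, map_mul, sub_mul, mul_assoc, (h1 _).eq, sub_eq_zero, mul_assoc, mul_assoc,
          ← (com_psi i _ _).eq]
      have hne : Matrix.vecMulVec f (D.dual f) * D.sW z - D.sW z * Matrix.vecMulVec f (D.dual f) ≠ 0 := fun h => by
        have h3 := congrArg (· *ᵥ f) h
        simp [Matrix.sub_mulVec, ← Matrix.mulVec_mulVec, vmv_mulVec, sW_mulVec, H.xf, H.fx, H.ff, H.f0] at h3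
      have h3 := eq_zero_of_fa_mul hne (com_psi i _) h2
      rw [← map_zero (psi (F := F) (m := k) i)] at h3
      exact (sub_eq_zero.1 (psi_injective (by omega) i h3)).symm
  obtain ⟨c, hc⟩ := scalar_of_com (by omega) hcom
  rw [hc] at hskew ⊢
  rw [D.adT_smul, D.adT_one] at hskew
  have h1 := congrFun (congrFun hskew w) w
  simp at h1
  have : c = 0 := by
    have h2 : (2 : F) * c = 0 := by linear_combination h1
    exact (mul_eq_zero.1 h2).resolve_left D.h2
  rw [this, zero_smul]

/-- A long element gives the whole derived group. -/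
theorem Hyp.omega_le_of_long [Fintype F] (hG : D.Hyp G) (hD : D.Good) (ht : 1 ≤ t)
    (IH : ∀ G' : Subgroup (GL (Idx k t) F), D.Hyp G' → G' ≤ mst k t F ∨ D.omV t ≤ G')
    {i : Fin (t + 1)} {z : Fin k → F} (hz : D.formW z z = 0) (hz0 : z ≠ 0)
    {φ : Matrix (Idx k t) (Idx k t) F} (hφ : φ ≠ 0) (h : InM G (1 + D.LMat i z φ)) :
    D.omV (t + 1) ≤ G := by
  have hk := hD.hk
  have hk0 : 0 < k := by omega
  have hcard : k ≤ Fintype.card (Idx k t) := by
    rw [Fintype.card_pi_const, Fintype.card_fin]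
    exact Nat.le_self_pow (by omega) k
  -- a factor whose cut is full and which carries a long element
  obtain ⟨j, hj, φ', hφ'0, hφ'⟩ : ∃ j, (∀ u a, qf (D.formT t) u = 0 → D.formT t u a = 0 →
      (D.ten j).swap.liftR (Orth.sGL (qf (D.formT t)) (D.formT t) u a) ∈ G) ∧
      ∃ φ' : Matrix (Idx k t) (Idx k t) F, φ' ≠ 0 ∧ D.Long G j φ' := by
    rcases (show t = 1 ∨ 2 ≤ t by omega) with rfl | ht2
    · refine ⟨i, fun u a hu hua => hG.mem ⟨?_, ?_⟩, φ, hφ, hG.long_of_one hD hz hz0 h⟩
      · rw [D.liftL_eq]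
        exact psiU_mem_mst i (by rw [mst_one hk0]; trivial)
      · rw [D.omV_eq]
        exact OOTensor.liftR_mem_comm (D.ten i).swap (le_trans (by omega) hcard) hu hua
    obtain ⟨s, rfl⟩ : ∃ s, t = s + 1 := ⟨t - 1, by omega⟩
    obtain ⟨X, hX, hX0, l, hl⟩ := (hG.long_lie hD (by omega) i).exists_com hD (by omega)
      ⟨φ, mem_longSp.2 (hG.long_of_one hD hz hz0 h), hφ⟩
    set l' := i.succAbove l
    have hcut : D.omV (s + 1) ≤ G.comap (psiU l') := by
      refine (IH _ (hG.comap_psiU l' hk0)).resolve_left fun hle => hX0 ?_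
      obtain ⟨g, hg, hgv⟩ := mem_longSp.1 hX z hz
      have hcomg : Com l' g.val := fun Y => by
        rw [hgv]
        refine (Commute.one_right _).add_right ((fa_comm (Fin.succAbove_ne i l) _ _).mul_right ?_)
        rw [← psi_fa]
        exact (hl Y).map (psi i)
      have hact : Acts g l' l' 1 := fun Y => by
        rw [conjA_apply, ← (hcomg Y).eq, mul_assoc, Units.mul_inv, mul_one, conjA_one]
      obtain ⟨Y, rfl⟩ := exists_split hk0 hact
      rw [map_one, one_mul] at hg hgv
      exact long_not_mst hk hz hz0 (hG.long_skew hk0 hz hz0 ⟨_, hg, hgv⟩) hgv (psiU_mem_mst l' (hle hg))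
    obtain ⟨p, hpi, hpl⟩ := TWreath.exists_third (m := s + 2) (by omega) i l'
    have hil : i ≠ l' := (Fin.succAbove_ne i l).symm
    set π := ⁅Equiv.swap i p, Equiv.swap p l'⁆ with hπ
    have hπi : π i = l' := by
      rw [hπ, commutatorElement_def, Equiv.swap_inv, Equiv.swap_inv]
      simp only [Equiv.Perm.coe_mul, Function.comp_apply]
      rw [Equiv.swap_apply_of_ne_of_ne hpi.symm hil, Equiv.swap_apply_left, Equiv.swap_apply_left,
        Equiv.swap_apply_of_ne_of_ne hil.symm hpl.symm]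
    have hperm := hG.perm (Equiv.swap i p) (Equiv.swap p l')
    rw [← hπ] at hperm
    have hact : Acts (permGL π : GL (Idx k (s + 2)) F) i l' 1 := hπi ▸ acts_permGL π i
    refine ⟨l', fun u a hu hua => ?_, ?_⟩
    · rw [D.liftL_eq]
      refine hcut ?_
      rw [D.omV_eq]
      refine Orth.sGL_mem_comm (D.space (s + 1)) ?_ hu hua
      rw [Fintype.card_pi_const, Fintype.card_fin]
      exact le_trans (by omega) (Nat.pow_le_pow_left hk (s + 1) |>.trans' (Nat.pow_le_pow_right (show 0 < 4 by norm_num) (show 2 ≤ s + 1 by omega)))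
    obtain ⟨ψ, hψ⟩ := exists_psi hk0 l' (hact.com (com_psi i φ))
    refine ⟨ψ, fun h0 => hφ ?_, hG.long_of_one hD hz hz0 ?_⟩
    · rw [h0, map_zero] at hψ
      refine psi_injective hk0 i ((conjA (permGL π : GL (Idx k (s + 2)) F)).injective ?_)
      rw [← hψ, map_zero, map_zero]
    · have h1 := h.conj hperm
      rw [map_add, map_one, LMat, map_mul, hact, conjA_one, ← hψ] at h1
      exact h1
  obtain ⟨z', hz', hz'0⟩ := D.exists_sing hk
  have hover : OOTensor.Over (D.ten j) G :=
    ⟨hG.le, fun x a hx ha => by rw [D.liftR_eq]; exact hG.siegel hD j (D.qW_zero.1 hx) ha, hj⟩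
  have hwin : ¬ OOTensor.Losing (D.ten j) G := fun hlose => hφ'0 <| by
    have := hlose z' (Matrix.toLin' φ') (D.qW_zero.2 hz') hz'0
      (D.inA_of_inM j z' _ (by rw [LinearMap.toMatrix'_toLin']; exact hφ' z' hz'))
    exact Matrix.toLin'.injective (by rw [this, map_zero])
  have hU : 5 ≤ Fintype.card (Idx k t) ∨ ∀ a b, qf (D.formT t) a = 0 → qf (D.formT t) b = 0 →
      D.formT t a b = 0 → a ≠ 0 → b ∈ Submodule.span F {a} := by
    rcases hD.np with hk5 | hnp
    · exact Or.inl (le_trans hk5 hcard)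
    rcases (show t = 1 ∨ 2 ≤ t by omega) with rfl | ht2
    swap
    · refine Or.inl ?_
      rw [Fintype.card_pi_const, Fintype.card_fin]
      exact le_trans (by norm_num) ((Nat.pow_le_pow_right (show 0 < 4 by norm_num) ht2).trans (Nat.pow_le_pow_left hk t))
    refine Or.inr fun a b ha hb hab ha0 => ?_
    let r : (Idx k 1 → F) → (Fin k → F) := fun a p => a fun _ => p
    have hr : ∀ a b, D.formW (r a) (r b) = D.formT 1 a b := fun a b => by
      rw [formW_apply, formT_apply, ← Equiv.sum_comp (Equiv.funUnique (Fin 1) (Fin k)).symm]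
      refine Finset.sum_congr rfl fun p _ => ?_
      simp only [dT, Fin.prod_univ_one, r]
      rfl
    have hinj : Function.Injective r := fun a b hab => funext fun v => by
      have := congrFun hab (v 0)
      simp only [r] at this
      rwa [show (fun _ : Fin 1 => v 0) = v from funext fun l => by rw [Subsingleton.elim l 0]] at this
    have hz2 : ∀ {a}, qf (D.formT 1) a = 0 → D.formW (r a) (r a) = 0 := fun {a} ha => by
      rw [hr]; simpa [qf, D.h2] using ha
    obtain ⟨c, hc⟩ := Submodule.mem_span_singleton.1 (hnp (r a) (r b) (hz2 ha) (hz2 hb) (by rw [hr]; exact hab)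
      fun h0 => ha0 (hinj (h0.trans rfl)))
    exact Submodule.mem_span_singleton.2 ⟨c, hinj (by rw [← hc]; rfl)⟩
  have hroot := OOTensor.root_le_of_long (D.ten j) (le_trans (by omega) hcard) (by rw [Fintype.card_fin]; omega)
    hover fun {x} hx hx0 {ψ} hψ => OOTensor.long_all' (D.ten j) (le_trans (by omega) hcard) hU
      (fun a b ha ha0 hb hb0 => D.root_trans hk a b ha ha0 hb hb0) hover hwin hx hx0 hψ
  have h5 : 5 ≤ Fintype.card (Idx k (t + 1)) := by
    rw [Fintype.card_pi_const, Fintype.card_fin]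
    exact le_trans (by norm_num) ((Nat.pow_le_pow_right (show 0 < 4 by norm_num) (show 2 ≤ t + 1 by omega)).trans (Nat.pow_le_pow_left hk (t + 1)))
  show omegaGL (D.quadT (t + 1)) ≤ G
  rw [Orth.omegaGL_eq (D.space (t + 1)) h5]
  exact hroot

end Dia

end Cfsg.Lib.Linear.OTWreath
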