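import Cfsg.Agent.Lib.Linear.OTWreath.Radical
import Mathlib.NumberTheory.LegendreSymbol.QuadraticChar.Basic

/-!
# A sign change outside the stabiliser; the cuts of a group without long elements
-/

set_option autoImplicit false
set_option linter.unusedSectionVars false
set_option linter.unusedSimpArgs false
set_option linter.unusedVariables false
set_option linter.style.haveILetI false

namespace Cfsg.Lib.Linear.OTWreath

open Cfsg.Geo Cfsg.Lib.Linear.AschGen Cfsg.Lib.Linear.TWreath
open Cfsg.Lib.Linear.OWreath (tens tens_apply fa_tens psi_tens)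
open Cfsg.Lib.Linear.OOTensor (qf)
open Cfsg.Lib.Linear.SpTensor (InA)
open scoped Matrix MatrixGroups

variable {F : Type*} [Field F] {k t : ℕ}

theorem square_pair [Fintype F] {c₁ c₂ c₃ : F} (h1 : c₁ ≠ 0) (h2 : c₂ ≠ 0) (h3 : c₃ ≠ 0) :
    IsSquare (c₁ * c₂) ∨ IsSquare (c₁ * c₃) ∨ IsSquare (c₂ * c₃) := by
  classical
  by_contra h
  push Not at h
  obtain ⟨n1, n2, n3⟩ := h
  rw [← quadraticChar_neg_one_iff_not_isSquare] at n1 n2 n3
  rw [map_mul] at n1 n2 n3
  rcases quadraticChar_dichotomy h1 with a | a <;> rcases quadraticChar_dichotomy h2 with b | b <;>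
    rcases quadraticChar_dichotomy h3 with c | c <;> simp [a, b, c] at n1 n2 n3

namespace Dia

variable (D : Dia k F)

theorem quadT_single (a : Idx k t) : D.quadT t (Pi.single a 1) = (2 : F)⁻¹ * D.dT a := by
  show qf (D.formT t) _ = _
  rw [qf, D.formT_single, Pi.single_eq_same, mul_one]

/-- The change of sign at two basis vectors. -/
theorem exists_sign_pair [Fintype F] (hk : 2 ≤ k ^ t) {a b : Idx k t} (hab : a ≠ b)
    (hsq : IsSquare (D.dT a * D.dT b)) : ∃ c ∈ D.omV t,
      c.val = Matrix.diagonal (fun z => if z = a ∨ z = b then (-1 : F) else 1) := by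
  have C := D.space t
  have hq : ∀ z, D.quadT t (Pi.single z (1 : F)) ≠ 0 := fun z => by
    rw [quadT_single]; exact mul_ne_zero (inv_ne_zero D.h2) (D.dT_ne z)
  set g := Orth.rGL (D.quadT t) (Pi.single a (1 : F)) * Orth.rGL (D.quadT t) (Pi.single b (1 : F))
  have hval : g.val = Matrix.diagonal (fun z => if z = a ∨ z = b then (-1 : F) else 1) := by
    refine Orth.mat_ext fun v => ?_
    rw [Orth.mul_act, Orth.rGL_act C (hq b), Orth.rGL_act C (hq a), quadT_single, quadT_single]
    simp only [map_sub, map_smul, smul_eq_mul, D.formT_single, Pi.single_eq_of_ne hab, mul_zero, sub_zero]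
    funext z
    simp only [Matrix.mulVec_diagonal, Pi.sub_apply, Pi.smul_apply, smul_eq_mul, Pi.single_apply]
    have ha := D.dT_ne a
    have hb := D.dT_ne b
    rcases eq_or_ne z a with rfl | hza
    · rw [if_pos rfl, if_neg hab, if_pos (Or.inl rfl)]
      field_simp [D.h2]
      ring
    rcases eq_or_ne z b with rfl | hzb
    · rw [if_neg hza, if_pos rfl, if_pos (Or.inr rfl)]
      field_simp [D.h2]
      ring
    · rw [if_neg hza, if_neg hzb, if_neg (not_or.2 ⟨hza, hzb⟩)]
      ring
  refine ⟨g, ?_, hval⟩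
  have hh := (Orth.refl_prod_mem_omega_iff C D.h2 (by rwa [Fintype.card_pi_const, Fintype.card_fin])
    [Pi.single a 1, Pi.single b 1] (by simp [hq])
    ⟨g, mul_mem (Orth.rGL_mem C (hq a)) (Orth.rGL_mem C (hq b))⟩
    (by simp [g, Orth.rGL_val C (hq a), Orth.rGL_val C (hq b)])).2
    ⟨by simp, by
      obtain ⟨r, hr⟩ := hsq
      exact ⟨(2 : F)⁻¹ * r, by simp [quadT_single]; linear_combination ((2 : F)⁻¹ * (2 : F)⁻¹) * hr⟩⟩
  exact ⟨_, hh, rfl⟩

/-- Such an element lies outside the stabiliser. -/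
theorem sign_not_mst (hk : 3 ≤ k) (ht : 2 ≤ t) {a b : Idx k t} (hab : a ≠ b) (h2 : (2 : F) ≠ 0)
    {c : GL (Idx k t) F} (hc : c.val = Matrix.diagonal (fun z => if z = a ∨ z = b then (-1 : F) else 1)) :
    c ∉ mst k t F := by
  intro hm
  set s : Idx k t → F := fun z => if z = a ∨ z = b then (-1 : F) else 1 with hs
  have hs2 : ∀ z, s z * s z = 1 := fun z => by simp only [s]; split_ifs <;> ring
  obtain ⟨σ, hσ⟩ := hm
  obtain ⟨l, hl⟩ : ∃ l, a l ≠ b l := Function.ne_iff.1 hab
  obtain ⟨q, hqa, hqb⟩ := TWreath.exists_third hk (a l) (b l)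
  obtain ⟨g, hg⟩ := hσ l
  set j := σ l
  set p := a l
  set Y := conjA g (Matrix.single p q (1 : F))
  have hinv : (c⁻¹).val = Matrix.diagonal s := left_inv_eq_right_inv (Units.inv_mul c) (by
    rw [hc, Matrix.diagonal_mul_diagonal]
    simp [hs2, Matrix.diagonal_one])
  have key : ∀ x y, fa j Y x y = s x * fa l (Matrix.single p q (1 : F)) x y * s y := fun x y => by
    have h1 := congrFun (congrFun (hg (Matrix.single p q (1 : F))) x) y
    rw [conjA_apply, hc, hinv, Matrix.mul_diagonal, Matrix.diagonal_mul] at h1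
    exact h1.symm
  have hval : ∀ z : Idx k t, fa j Y (Function.update z l p) (Function.update z l q) =
      s (Function.update z l p) * s (Function.update z l q) := fun z => by
    rw [key, fa_apply l, powStd_apply, if_pos fun i hi => by simp [Function.update_of_ne hi]]
    simp
  have hj : j = l := by
    by_contra hne
    have h1 := hval a
    rw [fa_apply, powStd_apply, if_neg fun h => ?_] at h1
    · have h2 := congrArg (fun r => r * (s (Function.update a l p) * s (Function.update a l q))) h1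
      simp only [zero_mul] at h2
      rw [show ∀ u v : F, u * v * (u * v) = u * u * (v * v) from fun u v => by ring, hs2, hs2, one_mul] at h2
      exact zero_ne_one h2
    · have := h l (Ne.symm hne)
      simp at this
      exact hqa this.symm
  rw [hj] at hval
  have hconst : ∀ z : Idx k t, fa l Y (Function.update z l p) (Function.update z l q) = Y p q := fun z => by
    rw [fa_apply, powStd_apply, if_pos fun i hi => by simp [Function.update_of_ne hi]]
    simp
  simp only [hconst] at hval
  have hsq : ∀ z : Idx k t, s (Function.update z l q) = 1 := fun z => by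
    simp only [s]
    rw [if_neg]
    rintro (h | h)
    · exact hqa (by simpa using congrFun h l)
    · exact hqb (by simpa using congrFun h l)
  obtain ⟨l', hl'⟩ : ∃ l', l' ≠ l := by
    haveI : Nontrivial (Fin t) := Fin.nontrivial_iff_two_le.2 ht
    exact exists_ne l
  obtain ⟨r, hr, -⟩ := TWreath.exists_third hk (a l') (a l')
  have h1 := hval a
  have h3 := hval (Function.update a l' r)
  rw [hsq, mul_one] at h1 h3
  rw [show s (Function.update a l p) = -1 by simp [s, p]] at h1
  rw [show s (Function.update (Function.update a l' r) l p) = 1 by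
    simp only [s]
    rw [if_neg]
    rintro (h | h)
    · have := congrFun h l'
      rw [Function.update_of_ne hl', Function.update_self] at this
      exact hr this
    · exact hl (by simpa using congrFun h l), h1] at h3
  exact h2 (by linear_combination -h3)

/-- The derived group is not inside the stabiliser. -/
theorem exists_sign_not_mst [Fintype F] (hk : 3 ≤ k) (ht : 2 ≤ t) : ∃ c ∈ D.omV t,
    c ∉ mst k t F ∧ ∃ s : Idx k t → F, c.val = Matrix.diagonal s := by
  obtain ⟨r₁, r₂, r₃, h12, h13, h23⟩ : ∃ r₁ r₂ r₃ : Idx k t, r₁ ≠ r₂ ∧ r₁ ≠ r₃ ∧ r₂ ≠ r₃ := by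
    refine ⟨fun _ => ⟨0, by omega⟩, fun _ => ⟨1, by omega⟩, fun _ => ⟨2, by omega⟩, ?_, ?_, ?_⟩ <;>
    · intro h
      have := congrFun h ⟨0, by omega⟩
      simp [Fin.ext_iff] at this
  obtain ⟨a, b, hab, hsq⟩ : ∃ a b, a ≠ b ∧ IsSquare (D.dT a * D.dT b) := by
    rcases square_pair (D.dT_ne r₁) (D.dT_ne r₂) (D.dT_ne r₃) with h | h | h
    · exact ⟨_, _, h12, h⟩
    · exact ⟨_, _, h13, h⟩
    · exact ⟨_, _, h23, h⟩
  have h2 : 2 ≤ k ^ t := le_trans (by omega) (Nat.le_self_pow (by omega) k)
  obtain ⟨c, hc, hv⟩ := D.exists_sign_pair h2 hab hsq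
  exact ⟨c, hc, sign_not_mst hk ht hab D.h2 hv, _, hv⟩

variable {D}

/-- A full cut gives a long element at another factor. -/
theorem Hyp.not_cut_full [Fintype F] {s : ℕ} (hs : 1 ≤ s) {G : Subgroup (GL (Idx k (s + 2)) F)} (hG : D.Hyp G)
    (hD : D.Good) (hlose : ∀ i, D.Lose G i) (j : Fin (s + 2)) :
    ¬ D.omV (s + 1) ≤ G.comap (psiU j) := by
  intro hle
  have hk := hD.hk
  obtain ⟨z, hz, hz0⟩ := D.exists_sing hk
  -- two different vectors of the other factors
  set c₀ : Idx k s := fun _ => ⟨0, by omega⟩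
  have T := D.ten (0 : Fin (s + 1))
  set c₁ : Idx k s := fun _ => ⟨1, by omega⟩
  have hne : c₀ ≠ c₁ := fun h => by simpa [c₀, c₁, Fin.ext_iff] using congrFun h ⟨0, hs⟩
  set v : Idx k s → F := Pi.single c₀ 1
  set v' : Idx k s → F := Pi.single c₁ 1
  set u : Idx k (s + 1) → F := tens 0 v z
  set a : Idx k (s + 1) → F := tens 0 v' z
  have hu : D.formT (s + 1) u u = 0 := by rw [D.tens_pair, hz, mul_zero]
  have hua : D.formT (s + 1) u a = 0 := by rw [D.tens_pair, hz, mul_zero]
  have haa : D.formT (s + 1) a a = 0 := by rw [D.tens_pair, hz, mul_zero]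
  have hq : D.quadT (s + 1) u = 0 := by show qf (D.formT (s + 1)) u = 0; simp [qf, hu]
  have hqa : D.quadT (s + 1) a = 0 := by show qf (D.formT (s + 1)) a = 0; simp [qf, haa]
  have hmem : Orth.sGL (D.quadT (s + 1)) (D.formT (s + 1)) u a ∈ D.omV (s + 1) := by
    rw [D.omV_eq]
    refine Orth.sGL_mem_comm (D.space (s + 1)) ?_ hq hua
    rw [Fintype.card_pi_const, Fintype.card_fin]
    exact le_trans (by omega) ((Nat.pow_le_pow_right (show 0 < 4 by norm_num) (show 2 ≤ s + 1 by omega)).trans
      (Nat.pow_le_pow_left hk (s + 1)))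
  let φ : (Idx k s → F) →ₗ[F] (Idx k s → F) :=
    (D.formT s v).smulRight v' - (D.formT s v').smulRight v
  have hlong : InA (G.comap (psiU j)) (T.long z φ) := ⟨_, hle hmem, fun w => by
    refine LinearMap.congr_fun ((D.ten (0 : Fin (s + 1))).hom_ext
      (f := Matrix.mulVecLin (Orth.sGL (D.quadT (s + 1)) (D.formT (s + 1)) u a).val)
      (g := LinearMap.id + T.long z φ) fun c r => ?_) w
    rw [Matrix.mulVecLin_apply, Orth.sGL_act (D.space (s + 1)) hq hua, hqa, LinearMap.add_apply,
      LinearMap.id_apply, T.long_tau, D.tens_pair, D.tens_pair]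
    simp only [φ, LinearMap.sub_apply, LinearMap.smulRight_apply, map_sub, map_smul, LinearMap.smul_apply,
      u, a, D.formW_symm r z]
    module⟩
  obtain ⟨g, hg, hgv⟩ := D.inM_of_inA (G := G.comap (psiU j)) 0 z φ hlong
  set Φ := LinearMap.toMatrix' φ
  set i := j.succAbove (0 : Fin (s + 1))
  obtain ⟨χ, hχ⟩ := exists_psi (by omega : 0 < k) i (Φ := psi j (psi (0 : Fin (s + 1)) Φ)) fun X => by
    rw [← psi_fa]
    exact (com_psi (0 : Fin (s + 1)) Φ X).map (psi j)
  have h1 : InM G (1 + D.LMat i z χ) := ⟨psiU j g, hg, by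
    rw [psiU_val, hgv, map_add, map_one]
    simp only [LMat, map_mul, hχ, psi_fa, i]⟩
  have h2 := hlose i z χ hz hz0 h1
  rw [h2, map_zero, ← map_zero (psi (F := F) (m := k) j)] at hχ
  have h3 := psi_injective (by omega) j hχ.symm
  rw [← map_zero (psi (F := F) (m := k) (0 : Fin (s + 1)))] at h3
  have h4 : Φ *ᵥ v = 0 := by rw [psi_injective (by omega) _ h3, Matrix.zero_mulVec]
  have h5 : D.dT c₀ = 0 := by
    have := congrFun h4 c₁
    simpa [Φ, LinearMap.toMatrix'_mulVec, φ, v, v', D.formT_single, Pi.single_apply, hne, hne.symm] using this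
  exact D.dT_ne _ h5

end Dia

end Cfsg.Lib.Linear.OTWreath
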