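import Cfsg.Agent.Lib.Linear.OTWreath.Line
import Cfsg.Agent.Lib.Linear.OTPow.Perm

/-!
# Conjugates of a Siegel element in the stabiliser

They are Siegel-like elements of one factor.
-/

set_option autoImplicit false
set_option linter.unusedSectionVars false
set_option linter.unusedSimpArgs false
set_option linter.unusedVariables false
set_option linter.style.haveILetI false
set_option linter.unnecessarySeqFocus false

namespace Cfsg.Lib.Linear.OTWreath

open Module Cfsg.Geo Cfsg.Lib.Linear.AschGen Cfsg.Lib.Linear.TWreath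
open Cfsg.Lib.Linear.OWreath (tens fa_tens psi_tens)
open Cfsg.Lib.Linear.OOTensor (qf Ten)
open scoped Matrix MatrixGroups

variable {F : Type*} [Field F] {k t : ℕ}

variable {p : ℕ} [Fact p.Prime] [CharP F p]

/-- In characteristic three the square of the displacement is large. -/
theorem cycle_four (hk : k = 4) {Y : GL (Idx k (t + 1)) F} {j l m : Fin (t + 1)} (hjl : j ≠ l)
    (hjm : j ≠ m) (hlm : l ≠ m) {A₁ A₂ : GL (Fin k) F} (h1 : Acts Y j l A₁)
    (h2 : Acts (Y ^ 2) j m A₂) (h3 : Y ^ 3 = 1) (h03 : (3 : F) = 0) :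
    ¬ ((Y.val - 1) * (Y.val - 1)).rank ≤ k ^ t := by
  classical
  intro hle
  let T : Matrix (Fin k) (Fin k) F → Matrix (Fin k) (Fin k) F → Matrix (Fin k) (Fin k) F →
      Matrix (Idx k (t + 1)) (Idx k (t + 1)) F :=
    fun X₀ X₁ X₂ => fa j X₀ * fa l (conjA A₁ X₁) * fa m (conjA A₂ X₂)
  have hY1 : ∀ X, conjA Y (fa j X) = fa l (conjA A₁ X) := h1
  have hY2 : ∀ X, conjA Y (fa l (conjA A₁ X)) = fa m (conjA A₂ X) := fun X => by
    rw [← hY1, ← conjA_mul, ← pow_two, h2]
  have hY3 : ∀ X, conjA Y (fa m (conjA A₂ X)) = fa j X := fun X => by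
    rw [← h2, ← conjA_mul, ← pow_succ', h3, conjA_one]
  have hT : ∀ X₀ X₁ X₂, conjA Y (T X₀ X₁ X₂) = T X₂ X₀ X₁ := fun X₀ X₁ X₂ => by
    simp only [T, map_mul, hY1, hY2, hY3]
    exact OTPow.tri_rot (fa_comm hjl _ _) (fa_comm hjm _ _)
  have hTT : ∀ X₀ X₁ X₂ Z₀ Z₁ Z₂, T X₀ X₁ X₂ * T Z₀ Z₁ Z₂ = T (X₀ * Z₀) (X₁ * Z₁) (X₂ * Z₂) :=
    fun X₀ X₁ X₂ Z₀ Z₁ Z₂ => by
      simp only [T, map_mul]
      exact OTPow.tri_mul (fa_comm hjl.symm _ _) (fa_comm hjm.symm _ _) (fa_comm hlm.symm _ _)
  have hTl : ∀ X₁ X₂, T 0 X₁ X₂ = 0 := fun X₁ X₂ => by simp [T]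
  have hTm : ∀ X₀ X₂, T X₀ 0 X₂ = 0 := fun X₀ X₂ => by simp [T]
  have hTr : ∀ X₀ X₁, T X₀ X₁ 0 = 0 := fun X₀ X₁ => by simp [T]
  let E : Fin k → Matrix (Fin k) (Fin k) F := fun a => Matrix.diagonal fun b => if b = a then 1 else 0
  let U : Fin k → Matrix (Fin k) (Fin k) F := fun a => Matrix.diagonal fun b => if a < b then 1 else 0
  let V : Fin k → Matrix (Fin k) (Fin k) F := fun a => Matrix.diagonal fun b => if a ≤ b then 1 else 0
  have hEE : ∀ a b, E a * E b = if a = b then E a else 0 := fun a b => by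
    simp only [E, Matrix.diagonal_mul_diagonal]
    split_ifs with h
    · subst h; congr 1; funext c; split_ifs <;> simp
    · rw [← Matrix.diagonal_zero]; congr 1; funext c; split_ifs <;> simp_all
  have hEU : ∀ a b, ¬ b < a → E a * U b = 0 := fun a b h => by
    simp only [E, U, Matrix.diagonal_mul_diagonal, ← Matrix.diagonal_zero]
    congr 1; funext c; split_ifs <;> simp_all <;> omega
  have hUE : ∀ a b, ¬ a < b → U a * E b = 0 := fun a b h => by
    simp only [E, U, Matrix.diagonal_mul_diagonal, ← Matrix.diagonal_zero]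
    congr 1; funext c; split_ifs <;> simp_all <;> omega
  have hEV : ∀ a b, ¬ b ≤ a → E a * V b = 0 := fun a b h => by
    simp only [E, V, Matrix.diagonal_mul_diagonal, ← Matrix.diagonal_zero]
    congr 1; funext c; split_ifs <;> simp_all <;> omega
  have hVE : ∀ a b, ¬ a ≤ b → V a * E b = 0 := fun a b h => by
    simp only [E, V, Matrix.diagonal_mul_diagonal, ← Matrix.diagonal_zero]
    congr 1; funext c; split_ifs <;> simp_all <;> omega
  have hVV : ∀ a, V a * V a = V a := fun a => by
    simp only [V, Matrix.diagonal_mul_diagonal]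
    congr 1; funext c; split_ifs <;> simp
  have hUU : ∀ a, U a * U a = U a := fun a => by
    simp only [U, Matrix.diagonal_mul_diagonal]
    congr 1; funext c; split_ifs <;> simp
  let s : Finset (Fin k) := {⟨0, by omega⟩, ⟨1, by omega⟩, ⟨2, by omega⟩}
  set E3 := ∑ a ∈ s, T (E a) (U a) (V a) with hE3
  have hPP : E3 * E3 = E3 := by
    rw [hE3, Finset.sum_mul]
    refine Finset.sum_congr rfl fun a ha => ?_
    rw [Finset.mul_sum, Finset.sum_eq_single a (fun b _ hb => by
      rw [hTT, hEE, if_neg hb.symm, hTl]) (fun h => absurd ha h), hTT, hEE, if_pos rfl, hUU, hVV]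
  have hC1 : E3 * conjA Y E3 = 0 := by
    rw [hE3, map_sum, Finset.sum_mul]
    refine Finset.sum_eq_zero fun a _ => ?_
    rw [Finset.mul_sum]
    refine Finset.sum_eq_zero fun b _ => ?_
    rw [hT, hTT]
    by_cases h : a < b
    · rw [hEV a b (not_le.2 h), hTl]
    · rw [hUE a b h, hTm]
  have hC2 : E3 * conjA (Y * Y) E3 = 0 := by
    rw [hE3, map_sum, Finset.sum_mul]
    refine Finset.sum_eq_zero fun a _ => ?_
    rw [Finset.mul_sum]
    refine Finset.sum_eq_zero fun b _ => ?_
    rw [conjA_mul, hT, hT, hTT]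
    by_cases h : b < a
    · rw [hVE a b (not_le.2 h), hTr]
    · rw [hEU a b h, hTl]
  have hmove : ∀ g : GL (Idx k (t + 1)) F, g.val * E3 = conjA g E3 * g.val := fun g => by
    rw [conjA_apply, mul_assoc _ _ g.val, Units.inv_mul, mul_one]
  have hS : E3 * ((Y.val - 1) * (Y.val - 1)) * E3 = E3 := by
    have e : (Y.val - 1) * (Y.val - 1) = 1 + Y.val + Y.val * Y.val := by
      have h0 : ∀ M : Matrix (Idx k (t + 1)) (Idx k (t + 1)) F, (3 : F) • M = 0 := fun M => by
        rw [h03, zero_smul]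
      calc (Y.val - 1) * (Y.val - 1) = 1 + Y.val + Y.val * Y.val - (Y.val + Y.val + Y.val) := by
            noncomm_ring
        _ = _ := by rw [show Y.val + Y.val + Y.val = (3 : F) • Y.val by module, h0, sub_zero]
    rw [e, mul_add, mul_add, mul_one, add_mul, add_mul, hPP, mul_assoc E3 Y.val, hmove, ← mul_assoc, hC1,
      zero_mul, add_zero, ← Units.val_mul, mul_assoc E3 (Y * Y).val, hmove, ← mul_assoc, hC2, zero_mul,
      add_zero]
  have hrk : E3.rank ≤ ((Y.val - 1) * (Y.val - 1)).rank := by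
    conv_lhs => rw [← hS]
    exact (Matrix.rank_mul_le_left _ _).trans (Matrix.rank_mul_le_right _ _)
  let d : Idx k (t + 1) → F := fun x => ∑ a ∈ s,
    (if x j = a then 1 else 0) * (if a < x l then 1 else 0) * (if a ≤ x m then 1 else 0)
  have hdiag : E3 = conjA (fu l A₁ * fu m A₂) (Matrix.diagonal d) := by
    have e : Matrix.diagonal d = ∑ a ∈ s, fa j (E a) * fa l (U a) * fa m (V a) := by
      simp only [E, U, V, OTPow.fa_diag, Matrix.diagonal_mul_diagonal, d]
      ext x y
      by_cases hxy : x = y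
      · subst hxy; simp [Matrix.sum_apply]
      · simp [Matrix.sum_apply, Matrix.diagonal_apply_ne _ hxy]
    rw [e, map_sum, hE3]
    refine Finset.sum_congr rfl fun a _ => ?_
    simp only [T, map_mul, conjA_mul, conjA_fu_com (com_fa hjm.symm _), conjA_fu_com (com_fa hjl.symm _),
      conjA_fu_com (com_fa hlm.symm _), conjA_fu_com (com_fa hlm _), (acts_fu l A₁) _, (acts_fu m A₂) _]
  rw [hdiag, rank_conjA, Matrix.rank_diagonal, Fintype.card_subtype] at hrk
  let W : Fin k → Finset (Idx k (t + 1)) := fun a =>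
    Finset.univ.filter fun x => x j ∈ ({a} : Finset (Fin k)) ∧ x l ∈ Finset.Ioi a ∧ x m ∈ Finset.Ici a
  have hsub : s.biUnion W ⊆ Finset.univ.filter fun x => d x ≠ 0 := by
    intro x hx
    obtain ⟨a, ha, hxa⟩ := Finset.mem_biUnion.1 hx
    simp only [W, Finset.mem_filter, Finset.mem_univ, true_and, Finset.mem_singleton, Finset.mem_Ioi, Finset.mem_Ici] at hxa
    refine Finset.mem_filter.2 ⟨Finset.mem_univ _, ?_⟩
    simp only [d]
    rw [Finset.sum_eq_single a (fun b _ hb => by rw [if_neg (by rw [hxa.1]; exact hb.symm)]; simp)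
      (fun h => absurd ha h), if_pos hxa.1, if_pos hxa.2.1, if_pos hxa.2.2]
    simp
  have hcard := (Finset.card_le_card hsub).trans (hrk.trans hle)
  rw [Finset.card_biUnion (fun a _ b _ hab => Finset.disjoint_left.2 fun x hxa hxb => by
    simp only [W, Finset.mem_filter, Finset.mem_singleton] at hxa hxb
    exact hab (hxa.2.1.symm.trans hxb.2.1))] at hcard
  have hW : ∀ a, k ^ 3 * (W a).card = (k - 1 - a.val) * (k - a.val) * k ^ (t + 1) := fun a => by
    have := OTPow.card_three hjl hjm hlm ({a} : Finset (Fin k)) (Finset.Ioi a) (Finset.Ici a)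
    simpa [W, Fin.card_Ioi, Fin.card_Ici] using this
  simp only [s, Finset.sum_insert, Finset.mem_insert, Finset.mem_singleton, Fin.mk.injEq, not_or,
    OfNat.zero_ne_ofNat, zero_ne_one, OfNat.one_ne_ofNat, not_false_eq_true, and_self,
    Finset.sum_singleton] at hcard
  have h := Nat.mul_le_mul_left (k ^ 3) hcard
  rw [mul_add, mul_add, hW, hW, hW, pow_succ k t] at h
  have hpos : 0 < k ^ t := by positivity
  subst hk
  norm_num at h
  omega

/-- The permutation is trivial. -/
theorem no_perm_even (hk : 4 ≤ k) (hke : Even k) (hp : 3 ≤ p) {Y : GL (Idx k (t + 1)) F}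
    (hY : Y ∈ mst k (t + 1) F) (h3 : (Y.val - 1) * (Y.val - 1) * (Y.val - 1) = 0)
    (hr : ((Y.val - 1) * (Y.val - 1)).rank ≤ k ^ t) (j : Fin (t + 1)) : ∃ A, Acts Y j j A := by
  classical
  by_cases hc : 5 ≤ p ∨ 5 ≤ k
  · exact OTPow.no_perm (by omega) hp hY h3 (hc.imp id fun h => ⟨h, hr⟩) j
  push Not at hc
  haveI : Nonempty (Idx k (t + 1)) := ⟨fun _ => ⟨0, by omega⟩⟩
  obtain ⟨σ, hσ⟩ := hY
  have hpp := Fact.out (p := p.Prime)
  obtain rfl : p = 3 := by
    have := hc.1
    interval_cases p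
    · rfl
    · norm_num at hpp
  have hYp := OTPow.pow_char (F := F) hp h3
  choose A hA using fun n => OTPow.Acts.pow_iter hσ n j
  by_cases hne : σ j = j
  · exact ⟨A 1, by simpa [hne] using hA 1⟩
  exfalso
  have hσp : (σ ^ 3) j = j := by
    have ha := hA 3
    rw [hYp] at ha
    exact ((acts_one j).target_unique (by omega) ha).symm
  refine cycle_four (by omega) (j := j) (l := σ j) (m := (σ ^ 2) j) (Ne.symm hne)
    (OTPow.orbit_ne hpp hσp hne (by omega) (by omega)).symm ?_ (by simpa using hA 1) (hA 2) hYp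
    (by simpa using CharP.cast_eq_zero F 3) hr
  rw [pow_two, Equiv.Perm.mul_apply]
  exact fun e => hne (σ.injective e).symm

namespace Dia

variable {D : Dia k F}

/-- A unipotent isometry moves at least a plane. -/
theorem ker_bound (hD : D.Good) {a : GL (Fin k) F} (ha : D.Iso a) (hA : IsNilpotent (a.val - 1)) (h0 : a ≠ 1) :
    finrank F (LinearMap.ker (Matrix.mulVecLin (a.val - 1))) + 2 ≤ k ∧
      (finrank F (LinearMap.ker (Matrix.mulVecLin (a.val - 1))) + 2 = k →
        ¬ LinearMap.ker (Matrix.mulVecLin (a.val - 1)) ≤ LinearMap.range (Matrix.mulVecLin (a.val - 1))) := by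
  have C := D.spaceW
  have haI := D.mem_of_iso ha
  set L := Matrix.mulVecLin (a.val - 1) with hL
  have hLv : ∀ v, L v = a.val *ᵥ v - v := fun v => by simp [hL, Matrix.sub_mulVec]
  have hrk := L.finrank_range_add_finrank_ker
  rw [finrank_fintype_fun_eq_card, Fintype.card_fin] at hrk
  have hperp : ∀ v w, L w = 0 → D.formW (L v) w = 0 := fun v w hw => by
    rw [hLv, sub_eq_zero] at hw
    rw [hLv, map_sub, LinearMap.sub_apply, sub_eq_zero]
    conv_lhs => rw [← hw]
    exact C.B_act haI v w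
  have hL0 : ∃ v, L v ≠ 0 := by
    by_contra h
    push Not at h
    exact h0 (Orth.gl_ext fun v => by
      have := h v
      rw [hLv, sub_eq_zero] at this
      rw [this, Units.val_one, Matrix.one_mulVec])
  refine ⟨?_, ?_⟩
  · by_contra hgt
    obtain ⟨v₀, hv₀⟩ := hL0
    have h1 : finrank F (LinearMap.range L) ≤ 1 := by omega
    have hline : ∀ v, ∃ c : F, c • L v₀ = L v := fun v => by
      have hspan : LinearMap.range L = Submodule.span F {L v₀} :=
        (Submodule.eq_of_le_of_finrank_le (Submodule.span_le.2 (by simp))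
          (by rw [finrank_span_singleton hv₀]; exact h1)).symm
      exact Submodule.mem_span_singleton.1 (hspan ▸ LinearMap.mem_range_self L v)
    choose c hc using hline
    set u := L v₀ with hu
    have hLu : L u = 0 := by
      obtain ⟨j, hj⟩ := hA
      have hpow : ∀ n : ℕ, Matrix.mulVec ((a.val - 1) ^ n) u = c u ^ n • u := by
        intro n
        induction n with
        | zero => simp
        | succ n ih =>
          rw [pow_succ', ← Matrix.mulVec_mulVec, ih, Matrix.mulVec_smul, pow_succ, ← smul_smul]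
          congr 1
          exact (hc u).symm
      have h2 := hpow j
      rw [hj, Matrix.zero_mulVec, eq_comm, smul_eq_zero] at h2
      rw [← hc u, (pow_eq_zero_iff').1 (h2.resolve_right hv₀) |>.1, zero_smul]
    have huu : D.formW u u = 0 := hperp v₀ u hLu
    have hsk : ∀ v w, c v * D.formW u w + c w * D.formW v u = 0 := fun v w => by
      have h1 := C.B_act haI v w
      rw [show a.val *ᵥ v = v + L v by rw [hLv]; abel, show a.val *ᵥ w = w + L w by rw [hLv]; abel, ← hc v,
        ← hc w] at h1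
      simp only [map_add, map_smul, LinearMap.add_apply, LinearMap.smul_apply, smul_eq_mul, huu] at h1
      linear_combination h1
    obtain ⟨y, hy⟩ := C.exists_pair hv₀
    have hyy := hsk y y
    rw [hy, D.formW_symm y u, hy] at hyy
    have hcy : c y = 0 := (mul_eq_zero.1 (show (2 : F) * c y = 0 by linear_combination hyy)).resolve_left D.h2
    have h3 := hsk v₀ y
    rw [hy, hcy, zero_mul, add_zero, mul_one] at h3
    exact hv₀ ((hc v₀).symm.trans (by rw [h3, zero_smul]))
  · intro heq hle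
    have h2 : k ≤ 4 := by
      have := Submodule.finrank_mono hle
      omega
    have hnp := hD.np.resolve_left (by omega)
    have hkk : ∀ v w, v ∈ LinearMap.ker L → w ∈ LinearMap.ker L → D.formW v w = 0 := fun v w hv hw => by
      obtain ⟨v', rfl⟩ := hle hv
      exact hperp v' w (LinearMap.mem_ker.1 hw)
    have hbot : LinearMap.ker L ≠ ⊥ := fun h => by rw [h, finrank_bot] at heq; have := hD.hk; omega
    obtain ⟨v, hv, hv0⟩ := Submodule.exists_mem_ne_zero_of_ne_bot hbot
    have h4 : LinearMap.ker L ≤ Submodule.span F {v} := fun w hw =>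
      hnp v w (hkk v v hv hv) (hkk w w hw hw) (hkk v w hv hw) hv0
    have := Submodule.finrank_mono h4
    rw [finrank_span_singleton hv0] at this
    have := hD.hk
    omega

end Dia

/-- Intertwiners of two nilpotent maps. -/
theorem intertwine_lt {V W : Type*} [AddCommGroup V] [Module F V] [FiniteDimensional F V] [AddCommGroup W]
    [Module F W] [FiniteDimensional F W] (A : Module.End F V) {B : Module.End F W} (hB : IsNilpotent B)
    (hB0 : B ≠ 0) {r : ℕ} (hr : finrank F (LinearMap.ker A) ≤ r)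
    (hs : finrank F (LinearMap.ker A) = r → ¬ LinearMap.ker A ≤ LinearMap.range A) (hr0 : 0 < r)
    (S : Submodule F (V →ₗ[F] W)) (hS : ∀ X ∈ S, ∀ v, X (A v) = B (X v)) :
    finrank F S < r * finrank F W := by
  classical
  have hW : 0 < finrank F W := by
    obtain ⟨w, hw⟩ : ∃ w, B w ≠ 0 := by
      by_contra h
      push Not at h
      exact hB0 (LinearMap.ext h)
    exact Module.finrank_pos_iff_exists_ne_zero.2 ⟨_, hw⟩
  obtain ⟨C, hC⟩ := Submodule.exists_isCompl (LinearMap.range A)
  have hCr : finrank F C = finrank F (LinearMap.ker A) := by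
    have h1 := Submodule.finrank_add_eq_of_isCompl hC
    have h2 := A.finrank_range_add_finrank_ker
    omega
  have hinj : ∀ X ∈ S, (∀ v ∈ C, X v = 0) → X = 0 := fun X hX h => by
    obtain ⟨n, hn⟩ := hB
    have key : ∀ j : ℕ, ∀ v, ∃ u, X v = (B ^ j) (X u) := by
      intro j
      induction j with
      | zero => intro v; exact ⟨v, rfl⟩
      | succ j ih =>
        intro v
        obtain ⟨u, hu⟩ := ih v
        obtain ⟨y, z, ⟨y', rfl⟩, hz, rfl⟩ := Submodule.codisjoint_iff_exists_add_eq.1 hC.codisjoint u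
        exact ⟨y', by rw [hu, map_add, h z hz, add_zero, hS X hX, pow_succ]; rfl⟩
    refine LinearMap.ext fun v => ?_
    obtain ⟨u, hu⟩ := key n v
    rw [hu, hn]
    rfl
  let R : S →ₗ[F] (C →ₗ[F] W) := LinearMap.lcomp F W C.subtype ∘ₗ S.subtype
  have hRinj : Function.Injective R := (injective_iff_map_eq_zero R).2 fun X hX =>
    Subtype.ext (hinj X.1 X.2 fun v hv => LinearMap.congr_fun hX ⟨v, hv⟩)
  have hle : finrank F S ≤ finrank F (LinearMap.ker A) * finrank F W := by
    have := LinearMap.finrank_le_finrank_of_injective hRinj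
    rwa [Module.finrank_linearMap, hCr] at this
  rcases lt_or_eq_of_le hr with hlt | heq
  · exact lt_of_le_of_lt hle (Nat.mul_lt_mul_of_pos_right hlt hW)
  -- strict case
  obtain ⟨g, hg, hgr⟩ := SetLike.not_le_iff_exists.1 (hs heq)
  obtain ⟨y, c, hy, hc, hyc⟩ := Submodule.codisjoint_iff_exists_add_eq.1 hC.codisjoint g
  obtain ⟨y', hy'⟩ := hy
  have hc0 : (⟨c, hc⟩ : C) ≠ 0 := fun h => hgr ⟨y', by
    rw [hy', ← hyc, show c = 0 from congrArg Subtype.val h, add_zero]⟩
  -- the value at the complement part of a kernel vector is restricted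
  let P : Submodule F (C →ₗ[F] W) := (LinearMap.range (B * B)).comap (B ∘ₗ LinearMap.applyₗ (⟨c, hc⟩ : C))
  have hRP : LinearMap.range R ≤ P := by
    rintro _ ⟨X, rfl⟩
    refine ⟨-(X.1 y'), ?_⟩
    show B (B (-(X.1 y'))) = B (X.1 c)
    have h1 : B (X.1 g) = 0 := by rw [← hS X.1 X.2, LinearMap.mem_ker.1 hg, map_zero]
    rw [← hyc, map_add, map_add, ← hy', hS X.1 X.2] at h1
    rw [map_neg, map_neg]
    exact (eq_neg_of_add_eq_zero_right h1).symm
  have hP : P ≠ ⊤ := fun htop => by
    have hsq : ∀ w, ∃ u, B w = B (B u) := fun w => by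
      obtain ⟨φ, hφ⟩ := Module.Projective.exists_dual_ne_zero F hc0
      have h1 : (φ.smulRight ((φ ⟨c, hc⟩)⁻¹ • w) : C →ₗ[F] W) ∈ P := htop ▸ Submodule.mem_top
      obtain ⟨u, hu⟩ := h1
      refine ⟨u, ?_⟩
      have h2 : B (φ ⟨c, hc⟩ • (φ ⟨c, hc⟩)⁻¹ • w) = B (B u) := hu.symm
      rwa [smul_smul, mul_inv_cancel₀ hφ, one_smul] at h2
    obtain ⟨n, hn⟩ := hB
    refine hB0 (LinearMap.ext fun w => ?_)
    have key : ∀ j : ℕ, ∀ w, ∃ u, B w = (B ^ j) (B u) := by
      intro j
      induction j with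
      | zero => intro w; exact ⟨w, rfl⟩
      | succ j ih =>
        intro w
        obtain ⟨u, hu⟩ := ih w
        obtain ⟨u', hu'⟩ := hsq u
        exact ⟨u', by rw [hu, hu', pow_succ]; rfl⟩
    obtain ⟨u, hu⟩ := key n w
    rw [hu, hn]
    rfl
  have h1 := Submodule.finrank_mono hRP
  have h2 := Submodule.finrank_lt hP
  rw [LinearMap.finrank_range_of_inj hRinj] at h1
  rw [Module.finrank_linearMap, hCr, heq] at h2
  omega

theorem rank_fa (i : Fin (t + 1)) (D : Dia k F) (M : Matrix (Fin k) (Fin k) F) :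
    (fa i M : Matrix (Idx k (t + 1)) (Idx k (t + 1)) F).rank = k ^ t * M.rank := by
  have h := OOTensor.range_eq_tn (D.ten i) (f := Matrix.mulVecLin (fa i M)) (e := Matrix.mulVecLin M)
    (fun a w => fa_tens i M a w)
  show finrank F (LinearMap.range (Matrix.mulVecLin (fa i M))) = _
  rw [h, OOTensor.finrank_tn (D.ten i), Fintype.card_pi_const, Fintype.card_fin]
  rfl

namespace Dia

variable {D : Dia k F}

/-- The displacement of a Siegel element of one factor and its square. -/
theorem rank_uW {x a : Fin k → F} (hx : D.formW x x = 0) (hx0 : x ≠ 0) (hxa : D.formW x a = 0)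
    (hq : D.qW a ≠ 0) : ((D.uW x a).val - 1).rank = 2 ∧
      (((D.uW x a).val - 1) * ((D.uW x a).val - 1)).rank = 1 ∧
      ((D.uW x a).val - 1) ^ 3 = 0 := by
  set N := (D.uW x a).val - 1
  have hN : ∀ v, N *ᵥ v = D.formW x v • a - (D.formW a v + D.qW a * D.formW x v) • x := fun v => by
    simp only [N, Matrix.sub_mulVec, D.uW_mulVec hx hxa, Matrix.one_mulVec]; abel
  have hax : D.formW a x = 0 := by rw [D.formW_symm]; exact hxa
  have hNx : N *ᵥ x = 0 := by simp [hN, hx, hax]
  have hNa : N *ᵥ a = (-(2 * D.qW a)) • x := by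
    rw [hN, hxa, D.spaceW.self a]; simp only [zero_smul, mul_zero, add_zero]; module
  obtain ⟨f, -, hxf⟩ := D.exists_partner hx hx0
  have haa : D.formW a a ≠ 0 := fun h => hq (D.qW_zero.2 h)
  have hlin : LinearIndependent F ![a, x] := by
    rw [LinearIndependent.pair_iff]
    intro s r hsr
    have h1 := congrArg (D.formW a) hsr
    simp [hax, haa] at h1
    subst h1
    exact ⟨rfl, by simpa [hx0] using hsr⟩
  have hc : -(2 * D.qW a) ≠ 0 := neg_ne_zero.2 (mul_ne_zero D.h2 hq)
  refine ⟨?_, ?_, ?_⟩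
  · have e : LinearMap.range (Matrix.mulVecLin N) = Submodule.span F (Set.range ![a, x]) := by
      rw [Matrix.range_cons_cons_empty]
      refine le_antisymm ?_ (Submodule.span_le.2 ?_)
      · rintro _ ⟨v, rfl⟩
        rw [Matrix.mulVecLin_apply, hN]
        exact Submodule.sub_mem _ (Submodule.smul_mem _ _ (Submodule.subset_span (by simp)))
          (Submodule.smul_mem _ _ (Submodule.subset_span (by simp)))
      · have hxR : x ∈ LinearMap.range (Matrix.mulVecLin N) :=
          ⟨(-(2 * D.qW a))⁻¹ • a, by rw [map_smul, Matrix.mulVecLin_apply, hNa, smul_smul, inv_mul_cancel₀ hc, one_smul]⟩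
        rintro w (hw | hw) <;> rw [hw]
        · have h1 := (LinearMap.range (Matrix.mulVecLin N)).add_mem
            (LinearMap.mem_range_self (Matrix.mulVecLin N) f)
            ((LinearMap.range (Matrix.mulVecLin N)).smul_mem (D.formW a f + D.qW a * D.formW x f) hxR)
          rwa [Matrix.mulVecLin_apply, hN, sub_add_cancel, hxf, one_smul] at h1
        · exact hxR
    show finrank F (LinearMap.range (Matrix.mulVecLin N)) = 2
    rw [e, finrank_span_eq_card hlin, Fintype.card_fin]
  · have e : LinearMap.range (Matrix.mulVecLin (N * N)) = Submodule.span F {x} := by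
      refine le_antisymm ?_ ((Submodule.span_singleton_le_iff_mem _ _).2 ?_)
      · rintro _ ⟨v, rfl⟩
        rw [Matrix.mulVecLin_apply, ← Matrix.mulVec_mulVec, hN v, Matrix.mulVec_sub, Matrix.mulVec_smul,
          Matrix.mulVec_smul, hNx, hNa, smul_zero, sub_zero, smul_smul]
        exact Submodule.smul_mem _ _ (Submodule.mem_span_singleton_self x)
      · refine ⟨(-(2 * D.qW a))⁻¹ • f, ?_⟩
        rw [map_smul, Matrix.mulVecLin_apply, ← Matrix.mulVec_mulVec, hN f, Matrix.mulVec_sub,
          Matrix.mulVec_smul, Matrix.mulVec_smul, hNx, hNa, hxf, one_smul, smul_zero, sub_zero, smul_smul,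
          inv_mul_cancel₀ hc, one_smul]
    show finrank F (LinearMap.range (Matrix.mulVecLin (N * N))) = 1
    rw [e, finrank_span_singleton hx0]
  · refine Orth.mat_ext fun v => ?_
    rw [pow_succ, sq, ← Matrix.mulVec_mulVec, ← Matrix.mulVec_mulVec, hN v, Matrix.mulVec_sub,
      Matrix.mulVec_smul, Matrix.mulVec_smul, hNx, hNa, smul_zero, sub_zero, Matrix.mulVec_smul,
      Matrix.mulVec_smul, hNx, smul_zero, smul_zero, Matrix.zero_mulVec]

/-- An element fixing a factor splits into unipotent isometries. -/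
theorem split_unip [Fintype F] {p : ℕ} [Fact p.Prime] [CharP F p] (hk : 0 < k)
    {Y : GL (Idx k (t + 1)) F} (hY : Y ∈ D.isoV (t + 1)) (hYp : Y ^ p = 1) {i : Fin (t + 1)}
    {A₀ : GL (Fin k) F} (h : Acts Y i i A₀) :
    ∃ a, D.Iso a ∧ ∃ Z ∈ D.isoV t, Y = fu i a * psiU i Z ∧ (a.val - 1) ^ p = 0 ∧ (Z.val - 1) ^ p = 0 := by
  obtain ⟨Z₀, e⟩ := exists_split hk h
  haveI : Nonempty (Fin k) := ⟨⟨0, hk⟩⟩
  haveI : Nonempty (Idx k t) := ⟨fun _ => ⟨0, hk⟩⟩
  have hcm : ∀ (a : GL (Fin k) F) (Z : GL (Idx k t) F), Commute (fu i a) (psiU i Z) := fun a Z => Units.ext (by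
    rw [Units.val_mul, Units.val_mul, fu_val, psiU_val]; exact (com_psi i Z.val a.val).eq)
  have hpw : fu i (A₀ ^ p) * psiU i (Z₀ ^ p) = 1 := by
    rw [map_pow, map_pow, ← (hcm A₀ Z₀).mul_pow, ← e, hYp]
  have hfa : fa i (A₀ ^ p).val = psi i ((Z₀ ^ p)⁻¹).val := by
    have h1 : fu i (A₀ ^ p) = psiU i (Z₀ ^ p)⁻¹ := by rw [map_inv]; exact eq_inv_of_mul_eq_one_left hpw
    exact congrArg Units.val h1
  obtain ⟨r, hr⟩ := scalar_of_com hk (Φ := fa i (A₀ ^ p).val) fun l => by
    rcases eq_or_ne l i with rfl | hl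
    · rw [hfa]; exact com_psi _ _
    · exact com_fa hl _
  have hAp : (A₀ ^ p).val = r • 1 := fa_injective hk i (by rw [hr, map_smul, map_one])
  obtain ⟨s, hs⟩ : ∃ s : F, s ^ p = r :=
    (Finite.injective_iff_surjective.1 (frobenius_inj F p)) r
  have hs0 : s ≠ 0 := fun h0 => by
    rw [h0, zero_pow (Fact.out (p := p.Prime)).ne_zero] at hs
    rw [← hs, zero_smul] at hAp
    exact (A₀ ^ p).ne_zero hAp
  set u : Fˣ := Units.mk0 s hs0
  let sc : Fˣ →* GL (Fin k) F := Units.map (algebraMap F (Matrix (Fin k) (Fin k) F)).toMonoidHom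
  let sc' : Fˣ →* GL (Idx k t) F := Units.map (algebraMap F (Matrix (Idx k t) (Idx k t) F)).toMonoidHom
  have hsc : ∀ v : Fˣ, (sc v).val = (v : F) • 1 := fun v => Algebra.algebraMap_eq_smul_one _
  have hsc' : ∀ v : Fˣ, (sc' v).val = (v : F) • 1 := fun v => Algebra.algebraMap_eq_smul_one _
  set a := sc u⁻¹ * A₀
  set Z := sc' u * Z₀
  have hval : Y.val = fa i a.val * psi i Z.val := by
    rw [e, Units.val_mul, fu_val, psiU_val]
    show _ = fa i ((sc u⁻¹).val * A₀.val) * psi i ((sc' u).val * Z₀.val)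
    rw [hsc, hsc', smul_mul_assoc, one_mul, smul_mul_assoc, one_mul, map_smul, map_smul, smul_mul_smul_comm,
      ← Units.val_mul, inv_mul_cancel, Units.val_one, one_smul]
  have hY' : Y = fu i a * psiU i Z := Units.ext hval
  have hap : a.val ^ p = 1 := by
    show ((sc u⁻¹).val * A₀.val) ^ p = 1
    rw [hsc, smul_mul_assoc, one_mul, smul_pow, ← Units.val_pow_eq_pow_val A₀, hAp, smul_smul, ← hs,
      ← mul_pow]
    simp [u, hs0]
  have hZp : Z.val ^ p = 1 := by
    have h1 := congrArg Units.val hYp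
    rw [Units.val_pow_eq_pow_val, hval, (com_psi i Z.val a.val).mul_pow, ← map_pow, hap, map_one, one_mul,
      ← map_pow, Units.val_one, ← map_one (psi (F := F) (m := k) i)] at h1
    exact psi_injective hk i h1
  have hiso : fa i (D.ad a.val * a.val) * psi i (D.adT Z.val * Z.val) = 1 := by
    have h1 := D.mem_isoV.1 hY
    rw [hval, D.adT_mul, adT_fa, adT_psi] at h1
    rw [← h1, map_mul, map_mul]
    have c1 : Commute (psi i (D.adT Z.val)) (fa i (D.ad a.val) * fa i a.val) := by
      rw [← map_mul]; exact (com_psi i _ _).symm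
    rw [← mul_assoc, ← c1.eq]
    simp only [mul_assoc]
  obtain ⟨ν, hν⟩ : ∃ ν : F, D.ad a.val * a.val = ν • 1 := by
    obtain ⟨ν, hν⟩ := scalar_of_com hk (Φ := fa i (D.ad a.val * a.val)) fun l => by
      rcases eq_or_ne l i with hl | hl
      · rw [hl]
        intro X
        have h1 : IsUnit (psi i (D.adT Z.val * Z.val)) := by
          refine IsUnit.map _ (IsUnit.mul ?_ Z.isUnit)
          exact ⟨⟨D.adT Z.val, D.adT (Z⁻¹).val, by rw [← D.adT_mul, Units.inv_mul, D.adT_one], by
            rw [← D.adT_mul, Units.mul_inv, D.adT_one]⟩, rfl⟩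
        refine h1.mul_right_cancel ?_
        rw [mul_assoc, hiso, mul_one, mul_assoc, (com_psi i _ X).eq, ← mul_assoc, hiso, one_mul]
      · exact com_fa hl _
    exact ⟨ν, fa_injective hk i (by rw [hν, map_smul, map_one])⟩
  have hν1 : ν = 1 := by
    have e1 : D.ad a.val = ν • (a⁻¹).val := by
      have h1 := congrArg (· * (a⁻¹).val) hν
      simp only [mul_assoc, Units.mul_inv, mul_one, smul_mul_assoc, one_mul] at h1
      exact h1
    have e2 : ∀ n : ℕ, D.ad (a.val ^ n) = D.ad a.val ^ n := by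
      intro n
      induction n with
      | zero => rw [pow_zero, pow_zero, D.ad_one]
      | succ n ih => rw [pow_succ, D.ad_mul, ih, ← pow_succ']
    have e3 := e2 p
    rw [hap, D.ad_one, e1, smul_pow, ← Units.val_pow_eq_pow_val, inv_pow,
      show a ^ p = 1 from Units.ext (by rw [Units.val_pow_eq_pow_val, hap, Units.val_one]), inv_one,
      Units.val_one] at e3
    have e4 := congrFun (congrFun e3 ⟨0, hk⟩) ⟨0, hk⟩
    simp at e4
    exact frobenius_inj F p (by rw [frobenius_def, frobenius_def, ← e4, one_pow])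
  rw [hν1, one_smul] at hν
  refine ⟨a, hν, Z, ?_, hY', ?_, ?_⟩
  · rw [hν, map_one, one_mul, ← map_one (psi (F := F) (m := k) i)] at hiso
    exact D.mem_isoV.2 (psi_injective hk i hiso)
  · haveI : CharP (Matrix (Fin k) (Fin k) F) p :=
      charP_of_injective_algebraMap (RingHom.injective (algebraMap F _)) p
    rw [sub_pow_char_of_commute p (Commute.one_right _), one_pow, hap, sub_self]
  · haveI : CharP (Matrix (Idx k t) (Idx k t) F) p :=
      charP_of_injective_algebraMap (RingHom.injective (algebraMap F _)) p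
    rw [sub_pow_char_of_commute p (Commute.one_right _), one_pow, hZp, sub_self]

/-- An isometry of the stabiliser conjugate to a Siegel element lives in one factor. -/
theorem single [Fintype F] (hD : D.Good) {i : Fin (t + 1)} {x a : Fin k → F} (hx : D.formW x x = 0)
    (hx0 : x ≠ 0) (hxa : D.formW x a = 0) (hq : D.qW a ≠ 0) {g y : GL (Idx k (t + 1)) F}
    (hy : y = g * fu i (D.uW x a) * g⁻¹) (hm : y ∈ mst k (t + 1) F) (hi : y ∈ D.isoV (t + 1)) :
    ∃ j b, y = fu j b ∧ D.Iso b ∧ ∃ z, z ≠ 0 ∧ D.formW z z = 0 ∧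
      LinearMap.range (Matrix.mulVecLin ((b.val - 1) * (b.val - 1))) = Submodule.span F {z} := by
  classical
  have hk := hD.hk
  have hk0 : 0 < k := by omega
  haveI : Nonempty (Idx k (t + 1)) := ⟨fun _ => ⟨0, hk0⟩⟩
  obtain ⟨p, hch⟩ := CharP.exists F
  haveI := hch
  haveI : Fact p.Prime := ⟨(CharP.char_is_prime_or_zero F p).resolve_right (CharP.char_ne_zero_of_finite F p)⟩
  have hp : 3 ≤ p := by
    have h2 := (Fact.out (p := p.Prime)).two_le
    rcases eq_or_lt_of_le h2 with rfl | h
    · exact absurd (by exact_mod_cast CharP.cast_eq_zero F 2) D.h2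
    · exact h
  obtain ⟨r1, r2, r3⟩ := rank_uW hx hx0 hxa hq
  have hN : y.val - 1 = conjA g (fa i ((D.uW x a).val - 1)) := by
    rw [map_sub, map_one, map_sub, map_one, hy]
    rfl
  have hN2 : ((y.val - 1) * (y.val - 1)).rank = k ^ t := by
    rw [hN, ← map_mul, rank_conjA, ← map_mul, rank_fa i D, r2, mul_one]
  have hN1 : (y.val - 1).rank = k ^ t * 2 := by rw [hN, rank_conjA, rank_fa i D, r1]
  have hN3 : (y.val - 1) * (y.val - 1) * (y.val - 1) = 0 := by
    rw [hN, ← map_mul, ← map_mul, ← map_mul, ← map_mul, ← sq, ← pow_succ, r3, map_zero, map_zero]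
  have hy1 : y ≠ 1 := fun h => by
    rw [h, Units.val_one, sub_self, Matrix.rank_zero] at hN1
    have := Nat.pow_pos (n := t) hk0
    omega
  have hyp := OTPow.pow_char (F := F) hp hN3
  have hfix := fun j => no_perm_even hk hD.hke hp hm hN3 hN2.le j
  have key : ∀ j, (∃ b, y = fu j b ∧ D.Iso b) ∨ Com j y.val := fun j => by
    obtain ⟨A₀, hA₀⟩ := hfix j
    obtain ⟨b, hb, Z, hZ, he, hbp, hZp⟩ := split_unip hk0 hi hyp hA₀
    rcases eq_or_ne b 1 with rfl | hb1
    · exact Or.inr (by rw [he, map_one, one_mul, psiU_val]; exact com_psi _ _)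
    rcases eq_or_ne Z 1 with rfl | hZ1
    · exact Or.inl ⟨b, by rw [he, map_one, mul_one], hb⟩
    exfalso
    -- the fixed vectors as intertwiners
    have T := D.ten j
    let X : (Idx k (t + 1) → F) →ₗ[F] ((Fin k → F) →ₗ[F] (Idx k t → F)) := T.ctr.flip
    have hXinj : Function.Injective X := fun v w h => T.eq_of_ctr fun z => LinearMap.congr_fun h z
    set Fx := LinearMap.ker (Matrix.mulVecLin (y.val - 1))
    have hFx : finrank F Fx + k ^ t * 2 = k * k ^ t := by
      have := (Matrix.mulVecLin (y.val - 1)).finrank_range_add_finrank_ker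
      rw [finrank_fintype_fun_eq_card, Fintype.card_pi_const, Fintype.card_fin, pow_succ'] at this
      rw [show finrank F (LinearMap.range (Matrix.mulVecLin (y.val - 1))) = k ^ t * 2 from hN1] at this
      change k ^ t * 2 + finrank F Fx = _ at this
      omega
    obtain ⟨hb2, hbs⟩ := ker_bound hD hb ⟨p, hbp⟩ hb1
    have hlt := intertwine_lt (Matrix.mulVecLin (b.val - 1)) (B := Matrix.mulVecLin (Z.val - 1))
      (r := k - 2) (by
        obtain ⟨n, hn⟩ : IsNilpotent (Matrix.toLinAlgEquiv' (Z.val - 1)) := (show IsNilpotent (Z.val - 1) from ⟨p, hZp⟩).map Matrix.toLinAlgEquiv'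
        exact ⟨n, hn⟩)
      (fun h => hZ1 (Units.ext (sub_eq_zero.1 (Orth.mat_ext fun w => by
        rw [Matrix.zero_mulVec]; exact LinearMap.congr_fun h w))))
      (by omega) (fun h => hbs (by omega)) (by omega) (Fx.map X) (by
        rintro _ ⟨v, hv, rfl⟩ w
        have hyv : y.val *ᵥ v = v := by
          have := LinearMap.mem_ker.1 hv
          rwa [Matrix.mulVecLin_apply, Matrix.sub_mulVec, Matrix.one_mulVec, sub_eq_zero] at this
        have hmain : T.ctr (b.val *ᵥ w) v = Z.val *ᵥ T.ctr w v := T.α_ext fun c => by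
          obtain ⟨c, rfl⟩ : ∃ c', Z.val *ᵥ c' = c := ⟨_, Orth.act_inv Z c⟩
          rw [T.α_ctr, (D.space t).B_act hZ, T.α_ctr, show tens j (Z.val *ᵥ c) (b.val *ᵥ w) = y.val *ᵥ tens j c w by
            rw [he, Orth.mul_act, psiU_val, psi_tens, fu_val, fa_tens]]
          conv_lhs => arg 1; arg 2; rw [← hyv]
          exact (D.space (t + 1)).B_act hi _ _
        simp only [X, LinearMap.flip_apply, Matrix.mulVecLin_apply, Matrix.sub_mulVec, Matrix.one_mulVec,
          map_sub, LinearMap.sub_apply, hmain])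
    rw [← LinearEquiv.finrank_eq (Submodule.equivMapOfInjective X hXinj Fx), finrank_fintype_fun_eq_card,
      Fintype.card_pi_const, Fintype.card_fin, Nat.sub_mul] at hlt
    have := mul_comm (k ^ t) 2
    omega
  obtain ⟨j, b, hjb, hb⟩ : ∃ j b, y = fu j b ∧ D.Iso b := by
    by_contra hno
    push Not at hno
    obtain ⟨c, hc⟩ := scalar_of_com hk0 fun j => (key j).resolve_left fun ⟨b, h1, h2⟩ => hno j b h1 h2
    have hc1 : (c - 1) • (1 : Matrix (Idx k (t + 1)) (Idx k (t + 1)) F) = y.val - 1 := by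
      rw [hc, sub_smul, one_smul]
    rw [← hc1, smul_mul_smul_comm, smul_mul_smul_comm, one_mul, one_mul, smul_eq_zero] at hN3
    simp only [mul_eq_zero, or_self, one_ne_zero, or_false] at hN3
    exact hy1 (Units.ext (by rw [hc, sub_eq_zero.1 hN3, one_smul, Units.val_one]))
  set B := b.val - 1 with hB
  have hBy : y.val - 1 = fa j B := by rw [hjb, fu_val, hB, map_sub, map_one]
  rw [hBy, ← map_mul, rank_fa j D] at hN2
  have hr : (B * B).rank = 1 :=
    Nat.eq_of_mul_eq_mul_left (Nat.pow_pos (n := t) hk0) (hN2.trans (mul_one _).symm)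
  have hB3 : B * B * B = 0 := by
    rw [hBy, ← map_mul, ← map_mul] at hN3
    exact fa_injective hk0 j (hN3.trans (map_zero _).symm)
  obtain ⟨z, hz, hspan⟩ : ∃ z, z ≠ 0 ∧
      LinearMap.range (Matrix.mulVecLin (B * B)) = Submodule.span F {z} := by
    obtain ⟨z, hz, hz0⟩ := Submodule.exists_mem_ne_zero_of_ne_bot
      (p := LinearMap.range (Matrix.mulVecLin (B * B))) (fun h => by
        rw [Matrix.rank, h, finrank_bot] at hr; omega)
    exact ⟨z, hz0, (Submodule.eq_of_le_of_finrank_le ((Submodule.span_singleton_le_iff_mem _ _).2 hz)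
      (by rw [finrank_span_singleton hz0]; exact hr.le)).symm⟩
  refine ⟨j, b, hjb, hb, z, hz, ?_, hspan⟩
  obtain ⟨v, hv⟩ : z ∈ LinearMap.range (Matrix.mulVecLin (B * B)) :=
    hspan ▸ Submodule.mem_span_singleton_self z
  rw [Matrix.mulVecLin_apply, ← Matrix.mulVec_mulVec] at hv
  have hBz : B *ᵥ z = 0 := by rw [← hv, Matrix.mulVec_mulVec, Matrix.mulVec_mulVec, hB3, Matrix.zero_mulVec]
  have hbz : b.val *ᵥ z = z := by
    rw [hB, Matrix.sub_mulVec, Matrix.one_mulVec, sub_eq_zero] at hBz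
    exact hBz
  set w := B *ᵥ v
  conv_lhs => arg 1; arg 2; rw [← hv]
  show D.formW ((b.val - 1) *ᵥ w) z = 0
  rw [Matrix.sub_mulVec, Matrix.one_mulVec, map_sub, LinearMap.sub_apply, sub_eq_zero]
  conv_lhs => rw [← hbz]
  exact D.spaceW.B_act (D.mem_of_iso hb) _ _

end Dia

end Cfsg.Lib.Linear.OTWreath
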