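import Cfsg.Agent.Lib.Linear.OWreath.Bridge
import Cfsg.Agent.Lib.Linear.OOTensor.Full

/-!
# The tensor power of an orthogonal space in an orthogonal basis

Split at any factor it is the product of two orthogonal spaces.
-/

set_option autoImplicit false
set_option linter.unusedSectionVars false

namespace Cfsg.Lib.Linear.OTWreath

open Cfsg.Geo Cfsg.Lib.Linear.AschGen Cfsg.Lib.Linear.TWreath
open Cfsg.Lib.Linear.OWreath (tens tens_apply tens_single fa_tens psi_tens)
open Cfsg.Lib.Linear.OOTensor (qf Ten)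
open Cfsg.Lib.Linear.Orth (sGL rGL Space)
open scoped Matrix MatrixGroups

variable {F : Type*} [Field F] {k t : ℕ}

/-- A diagonal Gram matrix in odd characteristic. -/
structure Dia (k : ℕ) (F : Type*) [Field F] where
  /-- The norms of the basis vectors. -/
  d : Fin k → F
  ne : ∀ a, d a ≠ 0
  h2 : (2 : F) ≠ 0

namespace Dia

variable (D : Dia k F)

/-- The functional of a vector. -/
def dual (x : Fin k → F) : Fin k → F := fun a => D.d a * x a

/-- The adjoint on one factor. -/
def ad (X : Matrix (Fin k) (Fin k) F) : Matrix (Fin k) (Fin k) F :=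
  Matrix.of fun a b => (D.d a)⁻¹ * X b a * D.d b

theorem ad_mul (X Y : Matrix (Fin k) (Fin k) F) : D.ad (X * Y) = D.ad Y * D.ad X := by
  ext a b
  simp only [ad, Matrix.of_apply, Matrix.mul_apply, Finset.mul_sum, Finset.sum_mul]
  exact Finset.sum_congr rfl fun z _ => by field_simp [D.ne z]

theorem ad_one : D.ad 1 = 1 := by
  ext a b
  simp only [ad, Matrix.of_apply, Matrix.one_apply]
  by_cases h : a = b
  · subst h; simp [D.ne a]
  · simp [h, Ne.symm h]

theorem ad_add (X Y : Matrix (Fin k) (Fin k) F) : D.ad (X + Y) = D.ad X + D.ad Y := by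
  ext a b; simp [ad, mul_add, add_mul]

theorem ad_sub (X Y : Matrix (Fin k) (Fin k) F) : D.ad (X - Y) = D.ad X - D.ad Y := by
  ext a b; simp [ad, mul_sub, sub_mul]

theorem ad_smul (c : F) (X : Matrix (Fin k) (Fin k) F) : D.ad (c • X) = c • D.ad X := by
  ext a b; simp [ad]; ring

theorem ad_ad (X : Matrix (Fin k) (Fin k) F) : D.ad (D.ad X) = X := by
  ext a b
  simp only [ad, Matrix.of_apply]
  field_simp [D.ne a, D.ne b]

/-- The bilinear form of one factor. -/
def formW : LinearMap.BilinForm F (Fin k → F) :=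
  LinearMap.mk₂ F (fun x y => D.dual x ⬝ᵥ y)
    (fun x x' y => by simp [dual, dotProduct, mul_add, add_mul, Finset.sum_add_distrib])
    (fun c x y => by simp [dual, dotProduct, Finset.mul_sum, mul_left_comm, mul_assoc])
    (fun x y y' => dotProduct_add _ _ _)
    (fun c x y => dotProduct_smul _ _ _)

theorem formW_apply (x y : Fin k → F) : D.formW x y = ∑ a, D.d a * x a * y a := rfl

theorem formW_dual (x y : Fin k → F) : D.dual x ⬝ᵥ y = D.formW x y := rfl

theorem formW_symm (x y : Fin k → F) : D.formW x y = D.formW y x := by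
  rw [formW_apply, formW_apply]; exact Finset.sum_congr rfl fun a _ => by ring

theorem formW_single (a : Fin k) (y : Fin k → F) : D.formW (Pi.single a 1) y = D.d a * y a := by
  rw [formW_apply, Finset.sum_eq_single a (fun b _ hb => by rw [Pi.single_eq_of_ne hb, mul_zero, zero_mul])
    (fun h => absurd (Finset.mem_univ _) h), Pi.single_eq_same, mul_one]

theorem formW_nondeg (x : Fin k → F) (h : ∀ y, D.formW x y = 0) : x = 0 := funext fun a => by
  have h1 := h (Pi.single a 1)
  rw [formW_symm, formW_single] at h1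
  exact (mul_eq_zero.1 h1).resolve_left (D.ne a)

/-- An isometry of one factor. -/
def Iso (a : GL (Fin k) F) : Prop := D.ad a.val * a.val = 1

/-- The weight on the tensor power. -/
def dT (x : Idx k t) : F := ∏ l, D.d (x l)

theorem dT_ne (x : Idx k t) : D.dT x ≠ 0 := Finset.prod_ne_zero_iff.2 fun _ _ => D.ne _

theorem dT_split (i : Fin (t + 1)) (z : Idx k (t + 1)) : D.dT z = D.d (z i) * D.dT (i.removeNth z) := by
  simp only [dT, Fin.prod_univ_succAbove _ i]
  rfl

/-- The adjoint on the tensor power. -/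
def adT (M : Matrix (Idx k t) (Idx k t) F) : Matrix (Idx k t) (Idx k t) F :=
  Matrix.of fun a b => (D.dT a)⁻¹ * M b a * D.dT b

theorem adT_mul (M N : Matrix (Idx k t) (Idx k t) F) : D.adT (M * N) = D.adT N * D.adT M := by
  ext a b
  simp only [adT, Matrix.of_apply, Matrix.mul_apply, Finset.mul_sum, Finset.sum_mul]
  exact Finset.sum_congr rfl fun z _ => by field_simp [D.dT_ne z]

theorem adT_one : D.adT (1 : Matrix (Idx k t) (Idx k t) F) = 1 := by
  ext a b
  simp only [adT, Matrix.of_apply, Matrix.one_apply]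
  by_cases h : a = b
  · subst h; simp [D.dT_ne a]
  · simp [h, Ne.symm h]

theorem adT_add (M N : Matrix (Idx k t) (Idx k t) F) : D.adT (M + N) = D.adT M + D.adT N := by
  ext a b; simp [adT, mul_add, add_mul]

theorem adT_sub (M N : Matrix (Idx k t) (Idx k t) F) : D.adT (M - N) = D.adT M - D.adT N := by
  ext a b; simp [adT, mul_sub, sub_mul]

theorem adT_smul (c : F) (M : Matrix (Idx k t) (Idx k t) F) : D.adT (c • M) = c • D.adT M := by
  ext a b; simp [adT]; ring

theorem adT_adT (M : Matrix (Idx k t) (Idx k t) F) : D.adT (D.adT M) = M := by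
  ext a b
  simp only [adT, Matrix.of_apply]
  field_simp [D.dT_ne a, D.dT_ne b]

theorem adT_psi (i : Fin (t + 1)) (M : Matrix (Idx k t) (Idx k t) F) : D.adT (psi i M) = psi i (D.adT M) := by
  ext x y
  simp only [adT, Matrix.of_apply, psi_apply, mul_ite, ite_mul, mul_zero, zero_mul]
  by_cases h : x i = y i
  · rw [if_pos h, if_pos h.symm, D.dT_split i x, D.dT_split i y, h]
    field_simp [D.ne (y i)]
  · rw [if_neg h, if_neg (Ne.symm h)]

theorem adT_fa (i : Fin t) (X : Matrix (Fin k) (Fin k) F) : D.adT (fa i X) = fa i (D.ad X) := by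
  ext x y
  simp only [adT, Matrix.of_apply, fa_apply, powStd_apply, mul_ite, ite_mul, mul_zero, zero_mul]
  by_cases h : ∀ j, j ≠ i → x j = y j
  · rw [if_pos h, if_pos fun j hj => (h j hj).symm]
    have e : D.dT x * D.d (y i) = D.dT y * D.d (x i) := by
      simp only [dT]
      rw [← Finset.mul_prod_erase Finset.univ (fun l => D.d (x l)) (Finset.mem_univ i),
        ← Finset.mul_prod_erase Finset.univ (fun l => D.d (y l)) (Finset.mem_univ i),
        Finset.prod_congr rfl fun l hl => congrArg D.d (h l (Finset.ne_of_mem_erase hl))]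
      ring
    simp only [ad, Matrix.of_apply]
    field_simp [D.dT_ne x, D.ne (x i)]
    linear_combination (-(X (y i) (x i))) * e
  · rw [if_neg h, if_neg fun h' => h fun j hj => (h' j hj).symm]

theorem adT_permMat (σ : Equiv.Perm (Fin t)) :
    D.adT (permMat σ : Matrix (Idx k t) (Idx k t) F) = permMat σ.symm := by
  ext x y
  simp only [adT, permMat, Matrix.of_apply, mul_ite, ite_mul, mul_one, mul_zero, zero_mul]
  have hiff : x = y ∘ σ ↔ y = x ∘ σ.symm := by
    constructor <;> intro h <;> subst h <;> simp [Function.comp_assoc]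
  by_cases h : y = x ∘ σ.symm
  · rw [if_pos h, if_pos (hiff.2 h), h, show D.dT (x ∘ σ.symm) = D.dT x from
      Equiv.prod_comp σ.symm (fun l => D.d (x l)), inv_mul_cancel₀ (D.dT_ne x)]
  · rw [if_neg h, if_neg fun h' => h (hiff.1 h')]

/-- The bilinear form of the tensor power. -/
def formT (t : ℕ) : LinearMap.BilinForm F (Idx k t → F) :=
  LinearMap.mk₂ F (fun x y => ∑ a, D.dT a * x a * y a)
    (fun x x' y => by simp only [Pi.add_apply, mul_add, add_mul, Finset.sum_add_distrib])
    (fun c x y => by simp only [Pi.smul_apply, smul_eq_mul, Finset.mul_sum]; exact Finset.sum_congr rfl fun a _ => by ring)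
    (fun x y y' => by simp only [Pi.add_apply, mul_add, Finset.sum_add_distrib])
    (fun c x y => by simp only [Pi.smul_apply, smul_eq_mul, Finset.mul_sum]; exact Finset.sum_congr rfl fun a _ => by ring)

theorem formT_apply (x y : Idx k t → F) : D.formT t x y = ∑ a, D.dT a * x a * y a := rfl

theorem formT_symm (x y : Idx k t → F) : D.formT t x y = D.formT t y x := by
  rw [formT_apply, formT_apply]; exact Finset.sum_congr rfl fun a _ => by ring

theorem formT_single (a : Idx k t) (y : Idx k t → F) : D.formT t (Pi.single a 1) y = D.dT a * y a := by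
  rw [formT_apply, Finset.sum_eq_single a (fun b _ hb => by rw [Pi.single_eq_of_ne hb, mul_zero, zero_mul])
    (fun h => absurd (Finset.mem_univ _) h), Pi.single_eq_same, mul_one]

theorem formT_nondeg (x : Idx k t → F) (h : ∀ y, D.formT t x y = 0) : x = 0 := funext fun a => by
  have h1 := h (Pi.single a 1)
  rw [formT_symm, formT_single] at h1
  exact (mul_eq_zero.1 h1).resolve_left (D.dT_ne a)

theorem formT_adj (M : Matrix (Idx k t) (Idx k t) F) (u v : Idx k t → F) :
    D.formT t (M *ᵥ u) v = D.formT t u (D.adT M *ᵥ v) := by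
  simp only [formT_apply, Matrix.mulVec, dotProduct, adT, Matrix.of_apply, Finset.mul_sum, Finset.sum_mul]
  rw [Finset.sum_comm]
  exact Finset.sum_congr rfl fun a _ => Finset.sum_congr rfl fun b _ => by field_simp [D.dT_ne a]

/-- The quadratic form of the tensor power. -/
def quadT (t : ℕ) : (Idx k t → F) → F := qf (D.formT t)

theorem space (t : ℕ) : Space (D.quadT t) (D.formT t) := by
  refine ⟨fun c v => ?_, fun u v => ?_, fun v h => D.formT_nondeg v fun y => ?_⟩
  · simp [quadT, qf]; ring
  · simp only [QuadraticMap.polar, quadT, qf, map_add, LinearMap.add_apply, D.formT_symm v u]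
    field_simp [D.h2]
    ring
  · rw [D.formT_symm]; exact h y

/-- The isometry group of the tensor power. -/
abbrev isoV (t : ℕ) : Subgroup (GL (Idx k t) F) := isometryGroup F (D.quadT t)

theorem mem_isoV {g : GL (Idx k t) F} : g ∈ D.isoV t ↔ D.adT g.val * g.val = 1 := by
  refine ⟨fun h => Matrix.ext fun a b => ?_, fun h => Orth.mem_iso.2 fun v => ?_⟩
  · have h1 := (D.space t).B_act h (Pi.single a 1) (Pi.single b 1)
    rw [D.formT_adj, Matrix.mulVec_mulVec, formT_single, formT_single, Matrix.mulVec_single_one, Matrix.col_apply] at h1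
    rw [mul_left_cancel₀ (D.dT_ne a) h1, Matrix.one_apply, Pi.single_apply]
  · simp only [quadT, qf]
    rw [D.formT_adj, Matrix.mulVec_mulVec, h, Matrix.one_mulVec]

theorem isoV_inv {g : GL (Idx k t) F} (hg : g ∈ D.isoV t) : (g⁻¹).val = D.adT g.val :=
  (left_inv_eq_right_inv (D.mem_isoV.1 hg) (Units.mul_inv g)).symm

theorem Iso.inv_val {a : GL (Fin k) F} (h : D.Iso a) : (a⁻¹).val = D.ad a.val :=
  (left_inv_eq_right_inv h (Units.mul_inv a)).symm

theorem fu_mem_isoV {a : GL (Fin k) F} (ha : D.Iso a) (i : Fin t) : fu i a ∈ D.isoV t := by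
  rw [mem_isoV, fu_val, adT_fa, ← map_mul, ha, map_one]

theorem permGL_mem_isoV (σ : Equiv.Perm (Fin t)) : (permGL σ : GL (Idx k t) F) ∈ D.isoV t := by
  rw [mem_isoV]
  show D.adT (permMat σ) * permMat σ = 1
  rw [adT_permMat, permMat_mul, show σ.symm * σ = 1 from inv_mul_cancel σ, permMat_one]

theorem tens_pair (i : Fin (t + 1)) (a : Idx k t → F) (x : Fin k → F) (b : Idx k t → F) (y : Fin k → F) :
    D.formT (t + 1) (tens i a x) (tens i b y) = D.formT t a b * D.formW x y := by
  rw [formT_apply, formT_apply, formW_apply, ← Equiv.sum_comp (Fin.insertNthEquiv (fun _ => Fin k) i),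
    Fintype.sum_prod_type, Finset.sum_mul_sum, Finset.sum_comm]
  refine Finset.sum_congr rfl fun c _ => Finset.sum_congr rfl fun p _ => ?_
  show D.dT (Fin.insertNth (α := fun _ => Fin k) i p c) *
      (a (i.removeNth (Fin.insertNth (α := fun _ => Fin k) i p c)) *
        x (Fin.insertNth (α := fun _ => Fin k) i p c i)) *
    (b (i.removeNth (Fin.insertNth (α := fun _ => Fin k) i p c)) *
      y (Fin.insertNth (α := fun _ => Fin k) i p c i)) = _
  rw [D.dT_split i, Fin.removeNth_insertNth, Fin.insertNth_apply_same]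
  ring

/-- Split at a factor. -/
theorem ten (i : Fin (t + 1)) : Ten (D.quadT (t + 1)) (D.formT (t + 1)) (D.formT t) D.formW (tens i) where
  h2 := D.h2
  space := D.space (t + 1)
  nα := D.formT_nondeg
  sα := D.formT_symm
  nβ := D.formW_nondeg
  sβ := D.formW_symm
  pair := D.tens_pair i
  span := eq_top_iff.2 fun v _ => by
    rw [pi_eq_sum_univ' v]
    exact Submodule.sum_mem _ fun z _ => Submodule.smul_mem _ _
      (Submodule.subset_span ⟨(Pi.single (i.removeNth z) 1, Pi.single (z i) 1), tens_single i z⟩)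

/-- The space of one factor. -/
theorem spaceW : Space (qf D.formW) D.formW := (D.ten (0 : Fin 1)).SW

theorem liftR_eq (i : Fin (t + 1)) (q : GL (Fin k) F) : (D.ten i).liftR q = fu i q :=
  (D.ten i).gl_ext fun a x => by rw [(D.ten i).liftR_act, fu_val, fa_tens]

theorem liftL_eq (i : Fin (t + 1)) (p : GL (Idx k t) F) : (D.ten i).swap.liftR p = psiU i p :=
  (D.ten i).gl_ext fun a x => by rw [(D.ten i).liftL_act, psiU_val, psi_tens]

/-- The symmetric matrix of a vector. -/
def sW (x : Fin k → F) : Matrix (Fin k) (Fin k) F := Matrix.vecMulVec x (D.dual x)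

/-- The skew matrix of two vectors. -/
def nW (x a : Fin k → F) : Matrix (Fin k) (Fin k) F :=
  Matrix.vecMulVec a (D.dual x) - Matrix.vecMulVec x (D.dual a)

theorem vmv_mulVec (u v w : Fin k → F) : Matrix.vecMulVec u (D.dual v) *ᵥ w = D.formW v w • u := by
  rw [Matrix.vecMulVec_mulVec, op_smul_eq_smul]; rfl

theorem ad_vmv (u v : Fin k → F) :
    D.ad (Matrix.vecMulVec u (D.dual v)) = Matrix.vecMulVec v (D.dual u) := by
  ext a b
  simp only [ad, dual, Matrix.of_apply, Matrix.vecMulVec_apply]
  field_simp [D.ne a]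

theorem ad_sW (x : Fin k → F) : D.ad (D.sW x) = D.sW x := D.ad_vmv x x

theorem ad_nW (x a : Fin k → F) : D.ad (D.nW x a) = -D.nW x a := by
  rw [nW, ad_sub, ad_vmv, ad_vmv, neg_sub]

theorem vmv_mul (u v u' v' : Fin k → F) :
    Matrix.vecMulVec u (D.dual v) * Matrix.vecMulVec u' (D.dual v') =
      D.formW v u' • Matrix.vecMulVec u (D.dual v') := by
  rw [Matrix.vecMulVec_mul_vecMulVec, ← formW_dual]
  simp [Matrix.vecMulVec_smul]

theorem sW_mulVec (x w : Fin k → F) : D.sW x *ᵥ w = D.formW x w • x := D.vmv_mulVec x x w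

theorem nW_mulVec (x a w : Fin k → F) : D.nW x a *ᵥ w = D.formW x w • a - D.formW a w • x := by
  rw [nW, Matrix.sub_mulVec, vmv_mulVec, vmv_mulVec]

theorem iso_of_mem {a : GL (Fin k) F} (h : a ∈ isometryGroup F (qf D.formW)) : D.Iso a := by
  refine Matrix.ext fun p q => ?_
  have h1 := D.spaceW.B_act h (Pi.single p 1) (Pi.single q 1)
  rw [formW_apply, formW_single] at h1
  rw [Matrix.mul_apply, Matrix.one_apply]
  simp only [Matrix.mulVec_single_one, Matrix.col_apply] at h1
  rw [show (∑ z, D.ad a.val p z * a.val z q) = (D.d p)⁻¹ * ∑ z, D.d z * a.val z p * a.val z q from by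
    rw [Finset.mul_sum]
    exact Finset.sum_congr rfl fun z _ => by simp only [ad, Matrix.of_apply]; ring, h1, ← mul_assoc,
    inv_mul_cancel₀ (D.ne p), one_mul, Pi.single_apply]

theorem mem_of_iso {a : GL (Fin k) F} (h : D.Iso a) : a ∈ isometryGroup F (qf D.formW) := by
  refine Orth.mem_iso.2 fun v => ?_
  simp only [qf]
  congr 1
  have e : ∀ (M : Matrix (Fin k) (Fin k) F) u w, D.formW (M *ᵥ u) w = D.formW u (D.ad M *ᵥ w) := fun M u w => by
    simp only [formW_apply, Matrix.mulVec, dotProduct, ad, Matrix.of_apply, Finset.mul_sum, Finset.sum_mul]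
    rw [Finset.sum_comm]
    exact Finset.sum_congr rfl fun p _ => Finset.sum_congr rfl fun q _ => by field_simp [D.ne p]
  rw [e, Matrix.mulVec_mulVec, h, Matrix.one_mulVec]

/-- The Siegel element of one factor. -/
noncomputable abbrev uW (x a : Fin k → F) : GL (Fin k) F := sGL (qf D.formW) D.formW x a

theorem uW_val {x a : Fin k → F} (hx : qf D.formW x = 0) (hxa : D.formW x a = 0) :
    (D.uW x a).val = 1 + D.nW x a - qf D.formW a • D.sW x := by
  refine Orth.mat_ext fun w => ?_
  rw [Orth.sGL_act D.spaceW hx hxa, Matrix.sub_mulVec, Matrix.add_mulVec, Matrix.one_mulVec, nW_mulVec,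
    Matrix.smul_mulVec, sW_mulVec]
  module

theorem iso_uW {x a : Fin k → F} (hx : qf D.formW x = 0) (hxa : D.formW x a = 0) : D.Iso (D.uW x a) :=
  D.iso_of_mem (Orth.sGL_mem D.spaceW hx hxa)

theorem long_eq (i : Fin (t + 1)) (x : Fin k → F) (φ : (Idx k t → F) →ₗ[F] (Idx k t → F))
    (v : Idx k (t + 1) → F) :
    (D.ten i).long x φ v = (fa i (D.sW x) * psi i (LinearMap.toMatrix' φ)) *ᵥ v := by
  refine LinearMap.congr_fun ((D.ten i).hom_ext (f := (D.ten i).long x φ)
    (g := Matrix.mulVecLin (fa i (D.sW x) * psi i (LinearMap.toMatrix' φ))) fun a w => ?_) v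
  rw [(D.ten i).long_tau, Matrix.mulVecLin_apply, ← Matrix.mulVec_mulVec, psi_tens, fa_tens, sW_mulVec,
    LinearMap.toMatrix'_mulVec, map_smul, D.formW_symm x w]

end Dia

end Cfsg.Lib.Linear.OTWreath
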